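import Groth.Agent.SiteCoh.Basics
import Mathlib.Topology.Sheaves.Flasque
import Mathlib.Topology.Sheaves.SheafCondition.Sites
import Mathlib.CategoryTheory.Sites.Pullback

/-!
# Cohomology of abelian sheaves on a topological space: flasque sheaves
-/

set_option autoImplicit false

universe u

open CategoryTheory CategoryTheory.Limits CategoryTheory.Abelian Opposite TopologicalSpace

namespace Groth.Agent.SiteCoh

variable {X Y : TopCat.{u}}

lemma isFlasque_of_injective (F : CohTop.Ab X) [Injective F] : TopCat.Sheaf.IsFlasque F where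
  epi {U V} i := by
    rw [AddCommGrpCat.epi_iff_surjective, show i = i.unop.op from rfl]
    exact surjective_map_of_injective F i.unop

/-- Flasque sheaves are acyclic on every open. -/
lemma subsingleton_HU_of_isFlasque (F : CohTop.Ab X) [TopCat.Sheaf.IsFlasque F]
    (U : Opens X) (n : ℕ) : Subsingleton (CohTop.HU F (n + 1) U) :=
  subsingleton_HU_of_class (fun G => TopCat.Sheaf.IsFlasque G) (fun _ => True)
    (fun G hG => by
      have : TopCat.Sheaf.IsFlasque (injEmbed G).X₁ := hG
      have : TopCat.Sheaf.IsFlasque (injEmbed G).X₂ := isFlasque_of_injective (Injective.under G)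
      exact ⟨TopCat.Sheaf.IsFlasque.of_shortExact_of_isFlasque₁₂ (injEmbed_shortExact G),
        fun U _ => (AddCommGrpCat.epi_iff_surjective _).1
          (TopCat.Sheaf.IsFlasque.epi_of_shortExact (injEmbed_shortExact G))⟩)
    (inferInstanceAs (TopCat.Sheaf.IsFlasque F)) trivial n

/-- Global cohomology is cohomology on the whole space. -/
noncomputable def hUTopEquiv (F : CohTop.Ab X) (n : ℕ) : CohTop.HU F n ⊤ ≃+ CohTop.H F n :=
  hUEquivH F n isTerminalTop

lemma subsingleton_H_of_isFlasque (F : CohTop.Ab X) [TopCat.Sheaf.IsFlasque F] (n : ℕ) :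
    Subsingleton (CohTop.H F (n + 1)) :=
  subsingleton_H_of_HU isTerminalTop (subsingleton_HU_of_isFlasque F ⊤ n)

/-- Higher direct images of spaces as sheafified cohomology presheaves. -/
noncomputable def rpushTopIso (f : X ⟶ Y) (q : ℕ) :
    CohTop.Rpush f q ≅
      Sheaf.cohomologyPresheafFunctor.{u} (Opens.grothendieckTopology X) q ⋙
      ((Functor.whiskeringLeft _ _ AddCommGrpCat.{u}).obj (Opens.map f).op ⋙
        presheafToSheaf (Opens.grothendieckTopology Y) AddCommGrpCat.{u}) :=
  rpushIso (Opens.grothendieckTopology X) (Opens.grothendieckTopology Y) (Opens.map f) q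

lemma isZero_rpushTop_of_subsingleton (f : X ⟶ Y) (F : CohTop.Ab X) (q : ℕ)
    (h : ∀ V : Opens Y, Subsingleton (CohTop.HU F q ((Opens.map f).obj V))) :
    IsZero ((CohTop.Rpush f q).obj F) :=
  isZero_rpush_of_subsingleton (Opens.grothendieckTopology X) (Opens.grothendieckTopology Y)
    (Opens.map f) F q h

lemma isZero_rpush_of_isFlasque (f : X ⟶ Y) (F : CohTop.Ab X) [TopCat.Sheaf.IsFlasque F] (q : ℕ) :
    IsZero ((CohTop.Rpush f (q + 1)).obj F) :=
  isZero_rpushTop_of_subsingleton f F (q + 1) fun _ => subsingleton_HU_of_isFlasque F _ q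

attribute [local instance] reflectsLimits_of_reflectsIsomorphisms in
instance pull_preservesFiniteLimits (f : X ⟶ Y) : PreservesFiniteLimits (CohTop.pull f) := by
  have : PreservesFiniteLimits ((Opens.map f).op.lan : (_ ⥤ _ ⥤ AddCommGrpCat.{u})) :=
    lan_preservesFiniteLimits_of_flat _ _
  exact Functor.sheafPullbackConstruction.preservesFiniteLimits _ _ _ _

lemma injective_push (f : X ⟶ Y) (I : CohTop.Ab X) [hI : Injective I] :
    Injective ((CohTop.push f).obj I) :=
  haveI : (TopCat.Sheaf.pullback AddCommGrpCat.{u} f).PreservesMonomorphisms :=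
    inferInstanceAs (CohTop.pull f).PreservesMonomorphisms
  @Injective.injective_of_adjoint _ _ _ _ _ _ _ (TopCat.Sheaf.pullbackPushforwardAdjunction AddCommGrpCat.{u} f) I hI

end Groth.Agent.SiteCoh
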