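import Groth.Agent.SiteCoh.SheafTools
import Mathlib.Algebra.Category.Grp.LeftExactFunctor
import Mathlib.CategoryTheory.Sites.Pullback

/-!
# Left exactness of the pullback of abelian sheaves from that of sheaves of sets
-/

set_option autoImplicit false

universe v u w

open CategoryTheory CategoryTheory.Limits Opposite

namespace Groth.Agent.SiteCoh

/-- A natural map of sets between additive functors, on one object. -/
def natFun {A : Type w} [Category.{v} A] {F G : A ⥤ AddCommGrpCat.{u}}
    (τ : F ⋙ forget AddCommGrpCat.{u} ⟶ G ⋙ forget AddCommGrpCat.{u}) (X : A) :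
    F.obj X → G.obj X :=
  fun x => τ.app X x

/-- A natural map of sets between additive functors to abelian groups is additive. -/
lemma natural_map_add {A : Type w} [Category.{v} A] [Preadditive A] [HasBinaryBiproducts A]
    (F G : A ⥤ AddCommGrpCat.{u}) [F.Additive] [G.Additive]
    (τ : F ⋙ forget AddCommGrpCat.{u} ⟶ G ⋙ forget AddCommGrpCat.{u}) (X : A) (x y : F.obj X) :
    natFun τ X (x + y) = natFun τ X x + natFun τ X y := by
  have nat : ∀ {X Y : A} (f : X ⟶ Y) (a : F.obj X),
      natFun τ Y (F.map f a) = G.map f (natFun τ X a) :=
    fun f a => ConcreteCategory.congr_hom (τ.naturality f) a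
  let z : F.obj (X ⊞ X) := F.map biprod.inl x + F.map biprod.inr y
  have h₁ : F.map biprod.fst z = x := by
    simp [z, ← ConcreteCategory.comp_apply, ← Functor.map_comp]
  have h₂ : F.map biprod.snd z = y := by
    simp [z, ← ConcreteCategory.comp_apply, ← Functor.map_comp]
  have h₃ : F.map (biprod.desc (𝟙 X) (𝟙 X)) z = x + y := by
    simp [z, ← ConcreteCategory.comp_apply, ← Functor.map_comp]
  have h₄ : G.map (biprod.desc (𝟙 X) (𝟙 X)) (natFun τ _ z) =
      G.map biprod.fst (natFun τ _ z) + G.map biprod.snd (natFun τ _ z) := by
    have : biprod.desc (𝟙 X) (𝟙 X) = biprod.fst + biprod.snd (X := X) := by ext <;> simp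
    rw [this, Functor.map_add]
    rfl
  rw [← nat, ← nat, ← nat, h₁, h₂, h₃] at h₄
  exact h₄

section

variable {C D : Type u} [SmallCategory C] [SmallCategory D] (J : GrothendieckTopology C)
  (K : GrothendieckTopology D)

/-- Underlying sheaves of sets. -/
noncomputable abbrev underlying : Sheaf K AddCommGrpCat.{u} ⥤ Sheaf K (Type u) :=
  sheafCompose K (forget AddCommGrpCat.{u})

instance underlying_preservesFiniteLimits : PreservesFiniteLimits (underlying K) where
  preservesFiniteLimits I _ _ :=
    have : PreservesLimitsOfShape I (underlying K ⋙ sheafToPresheaf K (Type u)) :=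
      inferInstanceAs (PreservesLimitsOfShape I (sheafToPresheaf K AddCommGrpCat.{u} ⋙
        (Functor.whiskeringRight Dᵒᵖ _ _).obj (forget AddCommGrpCat.{u})))
    preservesLimitsOfShape_of_reflects_of_preserves _ (sheafToPresheaf K (Type u))

attribute [local instance] Abelian.hasFiniteBiproducts

variable (u : D ⥤ C) [u.IsContinuous K J] [PreservesFiniteLimits (u.sheafPullback (Type u) K J)]

/-- Sections of the set-valued pullback, as a left exact functor. -/
noncomputable def pullSections : Cᵒᵖ ⥤ (Sheaf K AddCommGrpCat.{u} ⥤ₗ Type u) :=
  ObjectProperty.lift _ ((underlying K ⋙ u.sheafPullback (Type u) K J ⋙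
      sheafToPresheaf J (Type u)).flip) fun V => by
    rw [leftExactFunctor_iff]
    have := comp_preservesFiniteLimits (sheafToPresheaf J (Type u))
      ((evaluation Cᵒᵖ (Type u)).obj V)
    have := comp_preservesFiniteLimits (u.sheafPullback (Type u) K J)
      (sheafToPresheaf J (Type u) ⋙ (evaluation Cᵒᵖ (Type u)).obj V)
    exact comp_preservesFiniteLimits (underlying K)
      (u.sheafPullback (Type u) K J ⋙ sheafToPresheaf J (Type u) ⋙ (evaluation Cᵒᵖ (Type u)).obj V)

/-- The pullback of abelian sheaves, as a functor to presheaves. -/
noncomputable def pullPre : Sheaf K AddCommGrpCat.{u} ⥤ Cᵒᵖ ⥤ AddCommGrpCat.{u} :=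
  (pullSections J K u ⋙
    (AddCommGrpCat.leftExactFunctorForgetEquivalence _).inverse ⋙
    ObjectProperty.ι _).flip

/-- Its underlying presheaf of sets is that of the set-valued pullback. -/
noncomputable def pullPreForgetIso (F : Sheaf K AddCommGrpCat.{u}) :
    (pullPre J K u).obj F ⋙ forget AddCommGrpCat.{u} ≅
      ((u.sheafPullback (Type u) K J).obj ((underlying K).obj F)).obj :=
  NatIso.ofComponents (fun V => Iso.refl _) (fun g => rfl)

/-- The pullback of abelian sheaves built on the pullback of sheaves of sets. -/
noncomputable def pullAb : Sheaf K AddCommGrpCat.{u} ⥤ Sheaf J AddCommGrpCat.{u} :=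
  ObjectProperty.lift _ (pullPre J K u) fun F =>
    (Presheaf.isSheaf_iff_isSheaf_forget J _ (forget AddCommGrpCat.{u})).2
      ((Presheaf.isSheaf_of_iso_iff (pullPreForgetIso J K u F)).2
        ((u.sheafPullback (Type u) K J).obj ((underlying K).obj F)).property)

/-- `pullAb` lifts the pullback of sheaves of sets. -/
noncomputable def pullAbUnderlyingIso :
    pullAb J K u ⋙ underlying J ≅ underlying K ⋙ u.sheafPullback (Type u) K J :=
  NatIso.ofComponents (fun F => (fullyFaithfulSheafToPresheaf J (Type u)).preimageIso
    (pullPreForgetIso J K u F)) (fun φ => by ext V x; rfl)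

instance : PreservesFiniteLimits (pullAb J K u) where
  preservesFiniteLimits I _ _ :=
    have : PreservesLimitsOfShape I (pullAb J K u ⋙ underlying J ⋙ sheafToPresheaf J (Type u)) :=
      preservesLimitsOfShape_of_natIso
        (Functor.isoWhiskerRight (pullAbUnderlyingIso J K u) (sheafToPresheaf J (Type u))).symm
    preservesLimitsOfShape_of_reflects_of_preserves _ (underlying J ⋙ sheafToPresheaf J (Type u))

instance : (pullAb J K u).Additive := Functor.additive_of_preserves_binary_products _

/-- The unit. -/
noncomputable def pullAbUnit :
    𝟭 (Sheaf K AddCommGrpCat.{u}) ⟶ pullAb J K u ⋙ CohSite.push J K u where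
  app F := ⟨{
    app := fun V => AddCommGrpCat.ofHom (AddMonoidHom.mk'
      (((u.sheafAdjunctionContinuous (Type u) K J).unit.app ((underlying K).obj F)).hom.app V)
      (natural_map_add (sheafToPresheaf K AddCommGrpCat.{u} ⋙ (evaluation Dᵒᵖ _).obj V)
        (pullAb J K u ⋙ CohSite.push J K u ⋙
          sheafToPresheaf K AddCommGrpCat.{u} ⋙ (evaluation Dᵒᵖ _).obj V)
        { app := fun G => ((u.sheafAdjunctionContinuous (Type u) K J).unit.app
            ((underlying K).obj G)).hom.app V
          naturality := fun G G' φ => congrArg (fun m => m.hom.app V)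
            ((u.sheafAdjunctionContinuous (Type u) K J).unit.naturality ((underlying K).map φ)) }
        F))
    naturality := fun V W g => by
      ext x
      exact ConcreteCategory.congr_hom
        (((u.sheafAdjunctionContinuous (Type u) K J).unit.app
          ((underlying K).obj F)).hom.naturality g) x }⟩
  naturality F G φ := by
    ext V x
    have h := ConcreteCategory.congr_hom
      (NatTrans.congr_app (congrArg InducedCategory.Hom.hom
        ((u.sheafAdjunctionContinuous (Type u) K J).unit.naturality ((underlying K).map φ))) V) x
    exact h

/-- The counit. -/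
noncomputable def pullAbCounit :
    CohSite.push J K u ⋙ pullAb J K u ⟶ 𝟭 (Sheaf J AddCommGrpCat.{u}) where
  app H := ⟨{
    app := fun V => AddCommGrpCat.ofHom (AddMonoidHom.mk'
      (((u.sheafAdjunctionContinuous (Type u) K J).counit.app ((underlying J).obj H)).hom.app V)
      (natural_map_add (CohSite.push J K u ⋙ pullAb J K u ⋙
          sheafToPresheaf J AddCommGrpCat.{u} ⋙ (evaluation Cᵒᵖ _).obj V)
        (sheafToPresheaf J AddCommGrpCat.{u} ⋙ (evaluation Cᵒᵖ _).obj V)
        { app := fun G => ((u.sheafAdjunctionContinuous (Type u) K J).counit.app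
            ((underlying J).obj G)).hom.app V
          naturality := fun G G' φ => congrArg (fun m => m.hom.app V)
            ((u.sheafAdjunctionContinuous (Type u) K J).counit.naturality ((underlying J).map φ)) }
        H))
    naturality := fun V W g => by
      ext x
      exact ConcreteCategory.congr_hom
        (((u.sheafAdjunctionContinuous (Type u) K J).counit.app
          ((underlying J).obj H)).hom.naturality g) x }⟩
  naturality F G φ := by
    ext V x
    have h := ConcreteCategory.congr_hom
      (NatTrans.congr_app (congrArg InducedCategory.Hom.hom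
        ((u.sheafAdjunctionContinuous (Type u) K J).counit.naturality ((underlying J).map φ))) V) x
    exact h

/-- `pullAb` is left adjoint to direct image. -/
noncomputable def pullAbAdj : pullAb J K u ⊣ CohSite.push J K u :=
  Adjunction.mk'
    { homEquiv := fun F H =>
        { toFun := fun f => (pullAbUnit J K u).app F ≫ (CohSite.push J K u).map f
          invFun := fun g => (pullAb J K u).map g ≫ (pullAbCounit J K u).app H
          left_inv := fun f => by
            ext V x
            have h := ((u.sheafAdjunctionContinuous (Type u) K J).homEquiv _ _).left_inv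
                ((pullAbUnderlyingIso J K u).inv.app F ≫ (underlying J).map f)
            have h' := ConcreteCategory.congr_hom
              (NatTrans.congr_app (congrArg InducedCategory.Hom.hom h) V) x
            simp only [Adjunction.homEquiv_unit, Adjunction.homEquiv_counit, Equiv.toFun_as_coe,
              Equiv.invFun_as_coe] at h'
            exact h' 
          right_inv := fun g => by
            ext V x
            have h := ((u.sheafAdjunctionContinuous (Type u) K J).homEquiv
                ((underlying K).obj F) ((underlying J).obj H)).right_inv ((underlying K).map g)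
            have h' := ConcreteCategory.congr_hom
              (NatTrans.congr_app (congrArg InducedCategory.Hom.hom h) V) x
            simp only [Adjunction.homEquiv_unit, Adjunction.homEquiv_counit, Equiv.toFun_as_coe,
              Equiv.invFun_as_coe] at h'
            exact h' }
      unit := pullAbUnit J K u
      counit := pullAbCounit J K u
      homEquiv_unit := fun {F H} => rfl
      homEquiv_counit := fun {F H} => rfl }

/-- The pullback of abelian sheaves is left exact when that of sheaves of sets is. -/
theorem sheafPullback_addCommGrp_preservesFiniteLimits :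
    PreservesFiniteLimits (u.sheafPullback AddCommGrpCat.{u} K J) :=
  preservesFiniteLimits_of_natIso
    ((pullAbAdj J K u).leftAdjointUniq (u.sheafAdjunctionContinuous AddCommGrpCat.{u} K J))

end

end Groth.Agent.SiteCoh
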