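import Groth.Agent.SiteCoh.Space
import Groth.Agent.SiteCoh.LeftExactPull

/-!
# Degenerate Leray: acyclic resolutions pushed forward
-/

set_option autoImplicit false

universe v₁ v₂ v₃ u₁ u₂ u₃ u

open CategoryTheory CategoryTheory.Limits Opposite

namespace Groth.Agent.SiteCoh

section

variable {A : Type u₁} [Category.{v₁} A] [Abelian A] [HasInjectiveResolutions A]
variable {B : Type u₂} [Category.{v₂} B] [Abelian B]
variable {D : Type u₃} [Category.{v₃} D] [Abelian D]

omit [HasInjectiveResolutions A] in
lemma map_ι_comp_d (G : A ⥤ B) [G.Additive] {F : A} (I : InjectiveResolution F) :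
    (G.map (I.ι.f 0) : G.obj F ⟶ G.obj (I.cocomplex.X 0)) ≫ G.map (I.cocomplex.d 0 1) = 0 :=
  ((G.map_comp _ _).symm.trans (congrArg G.map I.ι_f_zero_comp_complex_d)).trans (G.map_zero _ _)

/-- The image of an injective resolution of `F` under a left exact functor `G` preserving
injective objects, when `F` is `G`-acyclic. -/
noncomputable def mapAcyclicResolution (G : A ⥤ B) [G.Additive] [PreservesFiniteLimits G]
    [G.PreservesInjectiveObjects] {F : A} (h : ∀ q : ℕ, IsZero ((G.rightDerived (q + 1)).obj F))
    (I : InjectiveResolution F) : InjectiveResolution (G.obj F) where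
  cocomplex := (G.mapHomologicalComplex _).obj I.cocomplex
  injective n := G.injective_obj_of_injective (I.injective n)
  ι := (CochainComplex.fromSingle₀Equiv _ _).symm ⟨G.map (I.ι.f 0),
    map_ι_comp_d G I⟩
  quasiIso := ⟨fun n => by
    cases n with
    | zero =>
      rw [CochainComplex.quasiIsoAt₀_iff, ShortComplex.quasiIso_iff_of_zeros]
      · refine (ShortComplex.exact_and_mono_f_iff_of_iso ?_).2
          ((ShortComplex.exact_and_mono_f_iff_f_is_kernel
            (ShortComplex.mk (G.map (I.ι.f 0)) (G.map (I.cocomplex.d 0 1))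
              (map_ι_comp_d G I))).2 ⟨KernelFork.mapIsLimit _ I.isLimitKernelFork G⟩)
        exact ShortComplex.isoMk (Iso.refl _) (Iso.refl _) (Iso.refl _)
          ((Category.id_comp _).trans (((CochainComplex.fromSingle₀Equiv_symm_apply_f_zero (C := (G.mapHomologicalComplex _).obj I.cocomplex) (G.map (I.ι.f 0)) (map_ι_comp_d G I)).symm).trans (Category.comp_id _).symm))
          ((Category.id_comp _).trans (Category.comp_id _).symm)
      all_goals simp; rfl
    | succ n =>
      rw [quasiIsoAt_iff_exactAt _ _ (CochainComplex.exactAt_succ_single_obj _ _),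
        HomologicalComplex.exactAt_iff_isZero_homology]
      exact (h n).of_iso (I.isoRightDerivedObj G (n + 1)).symm⟩

/-- `R^n(G ⋙ H) F ≅ R^n H (G F)` for a `G`-acyclic `F`. -/
noncomputable def rightDerivedCompAcyclicObjIso [HasInjectiveResolutions B] (G : A ⥤ B)
    [G.Additive] [PreservesFiniteLimits G] [G.PreservesInjectiveObjects] (H : B ⥤ D) [H.Additive]
    {F : A} (h : ∀ q : ℕ, IsZero ((G.rightDerived (q + 1)).obj F)) (n : ℕ) :
    ((G ⋙ H).rightDerived n).obj F ≅ (H.rightDerived n).obj (G.obj F) :=
  (injectiveResolution F).isoRightDerivedObj (G ⋙ H) n ≪≫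
    ((mapAcyclicResolution G h (injectiveResolution F)).isoRightDerivedObj H n).symm

end

section

variable {C D : Type u} [SmallCategory C] [SmallCategory D] (J : GrothendieckTopology C)
  (K : GrothendieckTopology D) (w : D ⥤ C) [w.IsContinuous K J]

/-- For a direct-image acyclic sheaf, the cohomology presheaves of the direct image are those of
the sheaf, restricted. -/
noncomputable def cohomologyPresheafPushIso [(CohSite.push J K w).PreservesInjectiveObjects]
    [PreservesFiniteLimits (CohSite.push J K w)] {F : Sheaf J AddCommGrpCat.{u}}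
    (h : ∀ q : ℕ, IsZero ((CohSite.Rpush J K w (q + 1)).obj F)) (n : ℕ) :
    (Sheaf.cohomologyPresheafFunctor.{u} K n).obj ((CohSite.push J K w).obj F) ≅
      w.op ⋙ (Sheaf.cohomologyPresheafFunctor.{u} J n).obj F :=
  ((sectionsDerivedIso K n).app _).symm ≪≫
    (rightDerivedCompAcyclicObjIso (CohSite.push J K w)
      (sheafToPresheaf K AddCommGrpCat.{u}) h n).symm ≪≫
    ((rightDerivedCongr (G := CohSite.push J K w ⋙ sheafToPresheaf K AddCommGrpCat.{u})
      (G' := sheafToPresheaf J AddCommGrpCat.{u} ⋙
        (Functor.whiskeringLeft _ _ AddCommGrpCat.{u}).obj w.op) (Iso.refl _) n).app F) ≪≫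
    ((rightDerivedCompExactIso (sheafToPresheaf J AddCommGrpCat.{u})
      ((Functor.whiskeringLeft _ _ AddCommGrpCat.{u}).obj w.op) n).app F) ≪≫
    ((Functor.whiskeringLeft _ _ AddCommGrpCat.{u}).obj w.op).mapIso ((sectionsDerivedIso J n).app F)

/-- Degenerate Leray on an object. -/
noncomputable def hUPushEquiv [(CohSite.push J K w).PreservesInjectiveObjects]
    [PreservesFiniteLimits (CohSite.push J K w)] {F : Sheaf J AddCommGrpCat.{u}}
    (h : ∀ q : ℕ, IsZero ((CohSite.Rpush J K w (q + 1)).obj F)) (n : ℕ) (V : D) :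
    CohSite.HU ((CohSite.push J K w).obj F) n V ≃+ CohSite.HU F n (w.obj V) :=
  ((cohomologyPresheafPushIso J K w h n).app (op V)).addCommGroupIsoToAddEquiv

instance push_preservesFiniteLimits : PreservesFiniteLimits (CohSite.push J K w) :=
  have : (CohSite.push J K w).IsRightAdjoint :=
    (w.sheafAdjunctionContinuous AddCommGrpCat.{u} K J).isRightAdjoint
  ⟨fun _ _ _ => inferInstance⟩

lemma push_preservesInjectiveObjects [PreservesFiniteLimits (w.sheafPullback (Type u) K J)] :
    (CohSite.push J K w).PreservesInjectiveObjects :=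
  have : PreservesFiniteLimits (w.sheafPullback AddCommGrpCat.{u} K J) :=
    sheafPullback_addCommGrp_preservesFiniteLimits J K w
  Functor.preservesInjectiveObjects_of_adjunction_of_preservesMonomorphisms
    (w.sheafAdjunctionContinuous AddCommGrpCat.{u} K J)

end

end Groth.Agent.SiteCoh

namespace Groth.Agent.SiteCoh

open TopologicalSpace

section

variable {X Y : TopCat.{u}} (f : X ⟶ Y)

instance pushTop_preservesFiniteLimits : PreservesFiniteLimits (CohTop.push f) :=
  have : (CohTop.push f).IsRightAdjoint :=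
    (TopCat.Sheaf.pullbackPushforwardAdjunction AddCommGrpCat.{u} f).isRightAdjoint
  ⟨fun _ _ _ => inferInstance⟩

instance pushTop_preservesInjectiveObjects : (CohTop.push f).PreservesInjectiveObjects where
  injective_obj _ := injective_push f _

/-- Higher direct images of an exact direct image vanish. -/
lemma isZero_rightDerived_of_exact {A B : Type*} [Category* A] [Category* B] [Abelian A]
    [Abelian B] [HasInjectiveResolutions A] (G : A ⥤ B) [G.Additive] [PreservesFiniteLimits G]
    [PreservesFiniteColimits G] (F : A) (q : ℕ) : IsZero ((G.rightDerived (q + 1)).obj F) :=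
  IsZero.of_iso (G.map_isZero (isZero_rightDerived_id F q))
    ((rightDerivedCompExactIso (𝟭 A) G (q + 1)).app F)

/-- The direct image along a closed embedding preserves epimorphisms. -/
lemma preservesEpimorphisms_push_of_isClosedEmbedding (hf : Topology.IsClosedEmbedding f) :
    (CohTop.push f).PreservesEpimorphisms where
  preserves {F G} φ hφ := by
    rw [← Sheaf.isLocallySurjective_iff_epi'] at hφ ⊢
    constructor
    intro V s y hy
    by_cases hyX : y ∈ Set.range f
    · obtain ⟨x, rfl⟩ := hyX
      obtain ⟨U, i, ⟨t, ht⟩, hxU⟩ := hφ.imageSieve_mem (U := (Opens.map f).obj V) s x hy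
      obtain ⟨W, hW, hWU⟩ := hf.isInducing.isOpen_iff.1 U.2
      refine ⟨⟨W, hW⟩ ⊓ V, homOfLE inf_le_right, ?_, ?_, hy⟩
      swap
      · exact (Set.ext_iff.1 hWU x).2 hxU
      · refine ⟨F.obj.map (homOfLE (?_ : (Opens.map f).obj (⟨W, hW⟩ ⊓ V) ≤ U)).op t, ?_⟩
        · intro a ha
          exact (Set.ext_iff.1 hWU a).1 ha.1
        · exact (NatTrans.naturality_apply φ.hom _ t).trans ((congrArg _ ht).trans
            ((ConcreteCategory.congr_hom (G.obj.map_comp i.op _) s).symm.trans
              (ConcreteCategory.congr_hom (congrArg G.obj.map (Subsingleton.elim _ _)) s)))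
    · refine ⟨⟨(Set.range f)ᶜ, hf.isClosed_range.isOpen_compl⟩ ⊓ V, homOfLE inf_le_right,
        ?_, hyX, hy⟩
      refine ⟨0, ?_⟩
      have hbot : (Opens.map f).obj (⟨(Set.range f)ᶜ, hf.isClosed_range.isOpen_compl⟩ ⊓ V) = ⊥ :=
        Opens.ext (Set.eq_empty_of_forall_notMem fun a ha => ha.1 ⟨a, rfl⟩)
      have hz : Subsingleton (G.obj.obj (op ((Opens.map f).obj
          (⟨(Set.range f)ᶜ, hf.isClosed_range.isOpen_compl⟩ ⊓ V)))) := by
        rw [hbot]
        exact AddCommGrpCat.subsingleton_of_isZero ((TopCat.Sheaf.isTerminalOfEmpty G).isZero)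
      exact hz.elim _ _

lemma isZero_rpush_of_isClosedEmbedding (hf : Topology.IsClosedEmbedding f) (F : CohTop.Ab X)
    (q : ℕ) : IsZero ((CohTop.Rpush f (q + 1)).obj F) :=
  have := preservesEpimorphisms_push_of_isClosedEmbedding f hf
  have : PreservesFiniteColimits (CohTop.push f) := by
    rw [Functor.preservesFiniteColimits_iff_forall_exact_map_and_epi]
    intro S hS
    have := hS.epi_g
    exact ⟨((Functor.preservesFiniteLimits_iff_forall_exact_map_and_mono _).1 inferInstance S
      hS).1, inferInstance⟩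
  isZero_rightDerived_of_exact _ F q

/-- Degenerate Leray for spaces, on an open. -/
noncomputable def hUPushTopEquiv {F : CohTop.Ab X}
    (h : ∀ q : ℕ, IsZero ((CohTop.Rpush f (q + 1)).obj F)) (n : ℕ) (V : Opens Y) :
    CohTop.HU ((CohTop.push f).obj F) n V ≃+ CohTop.HU F n ((Opens.map f).obj V) :=
  haveI : (CohSite.push (Opens.grothendieckTopology X) (Opens.grothendieckTopology Y)
      (Opens.map f)).PreservesInjectiveObjects := pushTop_preservesInjectiveObjects f
  hUPushEquiv (Opens.grothendieckTopology X) (Opens.grothendieckTopology Y) (Opens.map f) h n V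

/-- Degenerate Leray for spaces. -/
noncomputable def hPushEquiv {F : CohTop.Ab X}
    (h : ∀ q : ℕ, IsZero ((CohTop.Rpush f (q + 1)).obj F)) (n : ℕ) :
    CohTop.H F n ≃+ CohTop.H ((CohTop.push f).obj F) n :=
  ((hUTopEquiv ((CohTop.push f).obj F) n).symm.trans
    ((hUPushTopEquiv f h n ⊤).trans (hUTopEquiv F n))).symm

end

end Groth.Agent.SiteCoh
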