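import Mathlib.CategoryTheory.Abelian.RightDerived
import Mathlib.Algebra.Homology.ShortComplex.PreservesHomology
import Mathlib.Algebra.Homology.ShortComplex.HomologicalComplex
import Mathlib.Algebra.Homology.Additive
import Mathlib.CategoryTheory.Preadditive.Injective.Preserves

/-!
# Right derived functors: composition with an exact functor, natural isomorphisms
-/

set_option autoImplicit false

universe v₁ v₂ v₃ u₁ u₂ u₃

open CategoryTheory CategoryTheory.Limits

namespace Groth.Agent.SiteCoh

variable {A : Type u₁} [Category.{v₁} A] [Abelian A] [HasInjectiveResolutions A]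
variable {B : Type u₂} [Category.{v₂} B] [Abelian B]
variable {D : Type u₃} [Category.{v₃} D] [Abelian D]

/-- A natural isomorphism induces one on right derived functors. -/
noncomputable def rightDerivedCongr {G G' : A ⥤ B} [G.Additive] [G'.Additive] (e : G ≅ G')
    (n : ℕ) : G.rightDerived n ≅ G'.rightDerived n where
  hom := NatTrans.rightDerived e.hom n
  inv := NatTrans.rightDerived e.inv n
  hom_inv_id := by rw [← NatTrans.rightDerived_comp, e.hom_inv_id, NatTrans.rightDerived_id]
  inv_hom_id := by rw [← NatTrans.rightDerived_comp, e.inv_hom_id, NatTrans.rightDerived_id]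

/-- `R^n(L ∘ G) ≅ L ∘ R^n G` for an exact functor `L`. -/
noncomputable def rightDerivedCompExactIso (G : A ⥤ B) [G.Additive] (L : B ⥤ D) [L.Additive]
    [PreservesFiniteLimits L] [PreservesFiniteColimits L] (n : ℕ) :
    (G ⋙ L).rightDerived n ≅ G.rightDerived n ⋙ L :=
  NatIso.ofComponents
    (fun F => (injectiveResolution F).isoRightDerivedObj (G ⋙ L) n ≪≫
      (((G.mapHomologicalComplex _).obj (injectiveResolution F).cocomplex).sc n).mapHomologyIso L ≪≫
      L.mapIso ((injectiveResolution F).isoRightDerivedObj G n).symm)
    (fun {F F'} g => by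
      have h₁ := InjectiveResolution.isoRightDerivedObj_hom_naturality g (injectiveResolution F)
        (injectiveResolution F') (InjectiveResolution.desc g _ _)
        (InjectiveResolution.desc_commutes_zero _ _ _) (G ⋙ L) n
      have h₂ := InjectiveResolution.isoRightDerivedObj_inv_naturality g (injectiveResolution F)
        (injectiveResolution F') (InjectiveResolution.desc g _ _)
        (InjectiveResolution.desc_commutes_zero _ _ _) G n
      have h₃ := ShortComplex.mapHomologyIso_hom_naturality
        ((HomologicalComplex.shortComplexFunctor B (ComplexShape.up ℕ) n).map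
          ((G.mapHomologicalComplex _).map (InjectiveResolution.desc g (injectiveResolution F')
            (injectiveResolution F)))) L
      change _ ≫ (_ ≫ _ ≫ L.map _) = (_ ≫ _ ≫ L.map _) ≫ L.map _
      rw [reassoc_of% h₁, Category.assoc, Category.assoc]
      congr 1
      refine ((Category.assoc _ _ _).symm.trans (congrArg (fun m => m ≫ L.map _) h₃)).trans ?_
      rw [Category.assoc, ← L.map_comp, ← L.map_comp]
      exact congrArg (fun m => _ ≫ L.map m) h₂.symm)

end Groth.Agent.SiteCoh

namespace Groth.Agent.SiteCoh

variable {A : Type u₁} [Category.{v₁} A] [Abelian A]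
variable {B : Type u₂} [Category.{v₂} B] [Abelian B]
variable {D : Type u₃} [Category.{v₃} D] [Abelian D]

/-- The image of an injective resolution under an exact functor preserving injective objects. -/
noncomputable def mapResolution (R : A ⥤ B) [R.Additive] [PreservesFiniteLimits R]
    [PreservesFiniteColimits R] [R.PreservesInjectiveObjects] {F : A}
    (I : InjectiveResolution F) : InjectiveResolution (R.obj F) where
  cocomplex := (R.mapHomologicalComplex _).obj I.cocomplex
  injective n := R.injective_obj_of_injective (I.injective n)
  ι := (HomologicalComplex.singleMapHomologicalComplex R (ComplexShape.up ℕ) 0).inv.app F ≫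
    (R.mapHomologicalComplex _).map I.ι

@[reassoc]
lemma mapResolution_ι_f_zero (R : A ⥤ B) [R.Additive] [PreservesFiniteLimits R]
    [PreservesFiniteColimits R] [R.PreservesInjectiveObjects] {F F' : A}
    (I : InjectiveResolution F) (I' : InjectiveResolution F') {g : F ⟶ F'}
    (φ : I.cocomplex ⟶ I'.cocomplex) (h : I.ι.f 0 ≫ φ.f 0 = g ≫ I'.ι.f 0) :
    (mapResolution R I).ι.f 0 ≫ R.map (φ.f 0) = R.map g ≫ (mapResolution R I').ι.f 0 := by
  have e : ∀ {E : A} (J : InjectiveResolution E),
      (mapResolution R J).ι.f 0 = R.map (J.ι.f 0) := by
    intro E J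
    simp only [mapResolution, HomologicalComplex.comp_f,
      HomologicalComplex.singleMapHomologicalComplex_inv_app_self,
      Functor.mapHomologicalComplex_map_f]
    refine (congrArg (fun m => m ≫ R.map (J.ι.f 0)) (?_ : _ = 𝟙 (R.obj E))).trans (Category.id_comp _)
    exact (congrArg (fun m => _ ≫ m) (R.map_id E)).trans (Category.comp_id _)
  rw [e, e]
  exact (R.map_comp _ _).symm.trans ((congrArg (fun m => R.map m) h).trans (R.map_comp _ _))

/-- `R^n(R ⋙ G) ≅ R ⋙ R^n G` for an exact `R` preserving injective objects. -/
noncomputable def rightDerivedExactCompIso [HasInjectiveResolutions A] [HasInjectiveResolutions B]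
    (R : A ⥤ B) [R.Additive] [PreservesFiniteLimits R] [PreservesFiniteColimits R]
    [R.PreservesInjectiveObjects] (G : B ⥤ D) [G.Additive] (n : ℕ) :
    (R ⋙ G).rightDerived n ≅ R ⋙ G.rightDerived n :=
  NatIso.ofComponents
    (fun F => (injectiveResolution F).isoRightDerivedObj (R ⋙ G) n ≪≫
      ((mapResolution R (injectiveResolution F)).isoRightDerivedObj G n).symm)
    (fun {F F'} g => by
      have h₁ := InjectiveResolution.isoRightDerivedObj_hom_naturality g (injectiveResolution F)
        (injectiveResolution F') (InjectiveResolution.desc g _ _)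
        (InjectiveResolution.desc_commutes_zero _ _ _) (R ⋙ G) n
      have h₂ := InjectiveResolution.isoRightDerivedObj_inv_naturality (R.map g)
        (mapResolution R (injectiveResolution F)) (mapResolution R (injectiveResolution F'))
        ((R.mapHomologicalComplex _).map (InjectiveResolution.desc g _ _))
        (mapResolution_ι_f_zero R _ _ _ (InjectiveResolution.desc_commutes_zero _ _ _)) G n
      change _ ≫ (_ ≫ _) = (_ ≫ _) ≫ _
      rw [reassoc_of% h₁, Category.assoc]
      exact congrArg (fun m => _ ≫ m) h₂.symm)

end Groth.Agent.SiteCoh
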