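import Groth.Agent.SiteCoh.Sections
import Groth.Agent.SiteCoh.Derived
import Mathlib.CategoryTheory.Sites.LocallyBijective

/-!
# Cohomology of abelian sheaves on a small site

`U ↦ H^n(U, F)` is the right derived functor of the inclusion in presheaves, higher direct
images are sheafified cohomology presheaves, cohomology classes of positive degree are killed by
coverings.
-/

set_option autoImplicit false

universe u v₂ u₂

open CategoryTheory CategoryTheory.Limits CategoryTheory.Abelian Opposite

namespace Groth.Agent.SiteCoh

variable {C : Type u} [SmallCategory C] (J : GrothendieckTopology C)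

/-- The cohomology presheaves are the right derived functors of `Sheaf ⥤ Presheaf`. -/
noncomputable def sectionsDerivedIso (n : ℕ) :
    (sheafToPresheaf J AddCommGrpCat.{u}).rightDerived n ≅
      Sheaf.cohomologyPresheafFunctor.{u} J n :=
  rightDerivedCongr (homGroupsIsoSections J).symm n ≪≫ rightDerivedHomGroupsIso (freeFunctor J) n

/-- Positive right derived functors of the identity vanish. -/
lemma isZero_rightDerived_id {A : Type u₂} [Category.{v₂} A] [Abelian A]
    [HasInjectiveResolutions A] (F : A) (n : ℕ) : IsZero (((𝟭 A).rightDerived (n + 1)).obj F) :=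
  IsZero.of_iso
    ((injectiveResolution F).cocomplex_exactAt_succ n).isZero_homology
    ((injectiveResolution F).isoRightDerivedObj (𝟭 A) (n + 1))

/-- The sheafification of the cohomology presheaves in positive degree vanishes. -/
lemma isZero_sheafify_cohomologyPresheaf (F : Sheaf J AddCommGrpCat.{u}) (n : ℕ) :
    IsZero ((presheafToSheaf J AddCommGrpCat.{u}).obj (F.cohomologyPresheaf (n + 1))) :=
  IsZero.of_iso (isZero_rightDerived_id F n)
    ((((rightDerivedCongr (sheafificationNatIso J AddCommGrpCat.{u}) (n + 1)) ≪≫
      rightDerivedCompExactIso _ (presheafToSheaf J AddCommGrpCat.{u}) (n + 1) ≪≫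
      Functor.isoWhiskerRight (sectionsDerivedIso J (n + 1)) _).app F).symm)

variable {J}

/-- A class of positive degree is killed by a covering. -/
lemma exists_cover_res_eq_zero (F : Sheaf J AddCommGrpCat.{u}) {U : C} (n : ℕ)
    (ξ : CohSite.HU F (n + 1) U) :
    ∃ S ∈ J U, ∀ ⦃V : C⦄ (f : V ⟶ U), S.arrows f → CohSite.res F (n + 1) f ξ = 0 := by
  have hz := isZero_sheafify_cohomologyPresheaf J F n
  have : toSheafify J (F.cohomologyPresheaf (n + 1)) = 0 :=
    ((sheafToPresheaf J AddCommGrpCat.{u}).map_isZero hz).eq_of_tgt _ _
  refine ⟨_, Presheaf.equalizerSieve_mem J (toSheafify J (F.cohomologyPresheaf (n + 1))) ξ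
    (0 : CohSite.HU F (n + 1) U) ?_, fun V f hf => ?_⟩
  · rw [this]; rfl
  · exact hf.trans (map_zero _)

variable (J)

section Push

variable {D : Type u} [SmallCategory D] (K : GrothendieckTopology D) (u : D ⥤ C)
  [u.IsContinuous K J]

/-- Direct image as sheafification of the presheaf direct image. -/
noncomputable def pushIso :
    CohSite.push J K u ≅ sheafToPresheaf J AddCommGrpCat.{u} ⋙
      ((Functor.whiskeringLeft _ _ AddCommGrpCat.{u}).obj u.op ⋙
        presheafToSheaf K AddCommGrpCat.{u}) :=
  Functor.isoWhiskerLeft (CohSite.push J K u) (sheafificationNatIso K AddCommGrpCat.{u})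

/-- Higher direct images are the sheafified cohomology presheaves. -/
noncomputable def rpushIso (q : ℕ) :
    CohSite.Rpush J K u q ≅ Sheaf.cohomologyPresheafFunctor.{u} J q ⋙
      ((Functor.whiskeringLeft _ _ AddCommGrpCat.{u}).obj u.op ⋙
        presheafToSheaf K AddCommGrpCat.{u}) :=
  rightDerivedCongr (pushIso J K u) q ≪≫ rightDerivedCompExactIso _ _ q ≪≫
    Functor.isoWhiskerRight (sectionsDerivedIso J q) _

/-- Higher direct images vanish when cohomology on the `u V` vanishes. -/
lemma isZero_rpush_of_subsingleton (F : Sheaf J AddCommGrpCat.{u}) (q : ℕ)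
    (h : ∀ V : D, Subsingleton (CohSite.HU F q (u.obj V))) :
    IsZero ((CohSite.Rpush J K u q).obj F) := by
  refine IsZero.of_iso ?_ ((rpushIso J K u q).app F)
  refine (presheafToSheaf K AddCommGrpCat.{u}).map_isZero (Functor.isZero _ fun V => ?_)
  exact @AddCommGrpCat.isZero_of_subsingleton _ (h V.unop)

end Push

end Groth.Agent.SiteCoh
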