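import Mathlib.Algebra.Homology.DerivedCategory.Ext.ExactSequences
import Mathlib.Algebra.Homology.DerivedCategory.Ext.EnoughInjectives
import Mathlib.CategoryTheory.Abelian.Injective.Basic
import Mathlib.Algebra.Homology.ShortComplex.ShortExact

/-!
# Vanishing of Ext groups by dimension shifting
-/

set_option autoImplicit false

universe w v u

open CategoryTheory CategoryTheory.Limits CategoryTheory.Abelian

namespace Groth.Agent.SiteCoh

variable {A : Type u} [Category.{v} A] [Abelian A] [HasExt.{w} A]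

set_option linter.unusedSectionVars false

/-- An `Ext^1` vanishing gives surjectivity of postcomposition. -/
lemma exists_comp_eq_of_subsingleton_ext {X : A} {S : ShortComplex A} (hS : S.ShortExact)
    (h : Subsingleton (Ext X S.X₁ 1)) (f : X ⟶ S.X₃) : ∃ g : X ⟶ S.X₂, g ≫ S.g = f := by
  obtain ⟨x, hx⟩ := Ext.covariant_sequence_exact₃ X hS (Ext.mk₀ f) (zero_add 1)
    (Subsingleton.elim _ _)
  obtain ⟨g, rfl⟩ := (Ext.mk₀_bijective X S.X₂).2 x
  exact ⟨g, (Ext.mk₀_bijective X S.X₃).1 (by rw [← hx, Ext.mk₀_comp_mk₀])⟩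

/-- The standard short exact sequence `0 → F → I → Q → 0`. -/
noncomputable abbrev injEmbed [EnoughInjectives A] (F : A) : ShortComplex A :=
  ShortComplex.mk (Injective.ι F) (cokernel.π (Injective.ι F)) (cokernel.condition _)

lemma injEmbed_shortExact [EnoughInjectives A] (F : A) : (injEmbed F).ShortExact where
  exact := ShortComplex.exact_cokernel _
  mono_f := inferInstanceAs (Mono (Injective.ι F))
  epi_g := inferInstanceAs (Epi (cokernel.π _))

/-- `Ext^{n+1}(X, -)` vanishes on the first term when `Ext^n` does on the third and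
`Ext^{n+1}` on the middle. -/
lemma subsingleton_ext_X₁ {X : A} {S : ShortComplex A} (hS : S.ShortExact) (n : ℕ)
    (h₃ : Subsingleton (Ext X S.X₃ n)) (h₂ : Subsingleton (Ext X S.X₂ (n + 1))) :
    Subsingleton (Ext X S.X₁ (n + 1)) := by
  refine subsingleton_of_forall_eq 0 fun x => ?_
  obtain ⟨y, rfl⟩ := Ext.covariant_sequence_exact₁ X hS x (Subsingleton.elim _ _) rfl
  rw [Subsingleton.elim y 0, Ext.zero_comp]

lemma subsingleton_ext_X₃ {X : A} {S : ShortComplex A} (hS : S.ShortExact) (n : ℕ)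
    (h₂ : Subsingleton (Ext X S.X₂ n)) (h₁ : Subsingleton (Ext X S.X₁ (n + 1))) :
    Subsingleton (Ext X S.X₃ n) := by
  refine subsingleton_of_forall_eq 0 fun x => ?_
  obtain ⟨y, rfl⟩ := Ext.covariant_sequence_exact₃ X hS x rfl (Subsingleton.elim _ _)
  rw [Subsingleton.elim y 0, Ext.zero_comp]

lemma subsingleton_ext_one {X : A} {S : ShortComplex A} (hS : S.ShortExact)
    (h₂ : Subsingleton (Ext X S.X₂ 1))
    (hsurj : ∀ f : X ⟶ S.X₃, ∃ g : X ⟶ S.X₂, g ≫ S.g = f) :
    Subsingleton (Ext X S.X₁ 1) := by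
  refine subsingleton_of_forall_eq 0 fun x => ?_
  obtain ⟨y, rfl⟩ := Ext.covariant_sequence_exact₁ X hS x (Subsingleton.elim _ _) (zero_add 1)
  obtain ⟨f, rfl⟩ := (Ext.mk₀_bijective X S.X₃).2 y
  obtain ⟨g, rfl⟩ := hsurj f
  rw [← Ext.mk₀_comp_mk₀, Ext.comp_assoc_of_second_deg_zero, hS.comp_extClass, Ext.comp_zero]

/-- Dimension shifting: a class of objects `P`, each member of which embeds into an injective
object with quotient in `P`, surjectively on `Hom(X, -)` for all `X` in `Q`, is acyclic for `Q`. -/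
lemma subsingleton_ext_of_class (P Q : A → Prop)
    (h : ∀ F, P F → ∃ (I F' : A) (f : F ⟶ I) (g : I ⟶ F') (w : f ≫ g = 0),
      Injective I ∧ (ShortComplex.mk f g w).ShortExact ∧ P F' ∧
      ∀ X, Q X → ∀ a : X ⟶ F', ∃ b : X ⟶ I, b ≫ g = a)
    {X : A} (hX : Q X) {F : A} (hF : P F) (n : ℕ) : Subsingleton (Ext X F (n + 1)) := by
  induction n generalizing F with
  | zero =>
    obtain ⟨I, F', f, g, w, hI, hS, hF', hs⟩ := h F hF
    exact subsingleton_ext_one hS (Ext.subsingleton_of_injective X I 0) (hs X hX)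
  | succ n ih =>
    obtain ⟨I, F', f, g, w, hI, hS, hF', hs⟩ := h F hF
    exact subsingleton_ext_X₁ hS (n + 1) (ih hF') (Ext.subsingleton_of_injective X I _)

/-- `Ext^{n+1}` vanishing may be checked after an isomorphism in the first variable. -/
lemma subsingleton_ext_of_iso {X X' Y : A} (e : X' ≅ X) (n : ℕ) [Subsingleton (Ext X Y n)] :
    Subsingleton (Ext X' Y n) := by
  refine subsingleton_of_forall_eq 0 fun x => ?_
  have : x = (Ext.mk₀ e.hom).comp ((Ext.mk₀ e.inv).comp x (zero_add n)) (zero_add n) := by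
    rw [Ext.mk₀_comp_mk₀_assoc, e.hom_inv_id, Ext.mk₀_id_comp]
  rw [this, Subsingleton.elim ((Ext.mk₀ e.inv).comp x (zero_add n)) 0, Ext.comp_zero]

/-- `Ext` is invariant under an isomorphism in the first variable. -/
noncomputable def extAddEquivOfIso {X X' : A} (e : X' ≅ X) (Y : A) (n : ℕ) :
    Ext X Y n ≃+ Ext X' Y n where
  toFun x := (Ext.mk₀ e.hom).comp x (zero_add n)
  invFun x := (Ext.mk₀ e.inv).comp x (zero_add n)
  left_inv x := by dsimp only; rw [Ext.mk₀_comp_mk₀_assoc, e.inv_hom_id, Ext.mk₀_id_comp]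
  right_inv x := by dsimp only; rw [Ext.mk₀_comp_mk₀_assoc, e.hom_inv_id, Ext.mk₀_id_comp]
  map_add' _ _ := Ext.comp_add _ _ _ _

end Groth.Agent.SiteCoh
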