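import Groth.Agent.SiteCoh.Cohomology
import Groth.Agent.SiteCoh.ExtAcyclic
import Mathlib.Algebra.Category.Grp.ForgetCorepresentable

/-!
# Basic facts on cohomology of abelian sheaves on small sites
-/

set_option autoImplicit false

universe u

open CategoryTheory CategoryTheory.Limits CategoryTheory.Abelian Opposite

namespace Groth.Agent.SiteCoh

variable {C : Type u} [SmallCategory C] {J : GrothendieckTopology C}

instance (U V : C) (f : V ⟶ U) [Mono f] : Mono (CohCx.freeSheafMap J f) := by
  have : Mono (Functor.whiskerRight (yoneda.map f) AddCommGrpCat.free.{u}) := by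
    rw [NatTrans.mono_iff_mono_app]
    exact fun W => inferInstanceAs (Mono (AddCommGrpCat.free.map ((yoneda.map f).app W)))
  exact inferInstanceAs (Mono ((presheafToSheaf J AddCommGrpCat.{u}).map _))

/-- Restriction along a monomorphism is surjective for an injective sheaf. -/
lemma surjective_map_of_injective (I : Sheaf J AddCommGrpCat.{u}) [Injective I] {U V : C}
    (f : V ⟶ U) [Mono f] : Function.Surjective (I.obj.map f.op) := by
  intro x
  refine ⟨homEquiv U I (Injective.factorThru ((homEquiv V I).symm x) (CohCx.freeSheafMap J f)), ?_⟩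
  rw [← homEquiv_precomp, Injective.comp_factorThru, AddEquiv.apply_symm_apply]

/-- Lifting of sections is lifting of morphisms out of the free sheaf. -/
lemma surjective_sections_iff {F G : Sheaf J AddCommGrpCat.{u}} (g : F ⟶ G) (U : C) :
    Function.Surjective (g.hom.app (op U)) ↔
      ∀ a : CohCx.freeSheaf J U ⟶ G, ∃ b, b ≫ g = a := by
  refine ⟨fun h a => ?_, fun h x => ?_⟩
  · obtain ⟨y, hy⟩ := h (homEquiv U G a)
    exact ⟨(homEquiv U F).symm y, (homEquiv U G).injective (by
      rw [homEquiv_postcomp, AddEquiv.apply_symm_apply, hy])⟩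
  · obtain ⟨b, hb⟩ := h ((homEquiv U G).symm x)
    exact ⟨homEquiv U F b, by rw [← homEquiv_postcomp, hb, AddEquiv.apply_symm_apply]⟩

/-- An `H^1` vanishing gives surjectivity on sections. -/
lemma surjective_sections_of_subsingleton {S : ShortComplex (Sheaf J AddCommGrpCat.{u})}
    (hS : S.ShortExact) (U : C) (h : Subsingleton (CohSite.HU S.X₁ 1 U)) :
    Function.Surjective (S.g.hom.app (op U)) :=
  (surjective_sections_iff S.g U).2 (exists_comp_eq_of_subsingleton_ext hS h)

/-- Dimension shifting for cohomology on the objects in `B`: a class of sheaves `P` such that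
each member `F` has, for the standard embedding into an injective sheaf, quotient in `P` and
surjectivity on sections over `B`, is acyclic on `B`. -/
lemma subsingleton_HU_of_class (P : Sheaf J AddCommGrpCat.{u} → Prop) (B : C → Prop)
    (h : ∀ F, P F → P (injEmbed F).X₃ ∧
      ∀ U, B U → Function.Surjective ((injEmbed F).g.hom.app (op U)))
    {F : Sheaf J AddCommGrpCat.{u}} (hF : P F) {U : C} (hU : B U) (n : ℕ) :
    Subsingleton (CohSite.HU F (n + 1) U) :=
  subsingleton_ext_of_class P (fun X => ∃ V, B V ∧ X = CohCx.freeSheaf J V)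
    (fun G hG => ⟨_, _, _, _, (injEmbed G).zero, inferInstanceAs (Injective (Injective.under G)),
      injEmbed_shortExact G, (h G hG).1,
      fun _ ⟨V, hV, hX⟩ => hX ▸ (surjective_sections_iff _ V).1 ((h G hG).2 V hV)⟩)
    (X := CohCx.freeSheaf J U) ⟨U, hU, rfl⟩ hF n

/-- `(U ↦ ULift ℤ)` is free on a terminal representable presheaf. -/
noncomputable def freePshTerminalIso {T : C} (hT : IsTerminal T) :
    freePsh T ≅ (Functor.const Cᵒᵖ).obj (AddCommGrpCat.of (ULift.{u} ℤ)) :=
  NatIso.ofComponents
    (fun V => AddEquiv.toAddCommGrpIso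
      (AddMonoidHom.toAddEquiv
        (FreeAbelianGroup.lift fun _ : V.unop ⟶ T => (ULift.up 1 : ULift.{u} ℤ))
        (uliftZMultiplesHom _ (FreeAbelianGroup.of (hT.from V.unop)))
        (by
          refine FreeAbelianGroup.lift_ext _ _ fun f => ?_
          obtain rfl : f = hT.from V.unop := hT.hom_ext _ _
          exact (congrArg (uliftZMultiplesHom _ (FreeAbelianGroup.of (hT.from V.unop)))
            (FreeAbelianGroup.lift_apply_of _ _)).trans (one_zsmul _))
        (by
          apply (uliftZMultiplesHom _).symm.injective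
          change FreeAbelianGroup.lift (fun _ : V.unop ⟶ T => (ULift.up 1 : ULift.{u} ℤ))
            (uliftZMultiplesHom _ (FreeAbelianGroup.of (hT.from V.unop)) (ULift.up (1 : ℤ))) =
              ULift.up (1 : ℤ)
          exact (congrArg _ (one_zsmul _)).trans (FreeAbelianGroup.lift_apply_of _ _)))
      )
    (fun {V W} g => by
      apply AddCommGrpCat.hom_ext
      refine FreeAbelianGroup.lift_ext _ _ fun f => ?_
      refine (congrArg (FreeAbelianGroup.lift _) (FreeAbelianGroup.map_of_apply _)).trans ?_
      exact (FreeAbelianGroup.lift_apply_of _ _).trans (FreeAbelianGroup.lift_apply_of _ _).symm)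

variable (J) in
/-- The free sheaf on a terminal object is the constant sheaf `ℤ`. -/
noncomputable def freeSheafTerminalIso {T : C} (hT : IsTerminal T) :
    CohCx.freeSheaf J T ≅
      (constantSheaf J AddCommGrpCat.{u}).obj (AddCommGrpCat.of (ULift.{u} ℤ)) :=
  (presheafToSheaf J AddCommGrpCat.{u}).mapIso (freePshTerminalIso hT)

/-- Cohomology on a terminal object is global cohomology. -/
noncomputable def hUEquivH (F : Sheaf J AddCommGrpCat.{u}) (n : ℕ) {T : C} (hT : IsTerminal T) :
    CohSite.HU F n T ≃+ Sheaf.H.{u} F n :=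
  (extAddEquivOfIso (freeSheafTerminalIso J hT) F n).symm

lemma hUEquivH_symm_apply (F : Sheaf J AddCommGrpCat.{u}) (n : ℕ) {T : C} (hT : IsTerminal T)
    (x : Sheaf.H.{u} F n) :
    (hUEquivH F n hT).symm x =
      (Ext.mk₀ (freeSheafTerminalIso J hT).hom).comp x (zero_add n) := rfl

lemma subsingleton_H_of_HU {F : Sheaf J AddCommGrpCat.{u}} {n : ℕ} {T : C} (hT : IsTerminal T)
    (h : Subsingleton (CohSite.HU F n T)) : Subsingleton (Sheaf.H.{u} F n) :=
  (hUEquivH F n hT).symm.toEquiv.subsingleton

end Groth.Agent.SiteCoh
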