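import Groth.Agent.SiteCoh.ExtResolution
import Groth.Prelude.Def_CohCx
import Mathlib.CategoryTheory.Adjunction.Additive

/-!
# Sections of an abelian sheaf as homomorphisms out of the free sheaf
-/

set_option autoImplicit false

universe u

open CategoryTheory CategoryTheory.Limits CategoryTheory.Abelian Opposite

namespace Groth.Agent.SiteCoh

variable {C : Type u} [SmallCategory C]

/-- The free presheaf of abelian groups on a representable presheaf. -/
noncomputable abbrev freePsh (U : C) : Cᵒᵖ ⥤ AddCommGrpCat.{u} :=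
  yoneda.obj U ⋙ AddCommGrpCat.free.{u}

/-- The morphism `freePsh U ⟶ P` attached to a section. -/
noncomputable def ofSection {P : Cᵒᵖ ⥤ AddCommGrpCat.{u}} {U : C} (x : P.obj (op U)) :
    freePsh U ⟶ P where
  app V := AddCommGrpCat.ofHom (FreeAbelianGroup.lift fun f : V.unop ⟶ U => P.map f.op x)
  naturality V W g := by
    apply AddCommGrpCat.hom_ext
    refine FreeAbelianGroup.lift_ext _ _ fun (f : V.unop ⟶ U) => ?_
    change FreeAbelianGroup.lift _ (FreeAbelianGroup.map _ (FreeAbelianGroup.of f)) =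
      P.map g (FreeAbelianGroup.lift _ (FreeAbelianGroup.of f))
    rw [FreeAbelianGroup.map_of_apply]
    erw [FreeAbelianGroup.lift_apply_of, FreeAbelianGroup.lift_apply_of]
    exact ConcreteCategory.congr_hom (P.map_comp f.op g) x

/-- Morphisms out of the free presheaf on `U` are sections over `U`. -/
noncomputable def freePshHomEquiv (U : C) (P : Cᵒᵖ ⥤ AddCommGrpCat.{u}) :
    (freePsh U ⟶ P) ≃+ P.obj (op U) where
  toFun φ := φ.app (op U) (FreeAbelianGroup.of (𝟙 U))
  invFun := ofSection
  left_inv φ := by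
    ext V : 2
    apply AddCommGrpCat.hom_ext
    refine FreeAbelianGroup.lift_ext _ _ fun (f : V.unop ⟶ U) => ?_
    refine (FreeAbelianGroup.lift_apply_of _ _).trans ?_
    refine (ConcreteCategory.congr_hom (φ.naturality f.op) (FreeAbelianGroup.of (𝟙 U))).symm.trans ?_
    refine congrArg (φ.app V) ?_
    exact (FreeAbelianGroup.map_of_apply _).trans (congrArg FreeAbelianGroup.of (Category.comp_id f))
  right_inv x := by
    refine (FreeAbelianGroup.lift_apply_of _ _).trans ?_
    exact ConcreteCategory.congr_hom (P.map_id (op U)) x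
  map_add' _ _ := rfl

lemma freePshHomEquiv_precomp {U V : C} (f : V ⟶ U) {P : Cᵒᵖ ⥤ AddCommGrpCat.{u}}
    (φ : freePsh U ⟶ P) :
    freePshHomEquiv V P (Functor.whiskerRight (yoneda.map f) AddCommGrpCat.free.{u} ≫ φ) =
      P.map f.op (freePshHomEquiv U P φ) := by
  refine Eq.trans ?_ (ConcreteCategory.congr_hom (φ.naturality f.op) (FreeAbelianGroup.of (𝟙 U)))
  refine congrArg (φ.app (op V)) ?_
  refine (FreeAbelianGroup.map_of_apply _).trans
    (Eq.trans ?_ (FreeAbelianGroup.map_of_apply _).symm)
  exact congrArg FreeAbelianGroup.of ((Category.id_comp f).trans (Category.comp_id f).symm)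

lemma freePshHomEquiv_postcomp {U : C} {P Q : Cᵒᵖ ⥤ AddCommGrpCat.{u}}
    (φ : freePsh U ⟶ P) (ψ : P ⟶ Q) :
    freePshHomEquiv U Q (φ ≫ ψ) = ψ.app (op U) (freePshHomEquiv U P φ) := rfl

variable (J : GrothendieckTopology C)

/-- The functor `U ↦ freeSheaf U`. -/
noncomputable abbrev freeFunctor : C ⥤ Sheaf J AddCommGrpCat.{u} :=
  yoneda ⋙ (Functor.whiskeringRight _ _ _).obj AddCommGrpCat.free.{u} ⋙
    presheafToSheaf J AddCommGrpCat.{u}

variable {J}

/-- Morphisms out of the free sheaf on `U` are sections over `U`. -/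
noncomputable def homEquiv (U : C) (F : Sheaf J AddCommGrpCat.{u}) :
    (CohCx.freeSheaf J U ⟶ F) ≃+ F.obj.obj (op U) :=
  ((sheafificationAdjunction J AddCommGrpCat.{u}).homAddEquiv (freePsh U) F).trans
    (freePshHomEquiv U F.obj)

lemma homEquiv_precomp {U V : C} (f : V ⟶ U) {F : Sheaf J AddCommGrpCat.{u}}
    (φ : CohCx.freeSheaf J U ⟶ F) :
    homEquiv V F (CohCx.freeSheafMap J f ≫ φ) = F.obj.map f.op (homEquiv U F φ) := by
  refine Eq.trans ?_ (freePshHomEquiv_precomp f
    ((sheafificationAdjunction J AddCommGrpCat.{u}).homEquiv (freePsh U) F φ))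
  exact congrArg (freePshHomEquiv V F.obj)
    ((sheafificationAdjunction J AddCommGrpCat.{u}).homEquiv_naturality_left _ _)

lemma homEquiv_postcomp {U : C} {F G : Sheaf J AddCommGrpCat.{u}}
    (φ : CohCx.freeSheaf J U ⟶ F) (ψ : F ⟶ G) :
    homEquiv U G (φ ≫ ψ) = ψ.hom.app (op U) (homEquiv U F φ) := by
  refine Eq.trans ?_ (freePshHomEquiv_postcomp
    ((sheafificationAdjunction J AddCommGrpCat.{u}).homEquiv (freePsh U) F φ) ψ.hom)
  exact congrArg (freePshHomEquiv U G.obj)
    ((sheafificationAdjunction J AddCommGrpCat.{u}).homEquiv_naturality_right _ _)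

variable (J)

/-- Sections are homomorphisms out of the free sheaves. -/
noncomputable def homGroupsIsoSections :
    homGroups (freeFunctor J) ≅ sheafToPresheaf J AddCommGrpCat.{u} :=
  NatIso.ofComponents
    (fun F => NatIso.ofComponents (fun U => (homEquiv U.unop F).toAddCommGrpIso)
      (fun f => by
        apply AddCommGrpCat.hom_ext
        exact AddMonoidHom.ext fun φ => homEquiv_precomp f.unop φ))
    (fun ψ => by
      ext U φ
      exact homEquiv_postcomp φ ψ)

end Groth.Agent.SiteCoh
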