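import Mathlib.CategoryTheory.Abelian.Injective.Ext
import Mathlib.CategoryTheory.Abelian.RightDerived
import Mathlib.CategoryTheory.Abelian.Injective.Resolution
import Mathlib.CategoryTheory.Abelian.FunctorCategory
import Mathlib.Algebra.Category.Grp.Abelian
import Mathlib.Algebra.Homology.ShortComplex.Ab
import Mathlib.CategoryTheory.Preadditive.Yoneda.Basic

/-!
# Ext groups out of a family of objects as right derived functors

For `Φ : E ⥤ C` with `C` abelian with enough injectives, the functor `F ↦ (e ↦ Ext (Φ e) F n)`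
is the `n`-th right derived functor of `F ↦ (e ↦ Hom (Φ e, F))`.
-/

set_option autoImplicit false

universe v u v' u'

open CategoryTheory CategoryTheory.Limits CategoryTheory.Abelian Opposite

namespace Groth.Agent.SiteCoh

variable {C : Type u} [Category.{v} C] [Abelian C]
variable {E : Type u'} [Category.{v'} E] (Φ : E ⥤ C)

/-- `F ↦ (e ↦ Hom (Φ e, F))` -/
noncomputable abbrev homGroups : C ⥤ Eᵒᵖ ⥤ AddCommGrpCat.{v} :=
  preadditiveYoneda ⋙ (Functor.whiskeringLeft _ _ _).obj Φ.op

instance : (homGroups Φ).Additive where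
  map_add {X Y f g} := by
    ext e x
    exact Preadditive.comp_add _ _ _ x f g

variable [HasExt.{v} C]

set_option linter.unusedSectionVars false

/-- `F ↦ (e ↦ Ext (Φ e) F n)` -/
noncomputable abbrev extGroups (n : ℕ) : C ⥤ Eᵒᵖ ⥤ AddCommGrpCat.{v} :=
  (Φ.op ⋙ extFunctor n).flip

instance (n : ℕ) : (extGroups Φ n).Additive where
  map_add {X Y f g} := by
    ext e x
    exact (congr_arg (fun z => Ext.comp (show Ext (Φ.obj e.unop) X n from x) z (add_zero n)) (Ext.mk₀_add f g)).trans (Ext.comp_add _ _ _ _)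

section

variable {F : C} (R : InjectiveResolution F) (n : ℕ)

noncomputable abbrev homCx : CochainComplex (Eᵒᵖ ⥤ AddCommGrpCat.{v}) ℕ :=
  ((homGroups Φ).mapHomologicalComplex _).obj R.cocomplex

/-- A cocycle, as a morphism. -/
noncomputable def cyc (e : Eᵒᵖ) :
    ((homCx Φ R).cycles n).obj e →+ (Φ.obj e.unop ⟶ R.cocomplex.X n) :=
  (((homCx Φ R).iCycles n).app e).hom

lemma cyc_injective (e : Eᵒᵖ) : Function.Injective (cyc Φ R n e) :=
  (AddCommGrpCat.mono_iff_injective (((homCx Φ R).iCycles n).app e)).1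
    (inferInstanceAs (Mono (((evaluation Eᵒᵖ AddCommGrpCat.{v}).obj e).map ((homCx Φ R).iCycles n))))

lemma cyc_comp_d (e : Eᵒᵖ) (z : ((homCx Φ R).cycles n).obj e) :
    cyc Φ R n e z ≫ R.cocomplex.d n (n + 1) = 0 :=
  ConcreteCategory.congr_hom (NatTrans.congr_app ((homCx Φ R).iCycles_d n (n + 1)) e) z

lemma cyc_map {e e' : Eᵒᵖ} (g : e ⟶ e') (z : ((homCx Φ R).cycles n).obj e) :
    cyc Φ R n e' (((homCx Φ R).cycles n).map g z) = Φ.map g.unop ≫ cyc Φ R n e z :=
  ConcreteCategory.congr_hom (((homCx Φ R).iCycles n).naturality g) z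

lemma cyc_toCycles (p : ℕ) (e : Eᵒᵖ) (x : Φ.obj e.unop ⟶ R.cocomplex.X p) :
    cyc Φ R n e (((homCx Φ R).toCycles p n).app e x) = x ≫ R.cocomplex.d p n :=
  ConcreteCategory.congr_hom (NatTrans.congr_app ((homCx Φ R).toCycles_i p n) e) x

lemma exists_cyc_eq (e : Eᵒᵖ) (f : Φ.obj e.unop ⟶ R.cocomplex.X n)
    (hf : f ≫ R.cocomplex.d n (n + 1) = 0) : ∃ z, cyc Φ R n e z = f := by
  have hk := KernelFork.mapIsLimit _ ((homCx Φ R).cyclesIsKernel n (n + 1) (by simp))
    ((evaluation Eᵒᵖ AddCommGrpCat.{v}).obj e)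
  let S := ShortComplex.mk (((homCx Φ R).iCycles n).app e) (((homCx Φ R).d n (n + 1)).app e)
    (NatTrans.congr_app ((homCx Φ R).iCycles_d n (n + 1)) e)
  have hex : S.Exact := S.exact_of_f_is_kernel hk
  exact (ShortComplex.ab_exact_iff S).1 hex f hf

/-- The map from cocycles to `Ext`, on one object. -/
noncomputable def cyclesToExtApp (e : Eᵒᵖ) :
    ((homCx Φ R).cycles n).obj e →+ Ext (Φ.obj e.unop) F n :=
  AddMonoidHom.mk' (fun z => R.extMk (cyc Φ R n e z) (n + 1) rfl (cyc_comp_d Φ R n e z))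
    (fun z z' => by simp only [map_add, InjectiveResolution.add_extMk])

/-- The map from cocycles to `Ext`. -/
noncomputable def cyclesToExt : (homCx Φ R).cycles n ⟶ (extGroups Φ n).obj F where
  app e := AddCommGrpCat.ofHom (cyclesToExtApp Φ R n e)
  naturality e e' g := by
    ext z
    change R.extMk (cyc Φ R n e' (((homCx Φ R).cycles n).map g z)) (n + 1) rfl (cyc_comp_d ..) =
      (Ext.mk₀ (Φ.map g.unop)).comp (R.extMk (cyc Φ R n e z) (n + 1) rfl (cyc_comp_d ..)) (zero_add n)
    rw [R.mk₀_comp_extMk]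
    simp only [cyc_map]

lemma toCycles_comp_cyclesToExt (p : ℕ) :
    (homCx Φ R).toCycles p n ≫ cyclesToExt Φ R n = 0 := by
  ext e x
  change (Φ.obj e.unop ⟶ R.cocomplex.X p) at x
  change R.extMk (cyc Φ R n e (((homCx Φ R).toCycles p n).app e x)) (n + 1) rfl (cyc_comp_d ..) = (0 : Ext _ _ _)
  simp only [cyc_toCycles Φ R n p e x]
  by_cases hp : p + 1 = n
  · exact (R.extMk_eq_zero_iff _ _ _ _ p hp).2 ⟨x, rfl⟩
  · simp only [R.cocomplex.shape p n hp, comp_zero, InjectiveResolution.extMk_zero]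

lemma cyclesToExtApp_surjective (e : Eᵒᵖ) :
    Function.Surjective (cyclesToExtApp Φ R n e) := by
  intro α
  obtain ⟨f, hf, rfl⟩ := R.extMk_surjective α (n + 1) rfl
  obtain ⟨z, hz⟩ := exists_cyc_eq Φ R n e f hf
  exact ⟨z, by simp only [cyclesToExtApp, AddMonoidHom.mk'_apply, hz]⟩

lemma extMk_zero_eq_zero {X : C} (f : X ⟶ R.cocomplex.X 0) (hf : f ≫ R.cocomplex.d 0 1 = 0)
    (h : R.extMk f 1 rfl hf = 0) : f = 0 := by
  simp only [← R.extEquivCohomologyClass.apply_eq_iff_eq,
    InjectiveResolution.extEquivCohomologyClass_extMk,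
    InjectiveResolution.extEquivCohomologyClass_zero,
    CochainComplex.HomComplex.CohomologyClass.mk_eq_zero_iff] at h
  rw [CochainComplex.HomComplex.Cocycle.fromSingleMk_mem_coboundaries_iff _ _ _ _ _ (-1)
    (by lia)] at h
  obtain ⟨g, hg⟩ := h
  have : IsZero (R.cochainComplex.X (-1)) := R.cochainComplex.isZero_of_isStrictlyGE 0 _ (by lia)
  rw [this.eq_of_tgt g 0, zero_comp] at hg
  rw [← cancel_mono (R.cochainComplexXIso (0 : ℕ) 0 rfl).inv, zero_comp]
  exact hg.symm

lemma cyclesToExtApp_exact (e : Eᵒᵖ) (z : ((homCx Φ R).cycles n).obj e)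
    (hz : cyclesToExtApp Φ R n e z = 0) :
    ∃ x, ((homCx Φ R).toCycles ((ComplexShape.up ℕ).prev n) n).app e x = z := by
  obtain _ | p := n
  · refine ⟨0, cyc_injective Φ R 0 e ?_⟩
    rw [map_zero, map_zero]
    exact (extMk_zero_eq_zero R (cyc Φ R 0 e z) (cyc_comp_d Φ R 0 e z) hz).symm
  · obtain ⟨g, hg⟩ := (R.extMk_eq_zero_iff (cyc Φ R (p + 1) e z) (p + 2) rfl (cyc_comp_d Φ R (p + 1) e z) p rfl).1 hz
    rw [show (ComplexShape.up ℕ).prev (p + 1) = p by simp]
    exact ⟨g, cyc_injective Φ R _ e ((cyc_toCycles Φ R _ p e g).trans hg)⟩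

/-- `Ext` groups as cohomology of the complex of homomorphism groups. -/
noncomputable def extGroupsIsCokernel :
    IsColimit (CokernelCofork.ofπ (cyclesToExt Φ R n)
      (toCycles_comp_cyclesToExt Φ R n ((ComplexShape.up ℕ).prev n))) :=
  evaluationJointlyReflectsColimits _ fun e =>
    haveI : Epi ((cyclesToExt Φ R n).app e) :=
      (AddCommGrpCat.epi_iff_surjective _).2 (cyclesToExtApp_surjective Φ R n e)
    (CokernelCofork.isColimitMapCoconeEquiv _ ((evaluation Eᵒᵖ AddCommGrpCat.{v}).obj e)).symm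
      (ShortComplex.Exact.gIsCokernel (S := ShortComplex.mk
          (((homCx Φ R).toCycles ((ComplexShape.up ℕ).prev n) n).app e)
          ((cyclesToExt Φ R n).app e)
          (NatTrans.congr_app (toCycles_comp_cyclesToExt Φ R n _) e))
        ((ShortComplex.ab_exact_iff _).2 fun z hz => cyclesToExtApp_exact Φ R n e z hz))

/-- Cohomology of the complex of homomorphism groups is `Ext`. -/
noncomputable def homologyIsoExt :
    (homCx Φ R).homology n ≅ (extGroups Φ n).obj F :=
  IsColimit.coconePointUniqueUpToIso ((homCx Φ R).homologyIsCokernel _ n rfl)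
    (extGroupsIsCokernel Φ R n)

@[reassoc]
lemma homologyπ_homologyIsoExt :
    (homCx Φ R).homologyπ n ≫ (homologyIsoExt Φ R n).hom = cyclesToExt Φ R n :=
  IsColimit.comp_coconePointUniqueUpToIso_hom ((homCx Φ R).homologyIsCokernel _ n rfl) _
    WalkingParallelPair.one

variable {F' : C} (R' : InjectiveResolution F') {g : F ⟶ F'}

@[reassoc]
lemma homologyIsoExt_naturality (φ : InjectiveResolution.Hom R R' g) :
    HomologicalComplex.homologyMap (((homGroups Φ).mapHomologicalComplex _).map φ.hom) n ≫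
        (homologyIsoExt Φ R' n).hom =
      (homologyIsoExt Φ R n).hom ≫ (extGroups Φ n).map g := by
  rw [← cancel_epi ((homCx Φ R).homologyπ n)]
  rw [HomologicalComplex.homologyπ_naturality_assoc, homologyπ_homologyIsoExt,
    homologyπ_homologyIsoExt_assoc]
  ext e z
  change R'.extMk (cyc Φ R' n e ((HomologicalComplex.cyclesMap
      (((homGroups Φ).mapHomologicalComplex _).map φ.hom) n).app e z)) (n + 1) rfl (cyc_comp_d ..) =
    (R.extMk (cyc Φ R n e z) (n + 1) rfl (cyc_comp_d ..)).comp (Ext.mk₀ g) (add_zero n)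
  rw [InjectiveResolution.extMk_comp_mk₀ _ _ _ _ φ]
  have h := ConcreteCategory.congr_hom (NatTrans.congr_app
    (HomologicalComplex.cyclesMap_i (((homGroups Φ).mapHomologicalComplex _).map φ.hom) n) e) z
  congr 1

end

variable [EnoughInjectives C]

/-- `Ext (Φ -) - n` is the `n`-th right derived functor of `Hom (Φ -, -)`. -/
noncomputable def rightDerivedHomGroupsIso (n : ℕ) :
    (homGroups Φ).rightDerived n ≅ extGroups Φ n :=
  NatIso.ofComponents
    (fun F => (injectiveResolution F).isoRightDerivedObj (homGroups Φ) n ≪≫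
      homologyIsoExt Φ (injectiveResolution F) n)
    (fun {F F'} g => by
      let φ : InjectiveResolution.Hom (injectiveResolution F) (injectiveResolution F') g :=
        { hom := InjectiveResolution.desc g (injectiveResolution F') (injectiveResolution F)
          ι_f_zero_comp_hom_f_zero := by
            rw [InjectiveResolution.desc_commutes_zero, CochainComplex.single₀_map_f_zero]; rfl }
      change (_ ≫ _ ≫ _ : _ ⟶ _) = (_ ≫ _) ≫ _
      rw [Category.assoc]
      exact (InjectiveResolution.isoRightDerivedObj_hom_naturality_assoc g _ _ φ.hom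
        (InjectiveResolution.desc_commutes_zero _ _ _) (homGroups Φ) n _).trans
        (congrArg (fun m => _ ≫ m) (homologyIsoExt_naturality Φ (injectiveResolution F) n (injectiveResolution F') φ)))

end Groth.Agent.SiteCoh
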