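import Mathlib.CategoryTheory.Sites.SheafCohomology.Cech
import Mathlib.Algebra.Category.Grp.Limits
import Mathlib.Algebra.Category.Grp.Abelian
import Mathlib.Algebra.Category.Grp.ForgetCorepresentable
import Mathlib.Algebra.Homology.ShortComplex.Ab
import Mathlib.Algebra.Homology.ShortComplex.HomologicalComplex
import Mathlib.CategoryTheory.Preadditive.Injective.Basic
import Mathlib.CategoryTheory.Limits.Types.Products

/-!
# Elementwise description of Cech complexes of abelian presheaves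
-/

set_option autoImplicit false

universe u v u'

open CategoryTheory CategoryTheory.Limits Opposite

namespace Groth.Agent.SiteCoh.Cech

variable {T : Type u} (Z : T → AddCommGrpCat.{u})

/-- An element of a product of abelian groups given by components. -/
noncomputable def prodMk (f : ∀ t, Z t) : (∏ᶜ Z : AddCommGrpCat.{u}) :=
  (Pi.lift fun t => AddCommGrpCat.ofHom (uliftZMultiplesHom (Z t) (f t))) (ULift.up 1)

lemma π_prodMk (f : ∀ t, Z t) (t : T) : Pi.π Z t (prodMk Z f) = f t := by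
  rw [prodMk, ← ConcreteCategory.comp_apply, Pi.lift_π]
  exact one_zsmul (f t)

variable {Z} in
lemma prod_ext {x y : (∏ᶜ Z : AddCommGrpCat.{u})} (h : ∀ t, Pi.π Z t x = Pi.π Z t y) : x = y :=
  Concrete.limit_ext _ x y fun ⟨t⟩ => h t

variable {E : Type u'} [Category.{v} E] [HasFiniteProducts E]
variable (P : Eᵒᵖ ⥤ AddCommGrpCat.{u}) {ι : Type u} (W : ι → E)

/-- The Cech complex. -/
noncomputable abbrev cx : CochainComplex AddCommGrpCat.{u} ℕ := (cechComplexFunctor W).obj P

/-- The intersection indexed by a tuple. -/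
noncomputable abbrev inter {p : ℕ} (a : Fin (p + 1) → ι) : E := ∏ᶜ fun k => W (a k)

/-- Components of a cochain. -/
noncomputable def ev {p : ℕ} (a : Fin (p + 1) → ι) :
    (cx P W).X p →+ P.obj (op (inter W a)) :=
  (Pi.π (fun i : Fin (p + 1) → ι => P.obj (op (inter W i))) a).hom

/-- A cochain with given components. -/
noncomputable def mk {p : ℕ} (f : ∀ a : Fin (p + 1) → ι, P.obj (op (inter W a))) :
    (cx P W).X p :=
  prodMk _ f

@[simp]
lemma ev_mk {p : ℕ} (f : ∀ a : Fin (p + 1) → ι, P.obj (op (inter W a))) (a : Fin (p + 1) → ι) :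
    ev P W a (mk P W f) = f a :=
  π_prodMk _ f a

lemma ext {p : ℕ} {x y : (cx P W).X p} (h : ∀ a, ev P W a x = ev P W a y) : x = y :=
  prod_ext h

/-- The map forgetting the index `j`. -/
noncomputable abbrev face {p : ℕ} (a : Fin (p + 2) → ι) (j : Fin (p + 2)) :
    inter W a ⟶ inter W (a ∘ j.succAbove) :=
  Pi.lift fun k => Pi.π (fun k => W (a k)) (j.succAbove k)

lemma d_eq (p : ℕ) :
    (cx P W).d p (p + 1) = AlgebraicTopology.AlternatingCofaceMapComplex.objD
      (((FormalCoproduct.cosimplicialObjectFunctor (FormalCoproduct.mk _ W).cech)).obj P) p :=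
  by
  show (AlgebraicTopology.AlternatingCofaceMapComplex.obj
    (((FormalCoproduct.cosimplicialObjectFunctor (FormalCoproduct.mk _ W).cech)).obj P)).d p (p + 1) = _
  dsimp only [AlgebraicTopology.AlternatingCofaceMapComplex.obj]
  exact CochainComplex.of_d _ _ p

lemma ev_d {p : ℕ} (x : (cx P W).X p) (a : Fin (p + 2) → ι) :
    ev P W a ((cx P W).d p (p + 1) x) =
      ∑ j : Fin (p + 2), (-1 : ℤ) ^ (j : ℕ) •
        P.map (face W a j).op (ev P W (a ∘ j.succAbove) x) := by
  let Φ : ((cx P W).X p ⟶ (cx P W).X (p + 1)) →+ P.obj (op (inter W a)) :=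
    AddMonoidHom.mk' (fun f => ev P W a (f x)) fun f g => map_add (ev P W a) (f x) (g x)
  change Φ ((cx P W).d p (p + 1)) = _
  rw [d_eq, AlgebraicTopology.AlternatingCofaceMapComplex.objD]
  erw [map_sum Φ]
  refine Finset.sum_congr rfl fun j _ => ?_
  erw [map_zsmul Φ]
  refine congrArg (fun z => (-1 : ℤ) ^ (j : ℕ) • z) ?_
  exact ConcreteCategory.congr_hom (Pi.lift_π _ a) x

/-- The value of a cochain on a tuple of morphisms into the members of the family. -/
noncomputable def val {p : ℕ} (x : (cx P W).X p) {V : E}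
    (s : Fin (p + 1) → (i : ι) × (V ⟶ W i)) : P.obj (op V) :=
  P.map (Pi.lift (f := fun k => W (s k).1) fun k => (s k).2).op
    (ev P W (fun k => (s k).1) x)

/-- The tautological tuple over an intersection. -/
noncomputable abbrev taut {p : ℕ} (a : Fin (p + 1) → ι) :
    Fin (p + 1) → (i : ι) × (inter W a ⟶ W i) :=
  fun k => ⟨a k, Pi.π (fun k => W (a k)) k⟩

lemma val_taut {p : ℕ} (x : (cx P W).X p) (a : Fin (p + 1) → ι) :
    val P W x (taut W a) = ev P W a x := by
  have : Pi.lift (f := fun k => W (a k)) (fun k => Pi.π (fun k => W (a k)) k) = 𝟙 (inter W a) :=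
    Pi.hom_ext _ _ fun k => by simp
  change P.map (Pi.lift (f := fun k => W (a k)) fun k => Pi.π (fun k => W (a k)) k).op
    (ev P W a x) = _
  rw [this]
  exact ConcreteCategory.congr_hom (P.map_id _) _

lemma ev_eq_val_taut {p : ℕ} (x : (cx P W).X p) (a : Fin (p + 1) → ι) :
    ev P W a x = val P W x (taut W a) := (val_taut P W x a).symm

lemma map_ev {p : ℕ} (x : (cx P W).X p) {V : E} (a : Fin (p + 1) → ι) (φ : V ⟶ inter W a) :
    P.map φ.op (ev P W a x) = val P W x (fun k => ⟨a k, φ ≫ Pi.π (fun k => W (a k)) k⟩) := by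
  have : Pi.lift (f := fun k => W (a k)) (fun k => φ ≫ Pi.π (fun k => W (a k)) k) = φ :=
    Pi.hom_ext _ _ fun k => by simp
  change _ = P.map (Pi.lift (f := fun k => W (a k)) fun k => φ ≫ Pi.π (fun k => W (a k)) k).op
    (ev P W a x)
  rw [this]

lemma map_val {p : ℕ} (x : (cx P W).X p) {V V' : E} (g : V' ⟶ V)
    (s : Fin (p + 1) → (i : ι) × (V ⟶ W i)) :
    P.map g.op (val P W x s) = val P W x (fun k => ⟨(s k).1, g ≫ (s k).2⟩) := by
  have : g ≫ Pi.lift (f := fun k => W (s k).1) (fun k => (s k).2) =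
      Pi.lift (f := fun k => W (s k).1) fun k => g ≫ (s k).2 :=
    Pi.hom_ext _ _ fun k => by simp
  change _ = P.map (Pi.lift (f := fun k => W (s k).1) fun k => g ≫ (s k).2).op
    (ev P W (fun k => (s k).1) x)
  rw [← this]
  exact (ConcreteCategory.congr_hom (P.map_comp _ _) _).symm

/-- The value of a coboundary on a tuple. -/
lemma val_d {p : ℕ} (x : (cx P W).X p) {V : E} (s : Fin (p + 2) → (i : ι) × (V ⟶ W i)) :
    val P W ((cx P W).d p (p + 1) x) s =
      ∑ j : Fin (p + 2), (-1 : ℤ) ^ (j : ℕ) • val P W x (s ∘ j.succAbove) := by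
  refine (congrArg (P.map (Pi.lift (f := fun k => W (s k).1) fun k => (s k).2).op)
    (ev_d P W x _)).trans ?_
  rw [map_sum]
  refine Finset.sum_congr rfl fun j _ => ?_
  rw [map_zsmul]
  refine congrArg (fun z => (-1 : ℤ) ^ (j : ℕ) • z) ?_
  refine (ConcreteCategory.congr_hom (P.map_comp _ _) _).symm.trans ?_
  rw [← op_comp]
  refine congrArg (fun m : V ⟶ inter W ((fun k => (s k).1) ∘ j.succAbove) =>
    P.map m.op (ev P W ((fun k => (s k).1) ∘ j.succAbove) x)) ?_
  refine Pi.hom_ext _ _ fun k => ?_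
  simp [face]

lemma isZero_homology_succ_iff (p : ℕ) :
    IsZero ((cx P W).homology (p + 1)) ↔
      ∀ x : (cx P W).X (p + 1), (cx P W).d (p + 1) (p + 2) x = 0 →
        ∃ y : (cx P W).X p, (cx P W).d p (p + 1) y = x := by
  rw [← HomologicalComplex.exactAt_iff_isZero_homology,
    HomologicalComplex.exactAt_iff' _ p (p + 1) (p + 2) (by simp) (by simp),
    ShortComplex.ab_exact_iff]
  rfl

section Functoriality

variable {P} {Q : Eᵒᵖ ⥤ AddCommGrpCat.{u}} (φ : P ⟶ Q)

/-- Apply a morphism of presheaves to a cochain. -/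
noncomputable def map {p : ℕ} (x : (cx P W).X p) : (cx Q W).X p :=
  mk Q W fun a => φ.app (op (inter W a)) (ev P W a x)

@[simp]
lemma ev_map {p : ℕ} (x : (cx P W).X p) (a : Fin (p + 1) → ι) :
    ev Q W a (map W φ x) = φ.app (op (inter W a)) (ev P W a x) := ev_mk ..

lemma map_d {p : ℕ} (x : (cx P W).X p) :
    map W φ ((cx P W).d p (p + 1) x) = (cx Q W).d p (p + 1) (map W φ x) := by
  refine ext Q W fun a => ?_
  rw [ev_map, ev_d, ev_d, map_sum]
  refine Finset.sum_congr rfl fun j _ => ?_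
  rw [map_zsmul, ev_map]
  exact congrArg (fun z => (-1 : ℤ) ^ (j : ℕ) • z) (NatTrans.naturality_apply φ _ _)

lemma map_eq_zero {p : ℕ} : map W φ (0 : (cx P W).X p) = 0 :=
  ext Q W fun a => by simp

lemma map_sub {p : ℕ} (x y : (cx P W).X p) : map W φ (x - y) = map W φ x - map W φ y :=
  ext Q W fun a => by simp

lemma map_injective (h : ∀ {p : ℕ} (a : Fin (p + 1) → ι), Function.Injective (φ.app (op (inter W a))))
    {p : ℕ} {x y : (cx P W).X p} (hxy : map W φ x = map W φ y) : x = y :=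
  ext P W fun a => h a (by rw [← ev_map, hxy, ev_map])

lemma isZero_homology_of_retract (r : Q ⟶ P) (hr : φ ≫ r = 𝟙 P) (p : ℕ)
    (h : IsZero ((cx Q W).homology (p + 1))) : IsZero ((cx P W).homology (p + 1)) := by
  rw [isZero_homology_succ_iff] at h ⊢
  intro x hx
  obtain ⟨y, hy⟩ := h (map W φ x) (by rw [← map_d, hx, map_eq_zero])
  refine ⟨map W r y, ?_⟩
  rw [← map_d, hy]
  refine ext P W fun a => ?_
  rw [ev_map, ev_map]
  exact ConcreteCategory.congr_hom (NatTrans.congr_app hr _) _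

end Functoriality

/-- The Cech cohomology of a quotient vanishes when that of the middle term vanishes and the
first one vanishes one degree higher. -/
lemma isZero_homology_of_exact {P₁ P₂ P₃ : Eᵒᵖ ⥤ AddCommGrpCat.{u}} (f : P₁ ⟶ P₂) (g : P₂ ⟶ P₃)
    (hf : ∀ {p : ℕ} (a : Fin (p + 1) → ι), Function.Injective (f.app (op (inter W a))))
    (hg : ∀ {p : ℕ} (a : Fin (p + 1) → ι), Function.Surjective (g.app (op (inter W a))))
    (hfg : ∀ {p : ℕ} (a : Fin (p + 1) → ι) (y), g.app (op (inter W a)) y = 0 →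
      ∃ x, f.app (op (inter W a)) x = y)
    (hgf : f ≫ g = 0) (p : ℕ)
    (h₂ : IsZero ((cx P₂ W).homology (p + 1))) (h₁ : IsZero ((cx P₁ W).homology (p + 2))) :
    IsZero ((cx P₃ W).homology (p + 1)) := by
  have hgf' : ∀ {p : ℕ} (x : (cx P₁ W).X p), map W g (map W f x) = 0 := fun x =>
    ext P₃ W fun a => by
      rw [ev_map, ev_map, map_zero]
      exact ConcreteCategory.congr_hom (NatTrans.congr_app hgf _) _
  rw [isZero_homology_succ_iff] at h₁ h₂ ⊢
  intro q hq
  choose c hc using fun a => hg a (ev P₃ W a q)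
  have hl : map W g (mk P₂ W c) = q := ext P₃ W fun a => by rw [ev_map, ev_mk, hc]
  have hdl : map W g ((cx P₂ W).d (p + 1) (p + 2) (mk P₂ W c)) = 0 := by rw [map_d, hl, hq]
  choose e he using fun a => hfg a (ev P₂ W a ((cx P₂ W).d (p + 1) (p + 2) (mk P₂ W c)))
    (by rw [← ev_map, hdl, map_zero])
  have he' : map W f (mk P₁ W e) = (cx P₂ W).d (p + 1) (p + 2) (mk P₂ W c) :=
    ext P₂ W fun a => by rw [ev_map, ev_mk, he]
  obtain ⟨b, hb⟩ := h₁ (mk P₁ W e) (map_injective W f (fun a => hf a) (by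
    rw [map_d, he', map_eq_zero, ← ConcreteCategory.comp_apply, HomologicalComplex.d_comp_d]
    rfl))
  obtain ⟨y, hy⟩ := h₂ (mk P₂ W c - map W f b) (by
    rw [_root_.map_sub, ← map_d, hb, he', sub_self])
  exact ⟨map W g y, by rw [← map_d, hy, map_sub, hl, hgf', sub_zero]⟩

end Groth.Agent.SiteCoh.Cech

namespace Groth.Agent.SiteCoh.Cech

variable {E : Type u} [SmallCategory E] (P : Eᵒᵖ ⥤ AddCommGrpCat.{u})

/-- The presheaf `X ↦ ∏_{f : V ⟶ X} P V`, into which `P` embeds. -/
noncomputable def cofree : Eᵒᵖ ⥤ AddCommGrpCat.{u} where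
  obj X := AddCommGrpCat.of (∀ f : (V : E) × (V ⟶ X.unop), P.obj (op f.1))
  map g := AddCommGrpCat.ofHom
    (AddMonoidHom.mk' (fun φ f => φ ⟨f.1, f.2 ≫ g.unop⟩) fun _ _ => rfl)
  map_id X := by ext φ f; exact congrArg (β := P.obj (op f.1)) (fun m : f.1 ⟶ X.unop => φ ⟨f.1, m⟩) (Category.comp_id f.2)
  map_comp {X Y Z} g h := by ext φ f; exact congrArg (β := P.obj (op f.1)) (fun m : f.1 ⟶ X.unop => φ ⟨f.1, m⟩) (Category.assoc f.2 h.unop g.unop).symm

lemma cofree_map_apply {X Y : Eᵒᵖ} (g : X ⟶ Y) (φ : (cofree P).obj X)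
    (f : (V : E) × (V ⟶ Y.unop)) : (cofree P).map g φ f = φ ⟨f.1, f.2 ≫ g.unop⟩ := rfl

/-- The embedding of a presheaf into its cofree presheaf. -/
noncomputable def toCofree : P ⟶ cofree P where
  app X := AddCommGrpCat.ofHom
    (AddMonoidHom.mk' (fun x f => P.map f.2.op x) fun x y => funext fun f => map_add _ x y)
  naturality X Y g := by
    ext x
    funext f
    exact (ConcreteCategory.congr_hom (P.map_comp g f.2.op) x).symm

instance : Mono (toCofree P) := by
  rw [NatTrans.mono_iff_mono_app]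
  intro X
  rw [AddCommGrpCat.mono_iff_injective]
  intro x y h
  have := congrFun h ⟨X.unop, 𝟙 X.unop⟩
  change P.map (𝟙 X.unop).op x = P.map (𝟙 X.unop).op y at this
  simpa using this

variable [HasFiniteProducts E] {ι : Type u} (W : ι → E)

/-- The Cech cohomology of a cofree presheaf vanishes in positive degrees. -/
lemma isZero_homology_cofree (p : ℕ) : IsZero ((cx (cofree P) W).homology (p + 1)) := by
  classical
  rw [isZero_homology_succ_iff]
  intro x hx
  let cone (V : E) (s₀ : (i : ι) × (V ⟶ W i)) (s : Fin (p + 1) → (i : ι) × (V ⟶ W i)) :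
      P.obj (op V) := val (cofree P) W x (Fin.cons s₀ s) ⟨V, 𝟙 V⟩
  let pick (V : E) (s : Fin (p + 1) → (i : ι) × (V ⟶ W i)) : (i : ι) × (V ⟶ W i) :=
    @Classical.choice _ (⟨s 0⟩ : Nonempty ((i : ι) × (V ⟶ W i)))
  refine ⟨mk (cofree P) W fun b (f : (V : E) × (V ⟶ inter W b)) =>
    let s : Fin (p + 1) → (i : ι) × (f.1 ⟶ W i) := fun k => ⟨b k, f.2 ≫ Pi.π (fun k => W (b k)) k⟩
    cone f.1 (pick f.1 s) s, ?_⟩
  refine ext _ W fun a => funext fun f => ?_
  obtain ⟨V, φ⟩ := f
  let s : Fin (p + 2) → (i : ι) × (V ⟶ W i) := fun k => ⟨a k, φ ≫ Pi.π (fun k => W (a k)) k⟩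
  let s₀ : (i : ι) × (V ⟶ W i) := @Classical.choice _ (⟨s 0⟩ : Nonempty ((i : ι) × (V ⟶ W i)))
  have hcocycle := val_d (cofree P) W x (Fin.cons s₀ s)
  rw [hx, Fin.sum_univ_succ] at hcocycle
  let evV : (cofree P).obj (op V) →+ P.obj (op V) :=
    AddMonoidHom.mk' (fun φ => φ ⟨V, 𝟙 V⟩) fun _ _ => rfl
  have h₀ := congrArg evV hcocycle
  have hval0 : val (cofree P) W (0 : (cx (cofree P) W).X (p + 2)) (Fin.cons s₀ s) = 0 := by
    rw [val, map_zero, map_zero]
  rw [hval0, map_zero, map_add, map_sum] at h₀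
  rw [ev_d]
  let evf : (cofree P).obj (op (inter W a)) →+ P.obj (op V) :=
    AddMonoidHom.mk' (fun ψ => ψ ⟨V, φ⟩) fun _ _ => rfl
  have key : ∀ (g : Fin (p + 2) → (cofree P).obj (op (inter W a))),
      (∑ j, g j) ⟨V, φ⟩ = ∑ j, evf (g j) := fun g => map_sum evf g Finset.univ
  refine (key _).trans ?_
  have e₁ : evV (val (cofree P) W x s) = evf (ev (cofree P) W a x) := by
    have := congrArg evV (map_ev (cofree P) W x a φ).symm
    refine this.trans ?_
    change ev (cofree P) W a x ⟨V, 𝟙 V ≫ φ⟩ = ev (cofree P) W a x ⟨V, φ⟩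
    rw [Category.id_comp]
  refine Eq.trans ?_ e₁
  have e₀ : (Fin.cons s₀ s : Fin (p + 3) → (i : ι) × (V ⟶ W i)) ∘ (0 : Fin (p + 3)).succAbove = s :=
    funext fun k => by simp
  rw [e₀, Fin.val_zero, pow_zero, one_zsmul] at h₀
  rw [eq_neg_of_add_eq_zero_left h₀.symm, ← Finset.sum_neg_distrib]
  refine Finset.sum_congr rfl fun j _ => ?_
  have e₂ : (Fin.cons s₀ s : Fin (p + 3) → (i : ι) × (V ⟶ W i)) ∘ j.succ.succAbove =
      Fin.cons s₀ (s ∘ j.succAbove) := funext fun k => by
    cases k using Fin.cases <;> simp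
  rw [map_zsmul, map_zsmul, e₂, Fin.val_succ, pow_succ', neg_one_mul, neg_smul, neg_neg]
  refine congrArg (fun z => (-1 : ℤ) ^ (j : ℕ) • z) ?_
  change (ev (cofree P) W (a ∘ j.succAbove) (mk _ W _)) ⟨V, φ ≫ face W a j⟩ = _
  erw [ev_mk]
  have e₃ : (fun k => (⟨a (j.succAbove k),
      (φ ≫ face W a j) ≫ Pi.π (fun k => W (a (j.succAbove k))) k⟩ : (i : ι) × (V ⟶ W i))) =
      s ∘ j.succAbove := funext fun k => by
    refine Sigma.ext rfl (heq_of_eq ?_)
    rw [Category.assoc]
    exact congrArg (fun m => φ ≫ m) (Pi.lift_π _ _)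
  exact congrArg (fun t => cone V s₀ t) e₃

/-- The Cech cohomology of an injective presheaf vanishes in positive degrees. -/
lemma isZero_homology_of_injective [Injective P] (p : ℕ) :
    IsZero ((cx P W).homology (p + 1)) :=
  isZero_homology_of_retract W (toCofree P) (Injective.factorThru (𝟙 P) (toCofree P))
    (Injective.comp_factorThru _ _) p (isZero_homology_cofree P W p)

end Groth.Agent.SiteCoh.Cech
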