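import Mathlib.CategoryTheory.Functor.Flat
import Mathlib.CategoryTheory.Limits.Final
import Mathlib.CategoryTheory.Comma.Over.Basic
import Mathlib.Algebra.Category.Grp.AB

/-!
# Exactness of left Kan extensions of abelian presheaves along multi-flat functors

If every comma category `CostructuredArrow L X` receives a final functor from a discrete category,
left Kan extension along `L` is exact on abelian group valued functors (it is a direct sum).
-/

set_option autoImplicit false

universe u v' u'

open CategoryTheory CategoryTheory.Limits Opposite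

namespace Groth.Agent.SiteCoh

/-- Left Kan extension along a functor with discretely final comma categories is exact. -/
lemma lan_preservesFiniteLimits_of_discrete_final {C D : Type u} [SmallCategory C] [SmallCategory D]
    (L : C ⥤ D)
    (h : ∀ X : D, ∃ (ι : Type u) (F : Discrete ι ⥤ CostructuredArrow L X), F.Final) :
    PreservesFiniteLimits (L.lan : (C ⥤ AddCommGrpCat.{u}) ⥤ D ⥤ AddCommGrpCat.{u}) where
  preservesFiniteLimits J _ _ := preservesLimitsOfShape_of_evaluation _ J fun X => by
    obtain ⟨ι, F, hF⟩ := h X
    have : PreservesFiniteLimits (colim : (Discrete ι ⥤ AddCommGrpCat.{u}) ⥤ AddCommGrpCat.{u}) :=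
      HasExactColimitsOfShape.preservesFiniteLimits
    have h1 : PreservesLimitsOfShape J
        (colim : (CostructuredArrow L X ⥤ AddCommGrpCat.{u}) ⥤ AddCommGrpCat.{u}) :=
      preservesLimitsOfShape_of_natIso (Functor.Final.colimIso F (E := AddCommGrpCat.{u}))
    exact preservesLimitsOfShape_of_natIso (lanEvaluationIsoColim AddCommGrpCat.{u} L X).symm

variable {C : Type u'} [Category.{v'} C]

/-- The tautological objects of `CostructuredArrow (Over.forget U).op (op V)`, one for each
morphism `V ⟶ U`. -/
def overForgetCostructured (U : C) (V : C) :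
    Discrete (V ⟶ U) ⥤ CostructuredArrow (Over.forget U).op (op V) :=
  Discrete.functor fun g => CostructuredArrow.mk (Y := op (Over.mk g)) (𝟙 (op V))

instance overForgetCostructured_final (U : C) (V : C) : (overForgetCostructured U V).Final := by
  constructor
  intro d
  have key : ∀ x : StructuredArrow d (overForgetCostructured U V),
      x.hom.left.unop.left = d.hom.unop ∧ x.right.as = d.hom.unop ≫ d.left.unop.hom := by
    intro x
    have h1 : x.hom.left.unop.left = d.hom.unop := by
      have := congrArg Quiver.Hom.unop (CostructuredArrow.w x.hom)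
      exact (Category.id_comp _).symm.trans this
    refine ⟨h1, ?_⟩
    have h2 := Over.w x.hom.left.unop
    rw [h1] at h2
    exact h2.symm
  have : Nonempty (StructuredArrow d (overForgetCostructured U V)) :=
    ⟨StructuredArrow.mk (Y := Discrete.mk (d.hom.unop ≫ d.left.unop.hom))
      (CostructuredArrow.homMk (Over.homMk d.hom.unop : Over.mk _ ⟶ d.left.unop).op
        (Category.comp_id _))⟩
  refine zigzag_isConnected fun a b => Zigzag.of_hom ?_
  obtain ⟨ha, ha'⟩ := key a
  obtain ⟨hb, hb'⟩ := key b
  refine StructuredArrow.homMk (eqToHom (Discrete.ext (ha'.trans hb'.symm))) ?_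
  apply CostructuredArrow.hom_ext
  apply Quiver.Hom.unop_inj
  apply Over.OverMorphism.ext
  obtain ⟨⟨⟨⟩⟩, ⟨ga⟩, ma⟩ := a
  obtain ⟨⟨⟨⟩⟩, ⟨gb⟩, mb⟩ := b
  obtain rfl : ga = gb := ha'.trans hb'.symm
  simp only [eqToHom_refl, CategoryTheory.Functor.map_id, Category.comp_id]
  exact ha.trans hb.symm

end Groth.Agent.SiteCoh
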