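import Groth.Agent.SiteCoh.SheafTools

/-!
# Cohomology of the image under an exact functor carrying injectives to acyclic sheaves
-/

set_option autoImplicit false

universe w v u₁ u

open CategoryTheory CategoryTheory.Limits CategoryTheory.Abelian Opposite

namespace Groth.Agent.SiteCoh

section

variable {A : Type u₁} [Category.{v} A] [Abelian A] [HasExt.{w} A]

/-- Dimension shifting as an isomorphism. -/
noncomputable def extShiftEquiv {X : A} {S : ShortComplex A} (hS : S.ShortExact) (n : ℕ)
    (h₀ : Subsingleton (Ext X S.X₂ n)) (h₁ : Subsingleton (Ext X S.X₂ (n + 1))) :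
    Ext X S.X₃ n ≃+ Ext X S.X₁ (n + 1) :=
  AddEquiv.ofBijective (hS.extClass.postcomp X rfl) ⟨by
      rw [injective_iff_map_eq_zero]
      intro x hx
      obtain ⟨y, rfl⟩ := Ext.covariant_sequence_exact₃ X hS x rfl hx
      rw [Subsingleton.elim y 0, Ext.zero_comp],
    fun x => Ext.covariant_sequence_exact₁ X hS x (Subsingleton.elim _ _) rfl⟩

end

section

variable {C : Type u} [SmallCategory C] {J : GrothendieckTopology C}

/-- The connecting map from sections. -/
noncomputable def sectionsDelta {S : ShortComplex (Sheaf J AddCommGrpCat.{u})} (hS : S.ShortExact)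
    (U : C) : S.X₃.obj.obj (op U) →+ CohSite.HU S.X₁ 1 U :=
  (hS.extClass.postcomp (CohCx.freeSheaf J U) (zero_add 1)).comp
    ((Ext.addEquiv₀ (X := CohCx.freeSheaf J U) (Y := S.X₃)).symm.toAddMonoidHom.comp
      (homEquiv U S.X₃).symm.toAddMonoidHom)

lemma surjective_sectionsDelta {S : ShortComplex (Sheaf J AddCommGrpCat.{u})} (hS : S.ShortExact)
    (U : C) (h : Subsingleton (CohSite.HU S.X₂ 1 U)) : Function.Surjective (sectionsDelta hS U) := by
  intro x
  obtain ⟨y, rfl⟩ := Ext.covariant_sequence_exact₁ _ hS x (@Subsingleton.elim _ h _ _) (zero_add 1)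
  obtain ⟨f, rfl⟩ := (Ext.mk₀_bijective _ S.X₃).2 y
  exact ⟨homEquiv U S.X₃ f, congrArg (fun m => (Ext.mk₀ m).comp hS.extClass (zero_add 1))
    ((homEquiv U S.X₃).symm_apply_apply f)⟩

lemma sectionsDelta_eq_zero_iff {S : ShortComplex (Sheaf J AddCommGrpCat.{u})} (hS : S.ShortExact)
    (U : C) (a : S.X₃.obj.obj (op U)) :
    sectionsDelta hS U a = 0 ↔ a ∈ Set.range (S.g.hom.app (op U)) := by
  constructor
  · intro h
    obtain ⟨y, hy⟩ := Ext.covariant_sequence_exact₃ (CohCx.freeSheaf J U) hS
      (Ext.mk₀ ((homEquiv U S.X₃).symm a)) (zero_add 1) h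
    obtain ⟨g, rfl⟩ := (Ext.mk₀_bijective _ S.X₂).2 y
    rw [Ext.mk₀_comp_mk₀] at hy
    exact ⟨homEquiv U S.X₂ g, by
      rw [← homEquiv_postcomp, (Ext.mk₀_bijective _ S.X₃).1 hy, AddEquiv.apply_symm_apply]⟩
  · rintro ⟨b, rfl⟩
    have : (homEquiv U S.X₂).symm b ≫ S.g = (homEquiv U S.X₃).symm (S.g.hom.app (op U) b) :=
      (homEquiv U S.X₃).injective (by
        rw [homEquiv_postcomp, AddEquiv.apply_symm_apply, AddEquiv.apply_symm_apply])
    refine (congrArg (fun m => (Ext.mk₀ m).comp hS.extClass (zero_add 1)) this.symm).trans ?_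
    rw [← Ext.mk₀_comp_mk₀, Ext.comp_assoc_of_second_deg_zero, hS.comp_extClass, Ext.comp_zero]
    rfl

/-- Degree one cohomology as a quotient of sections. -/
noncomputable def sectionsQuotientEquiv {S : ShortComplex (Sheaf J AddCommGrpCat.{u})}
    (hS : S.ShortExact) (U : C) (h : Subsingleton (CohSite.HU S.X₂ 1 U)) :
    S.X₃.obj.obj (op U) ⧸ (S.g.hom.app (op U)).hom.range ≃+ CohSite.HU S.X₁ 1 U :=
  (QuotientAddGroup.quotientAddEquivOfEq (AddSubgroup.ext fun a =>
      (sectionsDelta_eq_zero_iff hS U a).symm)).trans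
    (QuotientAddGroup.quotientKerEquivOfSurjective (sectionsDelta hS U)
      (surjective_sectionsDelta hS U h))

variable {D : Type u} [SmallCategory D] {K : GrothendieckTopology D}

/-- An exact direct image carrying injective sheaves to acyclic ones preserves cohomology. -/
theorem nonempty_hU_push_equiv (u : C ⥤ D) [u.IsContinuous J K]
    [PreservesFiniteLimits (CohSite.push K J u)] [PreservesFiniteColimits (CohSite.push K J u)]
    (U : C) (hI : ∀ (I : Sheaf K AddCommGrpCat.{u}), Injective I →
      ∀ p : ℕ, Subsingleton (CohSite.HU ((CohSite.push K J u).obj I) (p + 1) U))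
    (F : Sheaf K AddCommGrpCat.{u}) (p : ℕ) :
    Nonempty (CohSite.HU ((CohSite.push K J u).obj F) p U ≃+ CohSite.HU F p (u.obj U)) := by
  induction p generalizing F with
  | zero =>
    exact ⟨(((Ext.addEquiv₀).trans (homEquiv U _)).trans
      ((homEquiv (u.obj U) F).symm.trans (Ext.addEquiv₀ (X := CohCx.freeSheaf K (u.obj U))).symm))⟩
  | succ p ih =>
    have hP : ((injEmbed F).map (CohSite.push K J u)).ShortExact :=
      (injEmbed_shortExact F).map_of_exact _
    have hInj : Injective (injEmbed F).X₂ := inferInstanceAs (Injective (Injective.under F))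
    cases p with
    | zero =>
      exact ⟨(sectionsQuotientEquiv hP U (hI _ hInj 0)).symm.trans
        (sectionsQuotientEquiv (injEmbed_shortExact F) (u.obj U)
          (Ext.subsingleton_of_injective _ _ 0))⟩
    | succ q =>
      obtain ⟨e⟩ := ih (injEmbed F).X₃
      exact ⟨(extShiftEquiv hP (q + 1) (hI _ hInj q) (hI _ hInj (q + 1))).symm.trans
        (e.trans (extShiftEquiv (injEmbed_shortExact F) (q + 1)
          (Ext.subsingleton_of_injective _ _ q) (Ext.subsingleton_of_injective _ _ (q + 1))))⟩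

end

end Groth.Agent.SiteCoh
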