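import Groth.Agent.SiteCoh.Criterion
import Groth.Agent.SiteCoh.PushExact
import Mathlib.Algebra.Homology.HomologySequence
import Mathlib.Algebra.Homology.HomologicalComplexAbelian

/-!
# Cech cohomology computes cohomology for acyclic coverings
-/

set_option autoImplicit false

universe u v u'

open CategoryTheory CategoryTheory.Limits CategoryTheory.Abelian Opposite

namespace Groth.Agent.SiteCoh

namespace Cech

variable {E : Type u'} [Category.{v} E] [HasFiniteProducts E] {ι : Type u} (W : ι → E)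
  {P Q : Eᵒᵖ ⥤ AddCommGrpCat.{u}}

lemma map_add (φ : P ⟶ Q) {p : ℕ} (x y : (cx P W).X p) :
    map W φ (x + y) = map W φ x + map W φ y :=
  ext Q W fun a => by simp

lemma mk_add (P : Eᵒᵖ ⥤ AddCommGrpCat.{u}) {p : ℕ}
    (f g h : ∀ a : Fin (p + 1) → ι, P.obj (op (inter W a))) (e : ∀ a, f a = g a + h a) :
    mk P W f = mk P W g + mk P W h :=
  ext P W fun a => by rw [_root_.map_add, ev_mk, ev_mk, ev_mk, e]

/-- The map of Cech complexes attached to a map of presheaves. -/
noncomputable def cxMap (φ : P ⟶ Q) : cx P W ⟶ cx Q W where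
  f _ := AddCommGrpCat.ofHom (AddMonoidHom.mk' (fun x => map W φ x) (map_add W φ))
  comm' i j hij := by
    obtain rfl : i + 1 = j := hij
    ext x
    exact (map_d W φ x).symm

lemma cxMap_f_apply (φ : P ⟶ Q) {p : ℕ} (x : (cx P W).X p) :
    (cxMap W φ).f p x = map W φ x := rfl

/-- A short exact sequence on the intersections gives one of Cech complexes. -/
lemma shortExact_cxMap {R : Eᵒᵖ ⥤ AddCommGrpCat.{u}} (f : P ⟶ Q) (g : Q ⟶ R) (hgf : f ≫ g = 0)
    (hf : ∀ {p : ℕ} (a : Fin (p + 1) → ι), Function.Injective (f.app (op (inter W a))))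
    (hg : ∀ {p : ℕ} (a : Fin (p + 1) → ι), Function.Surjective (g.app (op (inter W a))))
    (hfg : ∀ {p : ℕ} (a : Fin (p + 1) → ι) (y), g.app (op (inter W a)) y = 0 →
      ∃ x, f.app (op (inter W a)) x = y) :
    ∃ h : cxMap W f ≫ cxMap W g = 0, (ShortComplex.mk (cxMap W f) (cxMap W g) h).ShortExact := by
  have h : cxMap W f ≫ cxMap W g = 0 := by
    ext p x
    refine ext R W fun a => ?_
    change ev R W a (map W g (map W f x)) = ev R W a 0
    rw [ev_map, ev_map, map_zero]
    exact ConcreteCategory.congr_hom (NatTrans.congr_app hgf _) _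
  refine ⟨h, HomologicalComplex.shortExact_of_degreewise_shortExact _ fun p => ?_⟩
  exact
    { exact := by
        rw [ShortComplex.ab_exact_iff]
        intro (y : (cx Q W).X p) hy
        have hy' : map W g y = 0 := hy
        choose x hx using fun a => hfg a (ev Q W a y) (by rw [← ev_map, hy', map_zero])
        exact ⟨mk P W x, ext Q W fun a => (ev_map W f _ a).trans (by rw [ev_mk, hx])⟩
      mono_f := (AddCommGrpCat.mono_iff_injective _).2
        fun (x : (cx P W).X p) y hxy => map_injective W f (fun a => hf a) hxy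
      epi_g := (AddCommGrpCat.epi_iff_surjective _).2 fun (z : (cx R W).X p) => by
        choose y hy using fun a => hg a (ev R W a z)
        exact ⟨mk Q W y, ext R W fun a => (ev_map W g _ a).trans (by rw [ev_mk, hy])⟩ }

end Cech

variable {C : Type u} [SmallCategory C] {J : GrothendieckTopology C}
variable {E : Type u} [SmallCategory E] [HasFiniteProducts E] (G : E ⥤ C)
variable {U : C} {ι : Type u} (W : ι → E) (π : ∀ i, G.obj (W i) ⟶ U)

/-- The augmentation of the Cech complex. -/
noncomputable def cechAug (F : Sheaf J AddCommGrpCat.{u}) :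
    F.obj.obj (op U) ⟶ (Cech.cx (pullPsh G F) W).X 0 :=
  AddCommGrpCat.ofHom (AddMonoidHom.mk'
    (fun x => Cech.mk _ W fun a =>
      F.obj.map (G.map (Pi.π (fun k => W (a k)) 0) ≫ π (a 0)).op x)
    fun x y => Cech.mk_add W _ _ _ _ fun a => _root_.map_add _ x y)

lemma ev_cechAug (F : Sheaf J AddCommGrpCat.{u}) (x : F.obj.obj (op U)) (a : Fin 1 → ι) :
    Cech.ev (pullPsh G F) W a (cechAug G W π F x) =
      F.obj.map (G.map (Pi.π (fun k => W (a k)) 0) ≫ π (a 0)).op x :=
  Cech.ev_mk ..

lemma val_cechAug (F : Sheaf J AddCommGrpCat.{u}) (x : F.obj.obj (op U)) {Z : E}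
    (t : Fin 1 → (i : ι) × (Z ⟶ W i)) :
    Cech.val (pullPsh G F) W (cechAug G W π F x) t =
      F.obj.map (G.map (t 0).2 ≫ π (t 0).1).op x := by
  rw [Cech.val, ev_cechAug]
  change F.obj.map (G.map _).op (F.obj.map _ _) = _
  rw [← ConcreteCategory.comp_apply, ← F.obj.map_comp, ← op_comp, ← Category.assoc, ← G.map_comp]
  exact congrArg (fun m => F.obj.map (G.map m ≫ π (t 0).1).op x) (Pi.lift_π _ _)

lemma cechAug_naturality {F F' : Sheaf J AddCommGrpCat.{u}} (φ : F ⟶ F') :
    φ.hom.app (op U) ≫ cechAug G W π F' =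
      cechAug G W π F ≫ (Cech.cxMap W (Functor.whiskerLeft G.op φ.hom)).f 0 := by
  ext x
  refine Cech.ext _ W fun a => (ev_cechAug G W π F' _ a).trans ?_
  refine Eq.trans ?_ (Cech.ev_map W (Functor.whiskerLeft G.op φ.hom) _ a).symm
  refine Eq.trans ?_ (congrArg ((Functor.whiskerLeft G.op φ.hom).app _) (ev_cechAug G W π F x a)).symm
  exact (NatTrans.naturality_apply φ.hom _ _).symm

section H0

variable (hcomm : ∀ (Z : E) i j (f : Z ⟶ W i) (g : Z ⟶ W j), G.map f ≫ π i = G.map g ≫ π j)
include hcomm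

lemma cechAug_d (F : Sheaf J AddCommGrpCat.{u}) :
    cechAug G W π F ≫ (Cech.cx (pullPsh G F) W).d 0 1 = 0 := by
  ext x
  refine Cech.ext _ W fun a => ?_
  rw [ConcreteCategory.comp_apply, Cech.ev_eq_val_taut, Cech.val_d, Fin.sum_univ_two, val_cechAug,
    val_cechAug]
  simp only [Fin.val_zero, pow_zero, one_zsmul, Fin.val_one, pow_one, neg_smul]
  rw [hcomm (Cech.inter W a) _ _ ((Cech.taut W a ∘ (0 : Fin 2).succAbove) 0).2
    ((Cech.taut W a ∘ (1 : Fin 2).succAbove) 0).2, add_neg_cancel]
  exact (map_zero (Cech.ev (pullPsh G F) W a)).symm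

variable (hcov : Sieve.ofArrows (fun i => G.obj (W i)) π ∈ J U)
  (hpair : ∀ (Z : C) i j (f : Z ⟶ G.obj (W i)) (g : Z ⟶ G.obj (W j)), f ≫ π i = g ≫ π j →
    ∃ (Z' : E) (e : Z ⟶ G.obj Z') (f' : Z' ⟶ W i) (g' : Z' ⟶ W j),
      e ≫ G.map f' = f ∧ e ≫ G.map g' = g)
include hcov hpair

lemma isIso_cechAug_lift (F : Sheaf J AddCommGrpCat.{u}) :
    IsIso ((Cech.cx (pullPsh G F) W).liftCycles (cechAug G W π F) 1 (by simp)
      (cechAug_d G W π hcomm F)) := by
  rw [CochainComplex.isIso_liftCycles_iff]
  constructor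
  · rw [ShortComplex.ab_exact_iff]
    intro (c : (Cech.cx (pullPsh G F) W).X 0) (hc : (Cech.cx (pullPsh G F) W).d 0 1 c = 0)
    let s : ∀ i, F.obj.obj (op (G.obj (W i))) := fun i =>
      Cech.val (pullPsh G F) W c (fun _ => ⟨i, 𝟙 (W i)⟩)
    obtain ⟨t, ht, -⟩ := existsUnique_amalgamation F π hcov s fun i j Z f g hfg => by
      obtain ⟨Z', z, f', g', rfl, rfl⟩ := hpair Z i j f g hfg
      have := Cech.val_d (pullPsh G F) W c
        (Fin.cons ⟨j, g'⟩ fun _ : Fin 1 => (⟨i, f'⟩ : (i : ι) × (Z' ⟶ W i)))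
      rw [hc, Fin.sum_univ_two] at this
      simp only [Fin.val_zero, pow_zero, one_zsmul, Fin.val_one, pow_one, neg_smul,
        Cech.val, map_zero] at this
      have h' := eq_of_sub_eq_zero ((sub_eq_add_neg _ _).trans this.symm)
      rw [op_comp, F.obj.map_comp, ConcreteCategory.comp_apply, op_comp, F.obj.map_comp,
        ConcreteCategory.comp_apply]
      refine congrArg (F.obj.map z.op) ?_
      refine (Cech.map_val (pullPsh G F) W c f' _).trans
        (Eq.trans ?_ (Cech.map_val (pullPsh G F) W c g' _).symm)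
      simp only [Category.comp_id]
      refine Eq.trans ?_ (h'.trans ?_)
      · exact congrArg (Cech.val (pullPsh G F) W c) (funext fun k => by fin_cases k; rfl)
      · exact congrArg (Cech.val (pullPsh G F) W c) (funext fun k => by fin_cases k; rfl)
    refine ⟨t, Cech.ext _ W fun a => (ev_cechAug G W π F t a).trans ?_⟩
    rw [op_comp, F.obj.map_comp, ConcreteCategory.comp_apply, ht]
    refine (Cech.map_val (pullPsh G F) W c _ _).trans ?_
    refine Eq.trans ?_ (Cech.val_taut (pullPsh G F) W c a)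
    exact congrArg (Cech.val (pullPsh G F) W c) (funext fun k => by
      fin_cases k; simp [Cech.taut])
  · refine (AddCommGrpCat.mono_iff_injective _).2 fun x y hxy => ext_of_cover F π hcov fun i => ?_
    have := congrArg (fun c => Cech.val (pullPsh G F) W c (fun _ => ⟨i, 𝟙 (W i)⟩)) hxy
    simp only [val_cechAug, G.map_id, Category.id_comp] at this
    exact this

/-- The zeroth Cech cohomology of a sheaf is its group of sections. -/
noncomputable def cechH0Iso (F : Sheaf J AddCommGrpCat.{u}) :
    F.obj.obj (op U) ≅ (Cech.cx (pullPsh G F) W).homology 0 :=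
  haveI := isIso_cechAug_lift G W π hcomm hcov hpair F
  asIso ((Cech.cx (pullPsh G F) W).liftCycles (cechAug G W π F) 1 _
      (cechAug_d G W π hcomm F)) ≪≫ (Cech.cx (pullPsh G F) W).isoHomologyπ₀

lemma cechH0Iso_naturality {F F' : Sheaf J AddCommGrpCat.{u}} (φ : F ⟶ F') :
    φ.hom.app (op U) ≫ (cechH0Iso G W π hcomm hcov hpair F').hom =
      (cechH0Iso G W π hcomm hcov hpair F).hom ≫
        HomologicalComplex.homologyMap (Cech.cxMap W (Functor.whiskerLeft G.op φ.hom)) 0 := by
  rw [← cancel_mono ((Cech.cx (pullPsh G F') W).isoHomologyπ₀.inv)]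
  simp only [cechH0Iso, Iso.trans_hom, asIso_hom, Category.assoc, Iso.hom_inv_id, Category.comp_id,
    CochainComplex.isoHomologyπ₀_inv_naturality, Iso.hom_inv_id_assoc]
  rw [← cancel_mono ((Cech.cx (pullPsh G F') W).iCycles 0)]
  simp [cechAug_naturality]

/-- Cech cohomology computes cohomology when the sheaf is acyclic on all intersections. -/
theorem nonempty_cech_equiv
    (hI : ∀ (I : Sheaf J AddCommGrpCat.{u}), Injective I → ∀ p,
      IsZero ((Cech.cx (pullPsh G I) W).homology (p + 1)))
    (F : Sheaf J AddCommGrpCat.{u})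
    (hF : ∀ (p : ℕ) (a : Fin (p + 1) → ι) (q : ℕ),
      Subsingleton (CohSite.HU F (q + 1) (G.obj (Cech.inter W a))))
    (p : ℕ) : Nonempty ((Cech.cx (pullPsh G F) W).homology p ≃+ CohSite.HU F p U) := by
  induction p generalizing F with
  | zero =>
    exact ⟨(cechH0Iso G W π hcomm hcov hpair F).symm.addCommGroupIsoToAddEquiv.trans
      (((homEquiv U F).symm.trans (Ext.addEquiv₀ (X := CohCx.freeSheaf J U)).symm))⟩
  | succ p ih =>
    have hS := injEmbed_shortExact F
    have hInj : Injective (injEmbed F).X₂ := inferInstanceAs (Injective (Injective.under F))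
    have := hS.mono_f
    have hsurj : ∀ {p : ℕ} (a : Fin (p + 1) → ι),
        Function.Surjective ((injEmbed F).g.hom.app (op (G.obj (Cech.inter W a)))) :=
      fun a => surjective_sections_of_subsingleton hS _ (hF _ a 0)
    have hQ : ∀ (p : ℕ) (a : Fin (p + 1) → ι) (q : ℕ),
        Subsingleton (CohSite.HU (injEmbed F).X₃ (q + 1) (G.obj (Cech.inter W a))) :=
      fun p a q => subsingleton_ext_X₃ hS (q + 1) (Ext.subsingleton_of_injective _ _ q)
        (hF p a (q + 1))
    obtain ⟨w, hK⟩ := Cech.shortExact_cxMap W (Functor.whiskerLeft G.op (injEmbed F).f.hom)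
      (Functor.whiskerLeft G.op (injEmbed F).g.hom)
      (by ext Z x; exact sections_comp_eq_zero _ x)
      (fun a => sections_injective (injEmbed F).f _) hsurj
      (fun a y hy => sections_exact hS _ y hy)
    cases p with
    | zero =>
      let δ' : (injEmbed F).X₃.obj.obj (op U) ⟶ (Cech.cx (pullPsh G F) W).homology 1 :=
        (cechH0Iso G W π hcomm hcov hpair _).hom ≫ hK.δ 0 1 rfl
      have hsur : Function.Surjective δ' := by
        intro y
        obtain ⟨z, hz⟩ := (ShortComplex.ab_exact_iff _).1 (hK.homology_exact₁ 0 1 rfl) y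
          ((AddCommGrpCat.subsingleton_of_isZero (hI _ hInj 0)).elim _ _)
        obtain ⟨x, rfl⟩ := (AddCommGrpCat.epi_iff_surjective
          (cechH0Iso G W π hcomm hcov hpair (injEmbed F).X₃).hom).1 inferInstance z
        exact ⟨x, hz⟩
      have hker : ∀ x, δ' x = 0 ↔ x ∈ Set.range ((injEmbed F).g.hom.app (op U)) := by
        intro x
        constructor
        · intro hx
          obtain ⟨z, hz⟩ := (ShortComplex.ab_exact_iff _).1 (hK.homology_exact₃ 0 1 rfl)
            ((cechH0Iso G W π hcomm hcov hpair (injEmbed F).X₃).hom x) hx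
          obtain ⟨b, rfl⟩ := (AddCommGrpCat.epi_iff_surjective
            (cechH0Iso G W π hcomm hcov hpair (injEmbed F).X₂).hom).1 inferInstance z
          exact ⟨b, (AddCommGrpCat.mono_iff_injective
            (cechH0Iso G W π hcomm hcov hpair (injEmbed F).X₃).hom).1 inferInstance
              ((ConcreteCategory.congr_hom
                (cechH0Iso_naturality G W π hcomm hcov hpair (injEmbed F).g) b).trans hz)⟩
        · rintro ⟨b, rfl⟩
          refine (congrArg (hK.δ 0 1 rfl) (ConcreteCategory.congr_hom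
            (cechH0Iso_naturality G W π hcomm hcov hpair (injEmbed F).g) b)).trans ?_
          exact ConcreteCategory.congr_hom (hK.comp_δ 0 1 rfl) _
      exact ⟨((QuotientAddGroup.quotientKerEquivOfSurjective δ'.hom hsur).symm.trans
        (QuotientAddGroup.quotientAddEquivOfEq (show δ'.hom.ker = ((injEmbed F).g.hom.app (op U)).hom.range from
          AddSubgroup.ext fun a => hker a))).trans
          (sectionsQuotientEquiv hS U (Ext.subsingleton_of_injective _ _ 0))⟩
    | succ q =>
      obtain ⟨e⟩ := ih (injEmbed F).X₃ hQ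
      exact ⟨(hK.δIso (q + 1) (q + 2) rfl (hI _ hInj q) (hI _ hInj (q + 1))).symm.addCommGroupIsoToAddEquiv.trans
        (e.trans (extShiftEquiv hS (q + 1) (Ext.subsingleton_of_injective _ _ q)
          (Ext.subsingleton_of_injective _ _ (q + 1))))⟩

end H0

end Groth.Agent.SiteCoh
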