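import Groth.Agent.SiteCoh.Basics
import Mathlib.CategoryTheory.Sites.EpiMono

/-!
# Elementwise tools for abelian sheaves on small sites
-/

set_option autoImplicit false

universe u

open CategoryTheory CategoryTheory.Limits Opposite

namespace Groth.Agent.SiteCoh

variable {C : Type u} [SmallCategory C] {J : GrothendieckTopology C}

/-- The sections functor on `U`. -/
noncomputable abbrev sectionsAt (J : GrothendieckTopology C) (U : C) :
    Sheaf J AddCommGrpCat.{u} ⥤ AddCommGrpCat.{u} :=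
  sheafToPresheaf J AddCommGrpCat.{u} ⋙ (evaluation Cᵒᵖ AddCommGrpCat.{u}).obj (op U)

lemma sections_injective {F G : Sheaf J AddCommGrpCat.{u}} (f : F ⟶ G) [Mono f] (U : C) :
    Function.Injective (f.hom.app (op U)) :=
  (AddCommGrpCat.mono_iff_injective _).1 (inferInstanceAs (Mono ((sectionsAt J U).map f)))

/-- Left exactness of sections. -/
lemma sections_exact {S : ShortComplex (Sheaf J AddCommGrpCat.{u})} (hS : S.ShortExact) (U : C)
    (y : S.X₂.obj.obj (op U)) (hy : S.g.hom.app (op U) y = 0) :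
    ∃ x, S.f.hom.app (op U) x = y :=
  (ShortComplex.ab_exact_iff _).1
    (hS.exact.map_of_mono_of_preservesKernel (sectionsAt J U) hS.mono_f inferInstance) y hy

lemma sections_comp_eq_zero {S : ShortComplex (Sheaf J AddCommGrpCat.{u})} (U : C)
    (x : S.X₁.obj.obj (op U)) : S.g.hom.app (op U) (S.f.hom.app (op U) x) = 0 :=
  ConcreteCategory.congr_hom ((S.map (sectionsAt J U)).zero) x

/-- Gluing along a covering family. -/
lemma existsUnique_amalgamation (F : Sheaf J AddCommGrpCat.{u}) {U : C} {ι : Type u} {Y : ι → C}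
    (π : ∀ i, Y i ⟶ U) (hcov : Sieve.ofArrows Y π ∈ J U) (x : ∀ i, F.obj.obj (op (Y i)))
    (hx : ∀ i j (Z : C) (gi : Z ⟶ Y i) (gj : Z ⟶ Y j), gi ≫ π i = gj ≫ π j →
      F.obj.map gi.op (x i) = F.obj.map gj.op (x j)) :
    ∃! t : F.obj.obj (op U), ∀ i, F.obj.map (π i).op t = x i :=
  Presieve.isSheafFor_arrows_iff (F.obj ⋙ forget AddCommGrpCat.{u}) π |>.1
    ((Presieve.isSheafFor_iff_generate _).2
      ((isSheaf_iff_isSheaf_of_type _ _).1
        ((Presheaf.isSheaf_iff_isSheaf_forget J F.obj (forget AddCommGrpCat.{u})).1 F.property)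
        _ hcov)) x hx

lemma ext_of_cover (F : Sheaf J AddCommGrpCat.{u}) {U : C} {ι : Type u} {Y : ι → C}
    (π : ∀ i, Y i ⟶ U) (hcov : Sieve.ofArrows Y π ∈ J U) {s t : F.obj.obj (op U)}
    (h : ∀ i, F.obj.map (π i).op s = F.obj.map (π i).op t) : s = t :=
  (existsUnique_amalgamation F π hcov (fun i => F.obj.map (π i).op t) fun i j Z gi gj hij => by
    rw [← ConcreteCategory.comp_apply, ← F.obj.map_comp, ← op_comp, hij, op_comp, F.obj.map_comp,
      ConcreteCategory.comp_apply]).unique h fun _ => rfl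

/-- Sections lift locally along an epimorphism. -/
lemma exists_local_lift {F G : Sheaf J AddCommGrpCat.{u}} (g : F ⟶ G) [Epi g] {U : C}
    (x : G.obj.obj (op U)) :
    ∃ S ∈ J U, ∀ ⦃V : C⦄ (f : V ⟶ U), S.arrows f →
      ∃ y : F.obj.obj (op V), g.hom.app (op V) y = G.obj.map f.op x := by
  have : Sheaf.IsLocallySurjective g := (Sheaf.isLocallySurjective_iff_epi' (A := AddCommGrpCat.{u}) g).2 ‹_›
  exact ⟨Presheaf.imageSieve g.hom x, Presheaf.imageSieve_mem J g.hom x, fun V f hf => hf⟩

end Groth.Agent.SiteCoh
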