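import Groth.Agent.SiteCoh.Space
import Mathlib.Topology.Sheaves.Sheafify
import Mathlib.Topology.Sheaves.Stalks

/-!
# Germs of inverse images
-/

set_option autoImplicit false

universe u

open CategoryTheory CategoryTheory.Limits Opposite TopologicalSpace

namespace Groth.Agent.SiteCoh.Pull

variable {X Z : TopCat.{u}} (g : Z ⟶ X) (F : CohTop.Ab X)

/-- The stalk of an abelian sheaf. -/
noncomputable abbrev stk {T : TopCat.{u}} (M : CohTop.Ab T) (t : T) : AddCommGrpCat.{u} :=
  TopCat.Presheaf.stalk (C := AddCommGrpCat.{u}) M.obj t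

/-- The germ of a section. -/
noncomputable abbrev germ {T : TopCat.{u}} (M : CohTop.Ab T) {U : Opens T} {t : T} (ht : t ∈ U)
    (s : M.obj.obj (op U)) : stk M t :=
  TopCat.Presheaf.germ M.obj U t ht s

/-- The unit `F ⟶ g_* g^* F`. -/
noncomputable def unit : F ⟶ (CohTop.push g).obj ((CohTop.pull g).obj F) :=
  (TopCat.Sheaf.pullbackPushforwardAdjunction AddCommGrpCat.{u} g).unit.app F

/-- The constructed inverse image. -/
noncomputable abbrev cPull : CohTop.Ab Z :=
  (Functor.sheafPullbackConstruction.sheafPullback (Opens.map g) AddCommGrpCat.{u}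
    (Opens.grothendieckTopology X) (Opens.grothendieckTopology Z)).obj F

/-- It is the inverse image. -/
noncomputable def cPullIso : (CohTop.pull g).obj F ≅ cPull g F :=
  (Functor.sheafPullbackConstruction.sheafPullbackIso (Opens.map g) AddCommGrpCat.{u}
    (Opens.grothendieckTopology X) (Opens.grothendieckTopology Z)).app F

set_option maxHeartbeats 1600000 in
lemma unit_cPullIso : (unit g F).hom ≫ ((CohTop.push g).map (cPullIso g F).hom).hom =
    (TopCat.Presheaf.pullbackPushforwardAdjunction AddCommGrpCat.{u} g).unit.app F.obj ≫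
      (TopCat.Presheaf.pushforward AddCommGrpCat.{u} g).map
        (toSheafify (Opens.grothendieckTopology Z)
          ((TopCat.Presheaf.pullback AddCommGrpCat.{u} g).obj F.obj)) := by
  have h := Adjunction.unit_leftAdjointUniq_hom_app
    ((Opens.map g).sheafAdjunctionContinuous AddCommGrpCat.{u} (Opens.grothendieckTopology X)
      (Opens.grothendieckTopology Z))
    (Functor.sheafPullbackConstruction.sheafAdjunctionContinuous (Opens.map g) AddCommGrpCat.{u}
      (Opens.grothendieckTopology X) (Opens.grothendieckTopology Z)) F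
  have h2 := congrArg InducedCategory.Hom.hom h
  refine Eq.trans h2 ?_
  unfold Functor.sheafPullbackConstruction.sheafAdjunctionContinuous
  have h3 := Adjunction.map_restrictFullyFaithful_unit_app
    (L := Functor.sheafPullbackConstruction.sheafPullback (Opens.map g) AddCommGrpCat.{u}
      (Opens.grothendieckTopology X) (Opens.grothendieckTopology Z))
    (R := (Opens.map g).sheafPushforwardContinuous AddCommGrpCat.{u}
      (Opens.grothendieckTopology X) (Opens.grothendieckTopology Z))
    (((Opens.map g).op.lanAdjunction AddCommGrpCat.{u}).comp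
      (sheafificationAdjunction (Opens.grothendieckTopology Z) AddCommGrpCat.{u}))
    (fullyFaithfulSheafToPresheaf (Opens.grothendieckTopology X) AddCommGrpCat.{u})
    (Functor.FullyFaithful.id (Sheaf (Opens.grothendieckTopology Z) AddCommGrpCat.{u}))
    (Iso.refl (sheafToPresheaf (Opens.grothendieckTopology X) AddCommGrpCat.{u} ⋙
      (Opens.map g).op.lan ⋙ presheafToSheaf (Opens.grothendieckTopology Z) AddCommGrpCat.{u}))
    (Iso.refl (𝟭 (Sheaf (Opens.grothendieckTopology Z) AddCommGrpCat.{u}) ⋙
      sheafToPresheaf (Opens.grothendieckTopology Z) AddCommGrpCat.{u} ⋙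
        (Functor.whiskeringLeft (Opens X)ᵒᵖ (Opens Z)ᵒᵖ AddCommGrpCat.{u}).obj (Opens.map g).op)) F
  refine Eq.trans h3 ?_
  rw [Adjunction.comp_unit_app]
  simp only [Iso.refl_hom, NatTrans.id_app]
  rfl

/-- The map of stalks `F_{g z} → (g^* F)_z`. -/
noncomputable def germMap (z : Z) : stk F (g z) →+ stk ((CohTop.pull g).obj F) z :=
  ((TopCat.Presheaf.stalkFunctor AddCommGrpCat.{u} (g z)).map (unit g F).hom ≫
    TopCat.Presheaf.stalkPushforward AddCommGrpCat.{u} g ((CohTop.pull g).obj F).obj z).hom

lemma germMap_germ {z : Z} {U : Opens X} (hU : g z ∈ U) (t : F.obj.obj (op U)) :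
    germMap g F z (germ F hU t) = germ ((CohTop.pull g).obj F) (U := (Opens.map g).obj U) hU
      ((unit g F).hom.app (op U) t) := by
  change TopCat.Presheaf.stalkPushforward AddCommGrpCat.{u} g _ z
    ((TopCat.Presheaf.stalkFunctor AddCommGrpCat.{u} (g z)).map (unit g F).hom _) = _
  rw [TopCat.Presheaf.stalkFunctor_map_germ_apply]
  exact ConcreteCategory.congr_hom (TopCat.Presheaf.stalkPushforward_germ AddCommGrpCat.{u} g
    ((CohTop.pull g).obj F).obj U z hU) _

lemma germMap_comp_eq (z : Z) :
    AddCommGrpCat.ofHom (germMap g F z) ≫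
        (TopCat.Presheaf.stalkFunctor AddCommGrpCat.{u} z).map (cPullIso g F).hom.hom =
      TopCat.Presheaf.stalkPullbackHom AddCommGrpCat.{u} g F.obj z ≫
        (TopCat.Presheaf.stalkFunctor AddCommGrpCat.{u} z).map
          (toSheafify (Opens.grothendieckTopology Z)
            ((TopCat.Presheaf.pullback AddCommGrpCat.{u} g).obj F.obj)) := by
  refine TopCat.Presheaf.stalk_hom_ext _ fun U hU => ?_
  ext t
  change (TopCat.Presheaf.stalkFunctor AddCommGrpCat.{u} z).map (cPullIso g F).hom.hom
      (germMap g F z (germ F hU t)) =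
    (TopCat.Presheaf.stalkFunctor AddCommGrpCat.{u} z).map _
      (TopCat.Presheaf.stalkPullbackHom AddCommGrpCat.{u} g F.obj z
        (TopCat.Presheaf.germ F.obj U (g z) hU t))
  refine Eq.trans (congrArg _ (germMap_germ g F hU t)) ?_
  refine Eq.trans ?_ (congrArg _ (ConcreteCategory.congr_hom
    (TopCat.Presheaf.germ_stalkPullbackHom AddCommGrpCat.{u} g F.obj z U hU) t).symm)
  refine (TopCat.Presheaf.stalkFunctor_map_germ_apply ((Opens.map g).obj U) z hU _ _).trans ?_
  refine Eq.trans ?_ (TopCat.Presheaf.stalkFunctor_map_germ_apply ((Opens.map g).obj U) z hU _ _).symm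
  exact congrArg (fun m => TopCat.Presheaf.germ (cPull g F).obj ((Opens.map g).obj U) z hU m)
    (ConcreteCategory.congr_hom (NatTrans.congr_app (unit_cPullIso g F) (op U)) t)

lemma bijective_germMap (z : Z) : Function.Bijective (germMap g F z) := by
  have h₁ : IsIso (TopCat.Presheaf.stalkPullbackHom AddCommGrpCat.{u} g F.obj z) :=
    (TopCat.Presheaf.stalkPullbackIso AddCommGrpCat.{u} g F.obj z).isIso_hom
  have h₂ : IsIso ((TopCat.Presheaf.stalkFunctor AddCommGrpCat.{u} z).map
      (toSheafify (Opens.grothendieckTopology Z)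
        ((TopCat.Presheaf.pullback AddCommGrpCat.{u} g).obj F.obj))) :=
    TopCat.Presheaf.stalkFunctor_map_unit_toSheafify_isIso z AddCommGrpCat.{u} _
  have h₃ : IsIso ((TopCat.Presheaf.stalkFunctor AddCommGrpCat.{u} z).map (cPullIso g F).hom.hom) :=
    inferInstanceAs (IsIso ((sheafToPresheaf _ _ ⋙
      TopCat.Presheaf.stalkFunctor AddCommGrpCat.{u} z).map (cPullIso g F).hom))
  have h₄ : IsIso (AddCommGrpCat.ofHom (germMap g F z) ≫
      (TopCat.Presheaf.stalkFunctor AddCommGrpCat.{u} z).map (cPullIso g F).hom.hom) :=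
    germMap_comp_eq g F z ▸ @IsIso.comp_isIso _ _ _ _ _ _ _ h₁ h₂
  have h₅ : IsIso (AddCommGrpCat.ofHom (germMap g F z)) :=
    @IsIso.of_isIso_comp_right _ _ _ _ _ _ _ h₃ h₄
  exact (asIso (AddCommGrpCat.ofHom (germMap g F z))).addCommGroupIsoToAddEquiv.bijective

/-- Sections of an inverse image come locally from sections. -/
lemma exists_local {W : Opens Z} (τ : ((CohTop.pull g).obj F).obj.obj (op W)) {z : Z} (hz : z ∈ W) :
    ∃ (U : Opens X) (W' : Opens Z) (h : W' ≤ W) (h' : W' ≤ (Opens.map g).obj U)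
      (t : F.obj.obj (op U)), z ∈ W' ∧
        ((CohTop.pull g).obj F).obj.map (homOfLE h).op τ =
          ((CohTop.pull g).obj F).obj.map (homOfLE h').op ((unit g F).hom.app (op U) t) := by
  obtain ⟨s, hs⟩ := (bijective_germMap g F z).2 (germ ((CohTop.pull g).obj F) hz τ)
  obtain ⟨U, hU, t, rfl⟩ := TopCat.Presheaf.exists_germ_eq F.obj s
  rw [show TopCat.Presheaf.germ F.obj U (g z) hU t = germ F hU t from rfl, germMap_germ] at hs
  obtain ⟨W', hzW', i, j, e⟩ := TopCat.Presheaf.germ_eq ((CohTop.pull g).obj F).obj z hz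
    (show z ∈ (Opens.map g).obj U from hU) _ _ hs.symm
  exact ⟨U, W', i.le, j.le, t, hzW', e⟩

end Groth.Agent.SiteCoh.Pull
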