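import Groth.Agent.SiteCoh.Restrict
import Groth.Agent.SiteCoh.Leray

/-!
# Higher direct images and restriction to an open of the base
-/

set_option autoImplicit false

universe u

open CategoryTheory CategoryTheory.Limits Opposite TopologicalSpace

namespace Groth.Agent.SiteCoh

variable {X Y : TopCat.{u}} (f : X ⟶ Y) (V : Opens Y)

/-- The restriction of `f` over `V`. -/
abbrev restrBase : TopCat.of ((Opens.map f).obj V) ⟶ TopCat.of V :=
  TopCat.ofHom ⟨(V : Set Y).restrictPreimage f, f.hom.continuous.restrictPreimage⟩

lemma preimage_opensIncl (W : Opens V) :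
    (Opens.map f).obj ((opensIncl V).obj W) =
      (opensIncl ((Opens.map f).obj V)).obj ((Opens.map (restrBase f V)).obj W) := by
  ext x
  constructor
  · rintro ⟨y, hy, hxy⟩
    have hx : f x ∈ V := hxy ▸ y.2
    refine ⟨⟨x, hx⟩, ?_, rfl⟩
    have e : restrBase f V ⟨x, hx⟩ = y := Subtype.ext hxy.symm
    change restrBase f V ⟨x, hx⟩ ∈ W
    rw [e]
    exact hy
  · rintro ⟨z, hz, rfl⟩
    exact ⟨restrBase f V z, hz, rfl⟩

instance : (CohTop.push (restrBase f V)).Additive where

/-- Direct image commutes with restriction to opens of the base. -/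
noncomputable def pushRestrIso :
    CohTop.push f ⋙ CohTop.restrFunctor V ≅
      CohTop.restrFunctor ((Opens.map f).obj V) ⋙ CohTop.push (restrBase f V) :=
  NatIso.ofComponents
    (fun F => (fullyFaithfulSheafToPresheaf _ AddCommGrpCat.{u}).preimageIso
      (NatIso.ofComponents
        (fun W => F.obj.mapIso (eqToIso (congrArg op (preimage_opensIncl f V W.unop))))
        (fun {W W'} i => by
          change F.obj.map _ ≫ F.obj.map _ = F.obj.map _ ≫ F.obj.map _
          rw [← F.obj.map_comp, ← F.obj.map_comp]
          exact congrArg F.obj.map (Subsingleton.elim _ _))))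
    (fun {F G} φ => by
      ext W : 3
      exact (φ.hom.naturality _).symm)

/-- Higher direct images commute with restriction to opens of the base. -/
noncomputable def rpushRestrIso (p : ℕ) :
    CohTop.Rpush f p ⋙ CohTop.restrFunctor V ≅
      CohTop.restrFunctor ((Opens.map f).obj V) ⋙ CohTop.Rpush (restrBase f V) p :=
  (rightDerivedCompExactIso (CohTop.push f) (CohTop.restrFunctor V) p).symm ≪≫
    rightDerivedCongr (pushRestrIso f V) p ≪≫
    rightDerivedExactCompIso (CohTop.restrFunctor ((Opens.map f).obj V))
      (CohTop.push (restrBase f V)) p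

end Groth.Agent.SiteCoh
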