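import Groth.Agent.SiteCoh.Space
import Groth.Agent.SiteCoh.Lan
import Mathlib.Topology.Sheaves.Over
import Mathlib.CategoryTheory.Sites.Pullback
import Mathlib.CategoryTheory.Sites.CoverLifting

/-!
# Cohomology and restriction to a localized site or an open subspace
-/

set_option autoImplicit false

universe u

open CategoryTheory CategoryTheory.Limits CategoryTheory.Abelian Opposite TopologicalSpace

namespace Groth.Agent.SiteCoh

variable {C D : Type u} [SmallCategory C] [SmallCategory D]

instance whiskeringLeftAdd (u : D ⥤ C) :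
    ((Functor.whiskeringLeft Dᵒᵖ Cᵒᵖ AddCommGrpCat.{u}).obj u.op).Additive where

/-- An exact functor `R` preserving injectives which is precomposition by `u` on sheaves
computes cohomology on the objects `u V`. -/
noncomputable def cohomologyPresheafCompIso {J : GrothendieckTopology C} {K : GrothendieckTopology D}
    (u : D ⥤ C) (R : Sheaf J AddCommGrpCat.{u} ⥤ Sheaf K AddCommGrpCat.{u}) [R.Additive]
    [PreservesFiniteLimits R] [PreservesFiniteColimits R] [R.PreservesInjectiveObjects]
    (e : R ⋙ sheafToPresheaf K AddCommGrpCat.{u} ≅ sheafToPresheaf J AddCommGrpCat.{u} ⋙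
      (Functor.whiskeringLeft _ _ _).obj u.op) (n : ℕ) :
    Sheaf.cohomologyPresheafFunctor.{u} J n ⋙ (Functor.whiskeringLeft _ _ _).obj u.op ≅
      R ⋙ Sheaf.cohomologyPresheafFunctor.{u} K n :=
  Functor.isoWhiskerRight (sectionsDerivedIso J n).symm _ ≪≫
    (rightDerivedCompExactIso _ _ n).symm ≪≫ rightDerivedCongr e.symm n ≪≫
    rightDerivedExactCompIso R _ n ≪≫ Functor.isoWhiskerLeft R (sectionsDerivedIso K n)

variable (J : GrothendieckTopology C) (U : C)

instance overPullback_preservesFiniteColimits :
    PreservesFiniteColimits (J.overPullback AddCommGrpCat.{u} U) :=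
  haveI : (J.overPullback AddCommGrpCat.{u} U).IsLeftAdjoint :=
    ((Over.forget U).sheafAdjunctionCocontinuous AddCommGrpCat.{u} (J.over U) J).isLeftAdjoint
  inferInstance

/-- Extension by zero of abelian sheaves from a localized site is exact. -/
lemma sheafPullback_overForget_preservesFiniteLimits :
    PreservesFiniteLimits
      ((Over.forget U).sheafPullback AddCommGrpCat.{u} (J.over U) J) := by
  have : PreservesFiniteLimits
      ((Over.forget U).op.lan : ((Over U)ᵒᵖ ⥤ AddCommGrpCat.{u}) ⥤ Cᵒᵖ ⥤ AddCommGrpCat.{u}) :=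
    lan_preservesFiniteLimits_of_discrete_final _ fun V =>
      ⟨V.unop ⟶ U, overForgetCostructured U V.unop, overForgetCostructured_final U V.unop⟩
  have : PreservesFiniteLimits ((Over.forget U).op.lan ⋙ presheafToSheaf J AddCommGrpCat.{u}) :=
    comp_preservesFiniteLimits _ _
  have : PreservesFiniteLimits
      (Functor.sheafPullbackConstruction.sheafPullback (Over.forget U) AddCommGrpCat.{u}
        (J.over U) J) := by
    unfold Functor.sheafPullbackConstruction.sheafPullback
    exact comp_preservesFiniteLimits _ _
  exact preservesFiniteLimits_of_natIso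
    (Functor.sheafPullbackConstruction.sheafPullbackIso (Over.forget U) AddCommGrpCat.{u}
      (J.over U) J).symm

instance overPullback_preservesFiniteLimits :
    PreservesFiniteLimits (J.overPullback AddCommGrpCat.{u} U) :=
  haveI : (J.overPullback AddCommGrpCat.{u} U).IsRightAdjoint :=
    ((Over.forget U).sheafAdjunctionContinuous AddCommGrpCat.{u} (J.over U) J).isRightAdjoint
  inferInstance

instance overPullback_additive : (J.overPullback AddCommGrpCat.{u} U).Additive where

instance overPullback_preservesInjectiveObjects :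
    (J.overPullback AddCommGrpCat.{u} U).PreservesInjectiveObjects :=
  haveI := sheafPullback_overForget_preservesFiniteLimits J U
  Functor.preservesInjectiveObjects_of_adjunction_of_preservesMonomorphisms
    ((Over.forget U).sheafAdjunctionContinuous AddCommGrpCat.{u} (J.over U) J)

/-- `H^n(V, F) ≅ H^n(V, F|_U)` for `V` over `U`, naturally. -/
noncomputable def cohomologyPresheafOverIso (n : ℕ) :
    Sheaf.cohomologyPresheafFunctor.{u} J n ⋙
        (Functor.whiskeringLeft _ _ _).obj (Over.forget U).op ≅
      J.overPullback AddCommGrpCat.{u} U ⋙ Sheaf.cohomologyPresheafFunctor.{u} (J.over U) n :=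
  cohomologyPresheafCompIso (Over.forget U) _ (Iso.refl _) n

/-- `H^n(V, F) ≃ H^n(V, F|_U)` for `V` over `U`. -/
noncomputable def hUOverEquiv (F : Sheaf J AddCommGrpCat.{u}) (n : ℕ) (V : Over U) :
    CohSite.HU F n V.left ≃+ CohSite.HU (F.over U) n V :=
  Iso.addCommGroupIsoToAddEquiv (((cohomologyPresheafOverIso J U n).app F).app (op V))

/-- `H^n(U, F) ≃ H^n(C/U, F|_U)`. -/
noncomputable def hUEquivHOver (F : Sheaf J AddCommGrpCat.{u}) (n : ℕ) :
    CohSite.HU F n U ≃+ Sheaf.H.{u} (F.over U) n :=
  (hUOverEquiv J U F n (Over.mk (𝟙 U))).trans (hUEquivH (F.over U) n Over.mkIdTerminal)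

section Space

variable {X : TopCat.{u}} (W : Opens X)

instance restrFunctor_preservesFiniteLimits : PreservesFiniteLimits (CohTop.restrFunctor W) :=
  haveI := comp_preservesFiniteLimits ((Opens.grothendieckTopology X).overPullback AddCommGrpCat.{u} W)
    W.sheafEquivOver.functor
  preservesFiniteLimits_of_natIso W.overPullbackSheafEquivOver

instance restrFunctor_preservesFiniteColimits : PreservesFiniteColimits (CohTop.restrFunctor W) :=
  haveI := comp_preservesFiniteColimits ((Opens.grothendieckTopology X).overPullback AddCommGrpCat.{u} W)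
    W.sheafEquivOver.functor
  preservesFiniteColimits_of_natIso W.overPullbackSheafEquivOver

instance restrFunctor_preservesInjectiveObjects :
    (CohTop.restrFunctor W).PreservesInjectiveObjects where
  injective_obj {F} hF := Injective.of_iso (W.overPullbackSheafEquivOver.app F)
    (W.sheafEquivOver.functor.injective_obj_of_injective
      (((Opens.grothendieckTopology X).overPullback AddCommGrpCat.{u} W).injective_obj_of_injective hF))

/-- The functor `Opens W ⥤ Opens X`. -/
abbrev opensIncl : Opens W ⥤ Opens X := W.isOpenEmbedding.isOpenMap.functor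

/-- `H^n(V, F) ≅ H^n(V, F|_W)` for opens `V` of `W`, naturally. -/
noncomputable def cohomologyPresheafRestrIso (n : ℕ) :
    Sheaf.cohomologyPresheafFunctor.{u} (Opens.grothendieckTopology X) n ⋙
        (Functor.whiskeringLeft _ _ _).obj (opensIncl W).op ≅
      CohTop.restrFunctor W ⋙
        Sheaf.cohomologyPresheafFunctor.{u} (Opens.grothendieckTopology W) n :=
  cohomologyPresheafCompIso (opensIncl W) _ (Iso.refl _) n

/-- `H^n(W ∩ V, F) ≃ H^n(V, F|_W)`. -/
noncomputable def hURestrEquiv (F : CohTop.Ab X) (n : ℕ) (V : Opens W) :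
    CohTop.HU F n ((opensIncl W).obj V) ≃+ CohTop.HU (CohTop.restr F W) n V :=
  Iso.addCommGroupIsoToAddEquiv (((cohomologyPresheafRestrIso W n).app F).app (op V))

lemma opensIncl_top : (opensIncl W).obj ⊤ = W :=
  Opens.ext (Set.image_univ.trans Subtype.range_coe)

/-- `H^n(W, F) ≃ H^n(W, F|_W)`. -/
noncomputable def hUEquivHRestr (F : CohTop.Ab X) (n : ℕ) :
    CohTop.HU F n W ≃+ CohTop.H (CohTop.restr F W) n :=
  ((Iso.addCommGroupIsoToAddEquiv
    ((F.cohomologyPresheaf n).mapIso (eqToIso (congrArg op (opensIncl_top W)).symm))).trans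
      (hURestrEquiv W F n ⊤)).trans (hUTopEquiv _ n)

end Space

end Groth.Agent.SiteCoh
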