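import Groth.Agent.SiteCoh.Leray
import Groth.Agent.SiteCoh.ExtResolution
import Mathlib.CategoryTheory.Adjunction.Additive

/-!
# Ext and adjunctions: `Ext (A, G F) ≅ Ext (L A, F)` for `G`-acyclic `F`
-/

set_option autoImplicit false

universe v u₁ u₂

open CategoryTheory CategoryTheory.Limits CategoryTheory.Abelian Opposite

namespace Groth.Agent.SiteCoh

variable {A : Type u₁} [Category.{v} A] [Abelian A] [HasExt.{v} A] [EnoughInjectives A]
variable {B : Type u₂} [Category.{v} B] [Abelian B] [HasExt.{v} B]
variable {L : B ⥤ A} {G : A ⥤ B}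

/-- Hom groups into `G -` are hom groups out of `L -`. -/
noncomputable def homGroupsAdjIso (adj : L ⊣ G) [G.Additive] {E : Type*} [Category* E]
    (Φ : E ⥤ B) : G ⋙ homGroups Φ ≅ homGroups (Φ ⋙ L) :=
  haveI := adj.left_adjoint_additive
  NatIso.ofComponents
    (fun F => NatIso.ofComponents
      (fun e => ((adj.homAddEquiv (Φ.obj e.unop) F).symm).toAddCommGrpIso)
      (fun {e e'} f => by
        ext x
        exact adj.homEquiv_naturality_left_symm _ _))
    (fun {F F'} g => by
      ext e x
      exact adj.homEquiv_naturality_right_symm _ _)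

/-- `Ext (X, G F) ≅ Ext (L X, F)` for a `G`-acyclic `F`, when `G` preserves injective objects. -/
noncomputable def extAdjEquiv (adj : L ⊣ G) [G.Additive] [G.PreservesInjectiveObjects] {F : A}
    (h : ∀ q : ℕ, IsZero ((G.rightDerived (q + 1)).obj F)) (X : B) (n : ℕ) :
    Ext X (G.obj F) n ≃+ Ext (L.obj X) F n :=
  haveI : G.IsRightAdjoint := adj.isRightAdjoint
  haveI : PreservesFiniteLimits G := ⟨fun _ _ _ => inferInstance⟩
  let Φ : Discrete PUnit.{1} ⥤ B := Functor.fromPUnit X
  let R := injectiveResolution F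
  let R' := mapAcyclicResolution G h R
  Iso.addCommGroupIsoToAddEquiv
    (((homologyIsoExt Φ R' n).symm ≪≫
      HomologicalComplex.homologyMapIso
        ((NatIso.mapHomologicalComplex (homGroupsAdjIso adj Φ) (ComplexShape.up ℕ)).app R.cocomplex) n ≪≫
      homologyIsoExt (Φ ⋙ L) R n).app (op ⟨⟨⟩⟩))

/-- An exact functor is acyclic on every object. -/
lemma extAdjEquiv_of_exact (adj : L ⊣ G) [G.Additive] [L.PreservesMonomorphisms]
    [PreservesFiniteColimits G] (F : A) (X : B) (n : ℕ) :
    Nonempty (Ext X (G.obj F) n ≃+ Ext (L.obj X) F n) := by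
  have : G.IsRightAdjoint := adj.isRightAdjoint
  have : PreservesFiniteLimits G := ⟨fun _ _ _ => inferInstance⟩
  have : G.PreservesInjectiveObjects :=
    Functor.preservesInjectiveObjects_of_adjunction_of_preservesMonomorphisms adj
  exact ⟨extAdjEquiv adj (isZero_rightDerived_of_exact G F) X n⟩

end Groth.Agent.SiteCoh
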