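import Groth.Agent.SiteCoh.CechAcyclic
import Mathlib.Algebra.Homology.HomologySequenceLemmas

/-!
# The comparison of Cech and sheaf cohomology, natural in the sheaf
-/

set_option autoImplicit false
set_option backward.isDefEq.respectTransparency false

universe u

open CategoryTheory CategoryTheory.Limits CategoryTheory.Abelian Opposite

namespace Groth.Agent.SiteCoh

namespace CechNat

variable {C : Type u} [SmallCategory C] {J : GrothendieckTopology C}
variable {E : Type u} [SmallCategory E] [HasFiniteProducts E] (G : E ⥤ C)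
variable {U : C} {ι : Type u} (W : ι → E) (π : ∀ i, G.obj (W i) ⟶ U)

/-- The sheaves acyclic on all intersections. -/
def Mem (F : Sheaf J AddCommGrpCat.{u}) : Prop :=
  ∀ (p : ℕ) (a : Fin (p + 1) → ι) (q : ℕ),
    Subsingleton (CohSite.HU F (q + 1) (G.obj (Cech.inter W a)))

/-- The map on Cech cohomology attached to a map of sheaves. -/
noncomputable def cmap {F F' : Sheaf J AddCommGrpCat.{u}} (φ : F ⟶ F') (n : ℕ) :
    (Cech.cx (pullPsh G F) W).homology n ⟶ (Cech.cx (pullPsh G F') W).homology n :=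
  HomologicalComplex.homologyMap (Cech.cxMap W (Functor.whiskerLeft G.op φ.hom)) n

variable (U) in
/-- Natural comparisons in degree `n`. -/
abbrev Good (n : ℕ) : Type _ :=
  { e : ∀ F : Sheaf J AddCommGrpCat.{u}, Mem G W F →
      (Ext (CohCx.freeSheaf J U) F n ≃+ (Cech.cx (pullPsh G F) W).homology n) //
    ∀ {F F' : Sheaf J AddCommGrpCat.{u}} (h : Mem G W F) (h' : Mem G W F') (φ : F ⟶ F')
      (x : Ext (CohCx.freeSheaf J U) F n),
      e F' h' (x.comp (Ext.mk₀ φ) (add_zero n)) = cmap G W φ n (e F h x) }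

theorem mem_injective (I : Sheaf J AddCommGrpCat.{u}) [Injective I] : Mem G W I :=
  fun _ _ q => Ext.subsingleton_of_injective _ _ q

theorem mem_X₃ {F : Sheaf J AddCommGrpCat.{u}} (h : Mem G W F) : Mem G W (injEmbed F).X₃ := by
  have : Injective (injEmbed F).X₂ := inferInstanceAs (Injective (Injective.under F))
  exact fun p a q => subsingleton_ext_X₃ (injEmbed_shortExact F) (q + 1)
    (Ext.subsingleton_of_injective _ _ q) (h p a (q + 1))

/-- The sequence of Cech complexes of the injective embedding. -/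
noncomputable def cechSES (F : Sheaf J AddCommGrpCat.{u}) :
    ShortComplex (HomologicalComplex AddCommGrpCat.{u} (ComplexShape.up ℕ)) :=
  ShortComplex.mk (Cech.cxMap W (Functor.whiskerLeft G.op (injEmbed F).f.hom))
    (Cech.cxMap W (Functor.whiskerLeft G.op (injEmbed F).g.hom)) (by
      ext p x
      refine Cech.ext _ W fun a => ?_
      change Cech.ev (pullPsh G (injEmbed F).X₃) W a
        (Cech.map W (Functor.whiskerLeft G.op (injEmbed F).g.hom)
          (Cech.map W (Functor.whiskerLeft G.op (injEmbed F).f.hom) x)) =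
        Cech.ev (pullPsh G (injEmbed F).X₃) W a 0
      rw [Cech.ev_map, Cech.ev_map, map_zero]
      exact sections_comp_eq_zero _ _)

theorem cechSES_shortExact {F : Sheaf J AddCommGrpCat.{u}} (h : Mem G W F) :
    (cechSES G W F).ShortExact := by
  have hS := injEmbed_shortExact F
  have := hS.mono_f
  obtain ⟨w, hK⟩ := Cech.shortExact_cxMap W (Functor.whiskerLeft G.op (injEmbed F).f.hom)
    (Functor.whiskerLeft G.op (injEmbed F).g.hom)
    (by ext Z x; exact sections_comp_eq_zero _ x)
    (fun a => sections_injective (injEmbed F).f _)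
    (fun a => surjective_sections_of_subsingleton hS _ (h _ a 0))
    (fun a y hy => sections_exact hS _ y hy)
  exact hK

variable (hcomm : ∀ (Z : E) i j (f : Z ⟶ W i) (g : Z ⟶ W j), G.map f ≫ π i = G.map g ≫ π j)
  (hcov : Sieve.ofArrows (fun i => G.obj (W i)) π ∈ J U)
  (hpair : ∀ (Z : C) i j (f : Z ⟶ G.obj (W i)) (g : Z ⟶ G.obj (W j)), f ≫ π i = g ≫ π j →
    ∃ (Z' : E) (e : Z ⟶ G.obj Z') (f' : Z' ⟶ W i) (g' : Z' ⟶ W j),
      e ≫ G.map f' = f ∧ e ≫ G.map g' = g)

include hcomm hcov hpair in
/-- Degree zero. -/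
noncomputable def goodZero : Good (J := J) G U W 0 :=
  ⟨fun F _ => (Ext.addEquiv₀.trans (homEquiv U F)).trans
      (cechH0Iso G W π hcomm hcov hpair F).addCommGroupIsoToAddEquiv, by
    intro F F' h h' φ x
    obtain ⟨ψ, rfl⟩ := Ext.addEquiv₀.symm.surjective x
    change (cechH0Iso G W π hcomm hcov hpair F').hom
        (homEquiv U F' (Ext.addEquiv₀ ((Ext.mk₀ ψ).comp (Ext.mk₀ φ) _))) =
      cmap G W φ 0 ((cechH0Iso G W π hcomm hcov hpair F).hom
        (homEquiv U F (Ext.addEquiv₀ (Ext.addEquiv₀.symm ψ))))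
    rw [Ext.mk₀_comp_mk₀, ← Ext.addEquiv₀_symm_apply, AddEquiv.apply_symm_apply,
      AddEquiv.apply_symm_apply, homEquiv_postcomp]
    exact ConcreteCategory.congr_hom (cechH0Iso_naturality G W π hcomm hcov hpair φ) _⟩

variable (hI : ∀ (I : Sheaf J AddCommGrpCat.{u}), Injective I → ∀ p,
      IsZero ((Cech.cx (pullPsh G I) W).homology (p + 1)))
  {n : ℕ} (e : Good (J := J) G U W n)

/-- The connecting map of the target composed with the comparison in degree `n`. -/
noncomputable def stepAux (F : Sheaf J AddCommGrpCat.{u}) (h : Mem G W F) :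
    Ext (CohCx.freeSheaf J U) (injEmbed F).X₃ n →+ (Cech.cx (pullPsh G F) W).homology (n + 1) :=
  (((cechSES_shortExact G W h).δ n (n + 1) rfl).hom).comp (e.1 _ (mem_X₃ G W h)).toAddMonoidHom

theorem sourceMap_surjective (F : Sheaf J AddCommGrpCat.{u}) :
    Function.Surjective ((injEmbed_shortExact F).extClass.postcomp (CohCx.freeSheaf J U)
      (rfl : n + 1 = n + 1)) := fun x => by
  have : Injective (injEmbed F).X₂ := inferInstanceAs (Injective (Injective.under F))
  have : Subsingleton (Ext (CohCx.freeSheaf J U) (injEmbed F).X₂ (n + 1)) :=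
    Ext.subsingleton_of_injective _ _ n
  exact Ext.covariant_sequence_exact₁ _ (injEmbed_shortExact F) x (Subsingleton.elim _ _) rfl

include hI in
theorem stepAux_surjective (F : Sheaf J AddCommGrpCat.{u}) (h : Mem G W F) :
    Function.Surjective (stepAux G W e F h) := by
  intro y
  have hInj : Injective (injEmbed F).X₂ := inferInstanceAs (Injective (Injective.under F))
  obtain ⟨z, hz⟩ := (ShortComplex.ab_exact_iff _).1
    ((cechSES_shortExact G W h).homology_exact₁ n (n + 1) rfl) y
    ((AddCommGrpCat.subsingleton_of_isZero (hI _ hInj n)).elim _ _)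
  obtain ⟨x, hx⟩ := (e.1 _ (mem_X₃ G W h)).surjective z
  refine ⟨x, ?_⟩
  rw [← hz, ← hx]
  rfl

theorem ker_stepAux (F : Sheaf J AddCommGrpCat.{u}) (h : Mem G W F)
    (x : Ext (CohCx.freeSheaf J U) (injEmbed F).X₃ n) :
    stepAux G W e F h x = 0 ↔ x.comp (injEmbed_shortExact F).extClass rfl = 0 := by
  have hInj : Injective (injEmbed F).X₂ := inferInstanceAs (Injective (Injective.under F))
  have hS := injEmbed_shortExact F
  have hm := mem_injective G W (injEmbed F).X₂
  constructor
  · intro hx
    obtain ⟨y, hy⟩ := (ShortComplex.ab_exact_iff _).1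
      ((cechSES_shortExact G W h).homology_exact₃ n (n + 1) rfl) _ hx
    obtain ⟨w, rfl⟩ := (e.1 _ hm).surjective y
    have : x = w.comp (Ext.mk₀ (injEmbed F).g) (add_zero n) :=
      (e.1 _ (mem_X₃ G W h)).injective (hy.symm.trans (e.2 hm (mem_X₃ G W h) _ w).symm)
    rw [this, Ext.comp_assoc_of_second_deg_zero, hS.comp_extClass, Ext.comp_zero]
  · intro hx
    obtain ⟨y, rfl⟩ := Ext.covariant_sequence_exact₃ _ hS x rfl hx
    show (cechSES_shortExact G W h).δ n (n + 1) rfl (e.1 _ (mem_X₃ G W h) _) = 0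
    rw [e.2 hm (mem_X₃ G W h)]
    exact ConcreteCategory.congr_hom ((cechSES_shortExact G W h).comp_δ n (n + 1) rfl) _

include hI in
/-- The comparison in degree `n + 1`. -/
noncomputable def stepEquiv (F : Sheaf J AddCommGrpCat.{u}) (h : Mem G W F) :
    Ext (CohCx.freeSheaf J U) F (n + 1) ≃+ (Cech.cx (pullPsh G F) W).homology (n + 1) :=
  AddEquiv.ofBijective
    (((injEmbed_shortExact F).extClass.postcomp (CohCx.freeSheaf J U)
      (rfl : n + 1 = n + 1)).liftOfSurjective (sourceMap_surjective F)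
      ⟨stepAux G W e F h, fun x hx => (ker_stepAux G W e F h x).2 hx⟩) (by
    refine ⟨(injective_iff_map_eq_zero _).2 fun x hx => ?_, fun y => ?_⟩
    · obtain ⟨x', rfl⟩ := sourceMap_surjective (J := J) (U := U) (n := n) F x
      erw [AddMonoidHom.liftOfRightInverse_comp_apply] at hx
      exact (ker_stepAux G W e F h x').1 hx
    · obtain ⟨x', hx'⟩ := stepAux_surjective G W hI e F h y
      refine ⟨(injEmbed_shortExact F).extClass.postcomp (CohCx.freeSheaf J U) rfl x', ?_⟩
      erw [AddMonoidHom.liftOfRightInverse_comp_apply]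
      exact hx')

theorem stepEquiv_comp_extClass (F : Sheaf J AddCommGrpCat.{u}) (h : Mem G W F)
    (x : Ext (CohCx.freeSheaf J U) (injEmbed F).X₃ n) :
    stepEquiv G W hI e F h (x.comp (injEmbed_shortExact F).extClass rfl) = stepAux G W e F h x :=
  AddMonoidHom.liftOfRightInverse_comp_apply
    ((injEmbed_shortExact F).extClass.postcomp (CohCx.freeSheaf J U) (rfl : n + 1 = n + 1)) _
    (Function.rightInverse_surjInv (sourceMap_surjective F))
    ⟨stepAux G W e F h, fun x hx => (ker_stepAux G W e F h x).2 hx⟩ x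

include hI in
/-- The inductive step. -/
noncomputable def goodSucc : Good (J := J) G U W (n + 1) :=
  ⟨fun F h => stepEquiv G W hI e F h, by
    intro F F' h h' φ x
    obtain ⟨x', rfl⟩ := sourceMap_surjective (J := J) (U := U) (n := n) F x
    have hS := injEmbed_shortExact F
    have hS' := injEmbed_shortExact F'
    have := hS.mono_f
    have := hS.epi_g
    have hInj : Injective (injEmbed F').X₂ := inferInstanceAs (Injective (Injective.under F'))
    let g₂ : (injEmbed F).X₂ ⟶ (injEmbed F').X₂ :=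
      Injective.factorThru (φ ≫ (injEmbed F').f) (injEmbed F).f
    have hg₂ : (injEmbed F).f ≫ g₂ = φ ≫ (injEmbed F').f := Injective.comp_factorThru _ _
    have hz : (injEmbed F).f ≫ g₂ ≫ (injEmbed F').g = 0 := by
      rw [reassoc_of% hg₂, (injEmbed F').zero, comp_zero]
    let g₃ : (injEmbed F).X₃ ⟶ (injEmbed F').X₃ := hS.exact.desc (g₂ ≫ (injEmbed F').g) hz
    let τ : injEmbed F ⟶ injEmbed F' :=
      { τ₁ := φ
        τ₂ := g₂
        τ₃ := g₃
        comm₁₂ := hg₂.symm
        comm₂₃ := (hS.exact.g_desc _ hz).symm }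
    have key : (x'.comp hS.extClass (rfl : n + 1 = n + 1)).comp (Ext.mk₀ φ) (add_zero _) =
        (x'.comp (Ext.mk₀ g₃) (add_zero n)).comp hS'.extClass rfl := by
      rw [Ext.comp_assoc_of_third_deg_zero, Ext.comp_assoc_of_second_deg_zero]
      exact congrArg (fun z => x'.comp z (rfl : n + 1 = n + 1))
        (ShortComplex.ShortExact.extClass_naturality hS hS' τ)
    refine (congrArg (stepEquiv G W hI e F' h') key).trans ?_
    refine (stepEquiv_comp_extClass G W hI e F' h' _).trans ?_
    refine Eq.trans ?_ (congrArg (cmap G W φ (n + 1))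
      (stepEquiv_comp_extClass G W hI e F h x')).symm
    have hcx : ∀ {A B C' D : Sheaf J AddCommGrpCat.{u}} (f : A ⟶ B) (g : B ⟶ D) (f' : A ⟶ C')
        (g' : C' ⟶ D), f ≫ g = f' ≫ g' →
        Cech.cxMap W (Functor.whiskerLeft G.op f.hom) ≫ Cech.cxMap W (Functor.whiskerLeft G.op g.hom) =
          Cech.cxMap W (Functor.whiskerLeft G.op f'.hom) ≫
            Cech.cxMap W (Functor.whiskerLeft G.op g'.hom) := by
      intro A B C' D f g f' g' hfg
      ext p z
      refine Cech.ext _ W fun a => ?_
      change Cech.ev _ W a (Cech.map W _ (Cech.map W _ z)) = Cech.ev _ W a (Cech.map W _ (Cech.map W _ z))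
      simp only [Cech.ev_map]
      exact congr($(hfg).hom.app (op (G.obj (Cech.inter W a))) (Cech.ev _ W a z))
    let σ : cechSES G W F ⟶ cechSES G W F' :=
      { τ₁ := Cech.cxMap W (Functor.whiskerLeft G.op φ.hom)
        τ₂ := Cech.cxMap W (Functor.whiskerLeft G.op g₂.hom)
        τ₃ := Cech.cxMap W (Functor.whiskerLeft G.op g₃.hom)
        comm₁₂ := hcx _ _ _ _ τ.comm₁₂
        comm₂₃ := hcx _ _ _ _ τ.comm₂₃ }
    have hnat := HomologicalComplex.HomologySequence.δ_naturality σ
      (cechSES_shortExact G W h) (cechSES_shortExact G W h') n (n + 1) rfl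
    show (cechSES_shortExact G W h').δ n (n + 1) rfl (e.1 _ (mem_X₃ G W h') _) =
      cmap G W φ (n + 1) ((cechSES_shortExact G W h).δ n (n + 1) rfl (e.1 _ (mem_X₃ G W h) x'))
    rw [e.2 (mem_X₃ G W h) (mem_X₃ G W h')]
    exact (ConcreteCategory.congr_hom hnat _).symm⟩

include hcomm hcov hpair hI in
/-- The comparison in all degrees. -/
noncomputable def good : ∀ n : ℕ, Good (J := J) G U W n
  | 0 => goodZero G W π hcomm hcov hpair
  | n + 1 => goodSucc G W hI (good n)

end CechNat

end Groth.Agent.SiteCoh
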