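import Groth.Agent.SiteCoh.ExtAdj
import Mathlib.CategoryTheory.Sites.Adjunction
import Mathlib.CategoryTheory.Adjunction.Unique

/-!
# The free abelian sheaf commutes with pullback
-/

set_option autoImplicit false

universe u

open CategoryTheory CategoryTheory.Limits Opposite

namespace Groth.Agent.SiteCoh

variable {C D : Type u} [SmallCategory C] [SmallCategory D]
variable (J : GrothendieckTopology C) (K : GrothendieckTopology D)

/-- The free abelian sheaf on a sheaf of sets, and its adjunction. -/
noncomputable def freeShAdj :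
    Sheaf.composeAndSheafify J AddCommGrpCat.free.{u} ⊣ sheafCompose J (forget AddCommGrpCat.{u}) :=
  Sheaf.adjunction J AddCommGrpCat.adj

/-- The free abelian sheaf commutes with inverse image. -/
noncomputable def freeShPullbackIso (u : D ⥤ C) [u.IsContinuous K J] :
    Sheaf.composeAndSheafify K AddCommGrpCat.free.{u} ⋙ u.sheafPullback AddCommGrpCat.{u} K J ≅
      u.sheafPullback (Type u) K J ⋙ Sheaf.composeAndSheafify J AddCommGrpCat.free.{u} :=
  Adjunction.leftAdjointUniq
    ((freeShAdj K).comp (u.sheafAdjunctionContinuous AddCommGrpCat.{u} K J))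
    (((u.sheafAdjunctionContinuous (Type u) K J).comp (freeShAdj J)).ofNatIsoRight (Iso.refl _))

/-- Total acyclicity passes to acyclic direct images. -/
theorem isTotallyAcyclic_push (u : D ⥤ C) [u.IsContinuous K J]
    [PreservesFiniteLimits (u.sheafPullback AddCommGrpCat.{u} K J)] (F : Sheaf J AddCommGrpCat.{u})
    (h : ∀ q : ℕ, IsZero ((CohSite.Rpush J K u (q + 1)).obj F))
    (hF : CohCx.IsTotallyAcyclic F) : CohCx.IsTotallyAcyclic ((CohSite.push J K u).obj F) := by
  intro M p
  let adj := u.sheafAdjunctionContinuous AddCommGrpCat.{u} K J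
  have : (CohSite.push J K u).PreservesInjectiveObjects :=
    Functor.preservesInjectiveObjects_of_adjunction_of_preservesMonomorphisms adj
  have h₁ : Subsingleton (Abelian.Ext ((u.sheafPullback (Type u) K J ⋙
      Sheaf.composeAndSheafify J AddCommGrpCat.free.{u}).obj M) F (p + 1)) :=
    hF ((u.sheafPullback (Type u) K J).obj M) p
  have h₂ : Subsingleton (Abelian.Ext ((u.sheafPullback AddCommGrpCat.{u} K J).obj
      ((Sheaf.composeAndSheafify K AddCommGrpCat.free.{u}).obj M)) F (p + 1)) :=
    subsingleton_ext_of_iso ((freeShPullbackIso J K u).app M) (p + 1)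
  exact (extAdjEquiv (A := Sheaf J AddCommGrpCat.{u}) adj h
    ((Sheaf.composeAndSheafify K AddCommGrpCat.free.{u}).obj M) (p + 1)).toEquiv.subsingleton

end Groth.Agent.SiteCoh
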