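import Groth.Agent.SiteCoh.Leray
import Mathlib.Algebra.Homology.ShortComplex.PreservesHomology

/-!
# Sections commute with cohomology for complexes of acyclic sheaves with acyclic cohomology sheaves
-/

set_option autoImplicit false

universe w v u₁ u

open CategoryTheory CategoryTheory.Limits CategoryTheory.Abelian Opposite

namespace Groth.Agent.SiteCoh

section

variable {A : Type u₁} [Category.{v} A] [Abelian A] [HasExt.{w} A]

/-- `F` has no higher `Ext` out of `X`. -/
def ExtAcyclic (X F : A) : Prop := ∀ p : ℕ, Subsingleton (Ext X F (p + 1))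

lemma ExtAcyclic.of_iso {X F F' : A} (h : ExtAcyclic X F) (e : F ≅ F') : ExtAcyclic X F' := by
  intro p
  have := h p
  refine subsingleton_of_forall_eq 0 fun x => ?_
  have hx : x = (x.comp (Ext.mk₀ e.inv) (add_zero _)).comp (Ext.mk₀ e.hom) (add_zero _) := by
    rw [Ext.comp_assoc_of_third_deg_zero, Ext.mk₀_comp_mk₀, e.inv_hom_id, Ext.comp_mk₀_id]
  rw [hx, Subsingleton.elim (x.comp (Ext.mk₀ e.inv) (add_zero _)) 0, Ext.zero_comp]

lemma ExtAcyclic.X₂ {X : A} {S : ShortComplex A} (hS : S.ShortExact) (h₁ : ExtAcyclic X S.X₁)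
    (h₃ : ExtAcyclic X S.X₃) : ExtAcyclic X S.X₂ := by
  intro p
  have := h₁ p
  have := h₃ p
  refine subsingleton_of_forall_eq 0 fun x => ?_
  obtain ⟨y, rfl⟩ := Ext.covariant_sequence_exact₂ X hS x (Subsingleton.elim _ _)
  rw [Subsingleton.elim y 0, Ext.zero_comp]

lemma ExtAcyclic.X₃ {X : A} {S : ShortComplex A} (hS : S.ShortExact) (h₁ : ExtAcyclic X S.X₁)
    (h₂ : ExtAcyclic X S.X₂) : ExtAcyclic X S.X₃ :=
  fun p => subsingleton_ext_X₃ hS (p + 1) (h₂ p) (h₁ (p + 1))

end

section

variable {C : Type u} [SmallCategory C] {J : GrothendieckTopology C} {U : C}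

/-- The cycles of a short complex with acyclic `Z¹`, first term and homology are acyclic, and
sections commute with its homology. -/
theorem acyclic_cycles_and_homology_sections (S : ShortComplex (Sheaf J AddCommGrpCat.{u}))
    {Z : Sheaf J AddCommGrpCat.{u}} (k : Z ⟶ S.X₁) (hm : Mono k) (w : k ≫ S.f = 0)
    (hk : (ShortComplex.mk k S.f w).Exact)
    (hZ : ExtAcyclic (CohCx.freeSheaf J U) Z) (h₁ : ExtAcyclic (CohCx.freeSheaf J U) S.X₁)
    (hH : ExtAcyclic (CohCx.freeSheaf J U) S.homology) :
    ExtAcyclic (CohCx.freeSheaf J U) S.cycles ∧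
      Nonempty ((S.map (sectionsAt J U)).homology ≅ (sectionsAt J U).obj S.homology) := by
  let h := S.leftHomologyData
  have hkf : k ≫ h.f' = 0 := by
    rw [← cancel_mono h.i, Category.assoc, h.f'_i, w, zero_comp]
  have hex : (ShortComplex.mk k h.f' hkf).Exact := by
    refine (ShortComplex.exact_iff_of_epi_of_isIso_of_mono
      (S₁ := ShortComplex.mk k h.f' hkf) (S₂ := ShortComplex.mk k S.f w)
      { τ₁ := 𝟙 _, τ₂ := 𝟙 _, τ₃ := h.i }).2 hk
  -- `0 → Z → X₁ → B → 0`
  let B := Abelian.image h.f'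
  let e := Abelian.factorThruImage h.f'
  have hke : k ≫ e = 0 := by
    rw [← cancel_mono (Abelian.image.ι h.f'), Category.assoc, Abelian.image.fac, hkf, zero_comp]
  have hS₁ : (ShortComplex.mk k e hke).ShortExact :=
    { exact := (ShortComplex.exact_iff_of_epi_of_isIso_of_mono
        (S₁ := ShortComplex.mk k e hke) (S₂ := ShortComplex.mk k h.f' hkf)
        { τ₁ := 𝟙 _, τ₂ := 𝟙 _, τ₃ := Abelian.image.ι h.f'
          comm₂₃ := (Category.id_comp _).trans (Abelian.image.fac h.f').symm }).2 hex
      mono_f := inferInstanceAs (Mono k)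
      epi_g := inferInstanceAs (Epi (Abelian.factorThruImage h.f')) }
  have hB : ExtAcyclic (CohCx.freeSheaf J U) B := ExtAcyclic.X₃ hS₁ hZ h₁
  -- `0 → B → cycles → homology → 0`
  have hBπ : Abelian.image.ι h.f' ≫ h.π = 0 := Abelian.image_ι_comp_eq_zero h.f'_π
  have hS₂ : (ShortComplex.mk (Abelian.image.ι h.f') h.π hBπ).ShortExact :=
    { exact := (ShortComplex.exact_iff_exact_image_ι (ShortComplex.mk h.f' h.π h.f'_π)).1
        (ShortComplex.exact_of_g_is_cokernel _ h.hπ')
      mono_f := inferInstanceAs (Mono (Abelian.image.ι h.f'))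
      epi_g := inferInstanceAs (Epi h.π) }
  refine ⟨ExtAcyclic.X₂ hS₂ hB (hH.of_iso h.homologyIso), ?_⟩
  have hsurj₁ := surjective_sections_of_subsingleton hS₁ U (hZ 0)
  have hsurj₂ := surjective_sections_of_subsingleton hS₂ U (hB 0)
  let T := (ShortComplex.mk h.f' h.π h.f'_π).map (sectionsAt J U)
  have hT : T.Exact := by
    rw [ShortComplex.ab_exact_iff]
    intro y hy
    obtain ⟨b, rfl⟩ := sections_exact hS₂ U y hy
    obtain ⟨x, rfl⟩ := hsurj₁ b
    exact ⟨x, (ConcreteCategory.congr_hom
      (congrArg (fun m => (sectionsAt J U).map m) (Abelian.image.fac h.f')) x).symm.trans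
        (ConcreteCategory.congr_hom ((sectionsAt J U).map_comp _ _) x)⟩
  have : Epi T.g := (AddCommGrpCat.epi_iff_surjective _).2 hsurj₂
  have : h.IsPreservedBy (sectionsAt J U) :=
    { g := inferInstance
      f' := preservesColimit_of_preserves_colimit_cocone h.hπ'
        ((CokernelCofork.isColimitMapCoconeEquiv _ (sectionsAt J U)).2 hT.gIsCokernel) }
  exact ⟨(h.map (sectionsAt J U)).homologyIso ≪≫
    (sectionsAt J U).mapIso h.homologyIso.symm⟩

/-- The cycles of a complex of acyclic sheaves with acyclic cohomology sheaves are acyclic. -/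
theorem acyclic_cycles (K : CochainComplex (Sheaf J AddCommGrpCat.{u}) ℕ)
    (hK : ∀ i, ExtAcyclic (CohCx.freeSheaf J U) (K.X i))
    (hH : ∀ i, ExtAcyclic (CohCx.freeSheaf J U) (K.homology i)) (q : ℕ) :
    ExtAcyclic (CohCx.freeSheaf J U) (K.cycles q) := by
  induction q with
  | zero => exact (hH 0).of_iso K.isoHomologyπ₀.symm
  | succ q ih =>
    have hq : (ComplexShape.up ℕ).prev (q + 1) = q := by simp
    exact (acyclic_cycles_and_homology_sections (K.sc (q + 1))
      (K.iCycles ((ComplexShape.up ℕ).prev (q + 1)))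
      (inferInstanceAs (Mono (K.sc _).iCycles)) (K.iCycles_d _ _)
      (ShortComplex.exact_of_f_is_kernel _ (K.cyclesIsKernel _ _ (by simp)))
      (by rw [hq]; exact ih) (hK _) (hH (q + 1))).1

/-- Sections commute with the cohomology of a complex of acyclic sheaves with acyclic cohomology
sheaves. -/
theorem nonempty_homology_sections_iso (K : CochainComplex (Sheaf J AddCommGrpCat.{u}) ℕ)
    (hK : ∀ i, ExtAcyclic (CohCx.freeSheaf J U) (K.X i))
    (hH : ∀ i, ExtAcyclic (CohCx.freeSheaf J U) (K.homology i)) (q : ℕ) :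
    Nonempty ((((sectionsAt J U).mapHomologicalComplex _).obj K).homology q ≅
      (sectionsAt J U).obj (K.homology q)) := by
  cases q with
  | zero =>
    have : (K.sc 0).f = 0 := K.shape _ _ (by simp)
    exact (acyclic_cycles_and_homology_sections (K.sc 0) (𝟙 (K.sc 0).X₁) inferInstance
      (by rw [this, comp_zero])
      ((ShortComplex.exact_iff_epi _ this).2 (by dsimp; infer_instance))
      (hK _) (hK _) (hH 0)).2
  | succ q =>
    exact (acyclic_cycles_and_homology_sections (K.sc (q + 1))
      (K.iCycles ((ComplexShape.up ℕ).prev (q + 1)))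
      (inferInstanceAs (Mono (K.sc _).iCycles)) (K.iCycles_d _ _)
      (ShortComplex.exact_of_f_is_kernel _ (K.cyclesIsKernel _ _ (by simp)))
      (acyclic_cycles K hK hH _) (hK _) (hH (q + 1))).2

end

section

variable {C D : Type u} [SmallCategory C] [SmallCategory D] (J : GrothendieckTopology C)
  (K : GrothendieckTopology D) (w : D ⥤ C) [w.IsContinuous K J]

/-- If the higher direct images are acyclic on `V`, their sections there compute the cohomology
of the sheaf on the inverse image of `V`. -/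
theorem nonempty_hU_equiv_sections_rpush [(CohSite.push J K w).PreservesInjectiveObjects]
    (F : Sheaf J AddCommGrpCat.{u}) (V : D)
    (h : ∀ p q : ℕ, Subsingleton (CohSite.HU ((CohSite.Rpush J K w q).obj F) (p + 1) V)) (q : ℕ) :
    Nonempty (CohSite.HU F q (w.obj V) ≃+ ((CohSite.Rpush J K w q).obj F).obj.obj (op V)) := by
  let I := injectiveResolution F
  let L := ((CohSite.push J K w).mapHomologicalComplex _).obj I.cocomplex
  have hL : ∀ i, ExtAcyclic (CohCx.freeSheaf K V) (L.X i) := fun i p =>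
    have : Injective (L.X i) := (CohSite.push J K w).injective_obj_of_injective (I.injective i)
    Ext.subsingleton_of_injective _ _ p
  obtain ⟨e⟩ := nonempty_homology_sections_iso L hL
    (fun i => ExtAcyclic.of_iso (fun p => h p i) (I.isoRightDerivedObj _ i)) q
  exact ⟨(((rightDerivedCompExactIso (sheafToPresheaf J AddCommGrpCat.{u})
      ((evaluation Cᵒᵖ AddCommGrpCat.{u}).obj (op (w.obj V))) q).app F ≪≫
      ((evaluation Cᵒᵖ AddCommGrpCat.{u}).obj (op (w.obj V))).mapIso
        ((sectionsDerivedIso J q).app F)).symm ≪≫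
    I.isoRightDerivedObj (sectionsAt J (w.obj V)) q ≪≫ e ≪≫
    (sectionsAt K V).mapIso (I.isoRightDerivedObj (CohSite.push J K w) q).symm
      ).addCommGroupIsoToAddEquiv⟩

end

end Groth.Agent.SiteCoh
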