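import Groth.Agent.SiteCoh.FreeNerve
import Groth.Agent.SiteCoh.AcyclicComplex

/-!
# Totally acyclic sheaves and Cech nerves of epimorphisms of sheaves of sets
-/

set_option autoImplicit false

universe u

open CategoryTheory CategoryTheory.Limits CategoryTheory.Abelian Opposite AlgebraicTopology
open scoped Simplicial

namespace Groth.Agent.SiteCoh

variable {C : Type u} [SmallCategory C] {J : GrothendieckTopology C}
variable {K' K : Sheaf J (Type u)} (f : K' ⟶ K)

open Nerve in
lemma cechNerveCx_d (F : Sheaf J AddCommGrpCat.{u}) (n : ℕ) (x : (freeCx f).X n ⟶ F) :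
    (CohCx.cechNerveCx F f).d n (n + 1) x = (freeCx f).d (n + 1) n ≫ x := by
  let Φ : ((CohCx.cechNerveCx F f).X n ⟶ (CohCx.cechNerveCx F f).X (n + 1)) →+
      ((freeCx f).X (n + 1) ⟶ F) :=
    AddMonoidHom.mk' (fun m => m x) fun _ _ => rfl
  change Φ ((CohCx.cechNerveCx F f).d n (n + 1)) = _
  rw [show (CohCx.cechNerveCx F f).d n (n + 1) = ∑ i : Fin (n + 2), (-1 : ℤ) ^ (i : ℕ) •
      CosimplicialObject.δ ((Arrow.mk f).cechNerve.rightOp ⋙ CohCx.HK0Functor J F) i from by
    show (AlternatingCofaceMapComplex.obj _).d n (n + 1) = _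
    dsimp only [AlternatingCofaceMapComplex.obj]
    exact CochainComplex.of_d _ _ n,
    AlternatingFaceMapComplex.obj_d_eq, Preadditive.sum_comp]
  erw [map_sum Φ]
  refine Finset.sum_congr rfl fun i _ => ?_
  erw [map_zsmul Φ]
  rw [Preadditive.zsmul_comp]
  rfl

open Nerve in
lemma isZero_cechNerveCx_iff (F : Sheaf J AddCommGrpCat.{u}) (q : ℕ) :
    IsZero ((CohCx.cechNerveCx F f).homology (q + 1)) ↔
      ∀ x : (freeCx f).X (q + 1) ⟶ F, (freeCx f).d (q + 2) (q + 1) ≫ x = 0 →
        ∃ y : (freeCx f).X q ⟶ F, (freeCx f).d (q + 1) q ≫ y = x := by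
  rw [← HomologicalComplex.exactAt_iff_isZero_homology,
    HomologicalComplex.exactAt_iff' _ q (q + 1) (q + 2) (by simp) (by simp),
    ShortComplex.ab_exact_iff]
  constructor
  · intro h x hx
    obtain ⟨y, hy⟩ := h x ((cechNerveCx_d f F (q + 1) x).trans hx)
    exact ⟨y, (cechNerveCx_d f F q y).symm.trans hy⟩
  · intro h x hx
    obtain ⟨y, hy⟩ := h x ((cechNerveCx_d f F (q + 1) x).symm.trans hx)
    exact ⟨y, (cechNerveCx_d f F q y).trans hy⟩

variable [Epi f]

/-- The short exact sequences of syzygies of an exact chain complex. -/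
lemma syzygy_shortExact {A : Type*} [Category* A] [Abelian A] (X : ChainComplex A ℕ) (q : ℕ)
    (h : (ShortComplex.mk _ _ (X.d_comp_d (q + 2) (q + 1) q)).Exact) :
    (ShortComplex.mk
      (cokernel.desc (X.d (q + 2) (q + 1)) (X.d (q + 1) q) (X.d_comp_d _ _ _))
      (cokernel.π (X.d (q + 1) q))
      (by rw [← cancel_epi (cokernel.π (X.d (q + 2) (q + 1))), ← Category.assoc, cokernel.π_desc,
        cokernel.condition, comp_zero])).ShortExact where
  exact := by
    refine (ShortComplex.exact_iff_of_epi_of_isIso_of_mono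
      (S₁ := ShortComplex.mk (X.d (q + 1) q) (cokernel.π (X.d (q + 1) q)) (cokernel.condition _))
      (S₂ := ShortComplex.mk
        (cokernel.desc (X.d (q + 2) (q + 1)) (X.d (q + 1) q) (X.d_comp_d _ _ _))
        (cokernel.π (X.d (q + 1) q))
        (by rw [← cancel_epi (cokernel.π (X.d (q + 2) (q + 1))), ← Category.assoc, cokernel.π_desc,
          cokernel.condition, comp_zero]))
      { τ₁ := cokernel.π (X.d (q + 2) (q + 1)), τ₂ := 𝟙 _, τ₃ := 𝟙 _ }).1 ?_
    exact ShortComplex.exact_cokernel _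
  mono_f := (ShortComplex.exact_iff_mono_cokernel_desc _).1 h
  epi_g := inferInstanceAs (Epi (cokernel.π _))

open Nerve in
/-- The augmentation identifies `Z[K]` with the first cokernel. -/
noncomputable def syzygyZeroIso :
    cokernel ((freeCx f).d 1 0) ≅ (freeSh J).obj K :=
  haveI := epi_aug f
  IsColimit.coconePointUniqueUpToIso (cokernelIsCokernel ((freeCx f).d 1 0))
    (exact_zero f).gIsCokernel

variable {F : Sheaf J AddCommGrpCat.{u}}

open Nerve in
lemma subsingleton_ext_syzygy (hF : CohCx.IsTotallyAcyclic F) (q i : ℕ) :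
    Subsingleton (Ext (cokernel ((freeCx f).d (q + 1) q)) F (i + 1)) := by
  induction q generalizing i with
  | zero =>
    have : Subsingleton (Ext ((freeSh J).obj K) F (i + 1)) := hF K i
    exact subsingleton_ext_of_iso (syzygyZeroIso f) (i + 1)
  | succ q ih =>
    refine subsingleton_of_forall_eq 0 fun x => ?_
    have := ih (i + 1)
    obtain ⟨y, rfl⟩ := Ext.contravariant_sequence_exact₁ (syzygy_shortExact (freeCx f) q (exact_succ f q)) F x
      (show 1 + (i + 1) = i + 1 + 1 by omega) (Subsingleton.elim _ _)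
    have : Subsingleton (Ext ((freeCx f).X q) F (i + 1)) :=
      hF ((Arrow.mk f).cechNerve.obj (op ⦋q⦌)) i
    rw [Subsingleton.elim y 0, Ext.comp_zero]

open Nerve in
/-- Totally acyclic sheaves have no higher Cech cohomology for epimorphisms of sheaves of sets. -/
theorem isZero_cechNerveCx_of_isTotallyAcyclic (hF : CohCx.IsTotallyAcyclic F) (q : ℕ) :
    IsZero ((CohCx.cechNerveCx F f).homology (q + 1)) := by
  rw [isZero_cechNerveCx_iff]
  intro x hx
  have := subsingleton_ext_syzygy f hF q 0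
  obtain ⟨y, hy⟩ := Ext.contravariant_sequence_exact₁ (syzygy_shortExact (freeCx f) q (exact_succ f q)) F
    (Ext.mk₀ (cokernel.desc ((freeCx f).d (q + 2) (q + 1)) x hx)) (add_zero 1)
    (Subsingleton.elim _ _)
  obtain ⟨y, rfl⟩ := (Ext.mk₀_bijective _ _).2 y
  rw [Ext.mk₀_comp_mk₀] at hy
  refine ⟨y, ?_⟩
  have h := congrArg (fun m => cokernel.π ((freeCx f).d (q + 2) (q + 1)) ≫ m)
    ((Ext.mk₀_bijective _ _).1 hy)
  simpa using h

end Groth.Agent.SiteCoh

namespace Groth.Agent.SiteCoh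

variable {C : Type u} [SmallCategory C] {J : GrothendieckTopology C}

/-- Cech acyclicity for all epimorphisms of sheaves of sets. -/
def NerveAcyclic (F : Sheaf J AddCommGrpCat.{u}) : Prop :=
  ∀ (K' K : Sheaf J (Type u)) (f : K' ⟶ K), Epi f →
    ∀ q : ℕ, IsZero ((CohCx.cechNerveCx F f).homology (q + 1))

lemma isTotallyAcyclic_of_injective (I : Sheaf J AddCommGrpCat.{u}) [Injective I] :
    CohCx.IsTotallyAcyclic I :=
  fun _ p => Ext.subsingleton_of_injective _ _ p

/-- Epimorphisms of sheaves of sets are stable under base change. -/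
lemma epi_pullback_fst {A B K : Sheaf J (Type u)} (a : K ⟶ B) (g : A ⟶ B) [Epi g] :
    Epi (pullback.fst a g) := by
  have hg : Sheaf.IsLocallySurjective g := (Sheaf.isLocallySurjective_iff_epi g).2 inferInstance
  rw [← Sheaf.isLocallySurjective_iff_epi]
  constructor
  intro V (s : K.obj.obj (op V))
  refine J.superset_covering ?_ (hg.imageSieve_mem (a.hom.app (op V) s))
  rintro W i ⟨y, hy⟩
  let ev := sheafToPresheaf J (Type u) ⋙ (evaluation Cᵒᵖ (Type u)).obj (op W)
  have h := (IsPullback.of_hasPullback a g).map ev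
  refine ⟨h.lift (W := PUnit.{u + 1}) (TypeCat.ofHom fun _ => K.obj.map i.op s)
    (TypeCat.ofHom fun _ => y) (by ext; exact (NatTrans.naturality_apply a.hom _ _).trans hy.symm)
    PUnit.unit, ?_⟩
  exact ConcreteCategory.congr_hom (h.lift_fst _ _ _) PUnit.unit

open Nerve in
/-- A Cech acyclic sheaf has surjective lifting on all free sheaves. -/
lemma exists_lift_of_nerveAcyclic {S : ShortComplex (Sheaf J AddCommGrpCat.{u})} (hS : S.ShortExact)
    (hF : NerveAcyclic S.X₁) (K : Sheaf J (Type u)) (a : (freeSh J).obj K ⟶ S.X₃) :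
    ∃ b : (freeSh J).obj K ⟶ S.X₂, b ≫ S.g = a := by
  let adj := freeShAdj J
  let U := sheafCompose J (forget AddCommGrpCat.{u})
  have := hS.epi_g
  have := hS.mono_f
  have : Epi (U.map S.g) :=
    (Sheaf.isLocallySurjective_iff_epi _).1
      ((Presheaf.isLocallySurjective_iff_whisker_forget J S.g.hom).1
        ((Sheaf.isLocallySurjective_iff_epi' (A := AddCommGrpCat.{u}) S.g).2 inferInstance))
  let a' : K ⟶ U.obj S.X₃ := adj.homEquiv _ _ a
  let p := pullback.fst a' (U.map S.g)
  have : Epi p := epi_pullback_fst a' (U.map S.g)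
  let l : (freeSh J).obj (pullback a' (U.map S.g)) ⟶ S.X₂ :=
    (adj.homEquiv _ _).symm (pullback.snd a' (U.map S.g))
  have hl : l ≫ S.g = (freeSh J).map p ≫ a := by
    rw [← adj.homEquiv_naturality_right_symm, ← pullback.condition,
      adj.homEquiv_naturality_left_symm]
    exact congrArg (fun m => (freeSh J).map p ≫ m) ((adj.homEquiv _ _).symm_apply_apply a)
  let b₀ : (freeCx p).X 0 ⟶ S.X₂ :=
    (freeSh J).map (WidePullback.π (fun _ : Fin 1 => p) 0) ≫ l
  have hb₀ : b₀ ≫ S.g = aug p ≫ a := by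
    change ((freeSh J).map (WidePullback.π (fun _ : Fin 1 => p) 0) ≫ l) ≫ S.g =
      (freeSh J).map (WidePullback.base (fun _ : Fin 1 => p)) ≫ a
    rw [← WidePullback.π_arrow (fun _ : Fin 1 => p) 0, (freeSh J).map_comp, Category.assoc, hl,
      Category.assoc]
  obtain ⟨e, he⟩ : ∃ e : (freeCx p).X 1 ⟶ S.X₁, e ≫ S.f = (freeCx p).d 1 0 ≫ b₀ :=
    ⟨hS.exact.lift ((freeCx p).d 1 0 ≫ b₀) (by rw [Category.assoc, hb₀, ← Category.assoc, d_aug, zero_comp]),
      hS.exact.lift_f _ _⟩
  have he' : (freeCx p).d 2 1 ≫ e = 0 := by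
    rw [← cancel_mono S.f, Category.assoc, he, HomologicalComplex.d_comp_d_assoc, zero_comp,
      zero_comp]
  obtain ⟨c, hc⟩ := (isZero_cechNerveCx_iff p S.X₁ 0).1 (hF _ _ p inferInstance 0) e he'
  have hd : (freeCx p).d 1 0 ≫ (b₀ - c ≫ S.f) = 0 := by
    rw [Preadditive.comp_sub, ← Category.assoc _ c, hc, he, sub_self]
  have hea := epi_aug p
  obtain ⟨b, hb⟩ := CokernelCofork.IsColimit.desc' (exact_zero p).gIsCokernel (b₀ - c ≫ S.f) hd
  refine ⟨b, (cancel_epi (aug p)).1 ?_⟩
  change aug p ≫ b ≫ S.g = aug p ≫ a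
  rw [show aug p ≫ b ≫ S.g = (b₀ - c ≫ S.f) ≫ S.g from
    (Category.assoc _ _ _).symm.trans (congrArg (fun m => m ≫ S.g) hb)]
  simp [Preadditive.sub_comp, hb₀, S.zero]

open Nerve in
/-- The cokernel of an embedding into an injective sheaf of a Cech acyclic sheaf is Cech acyclic. -/
lemma nerveAcyclic_X₃ {S : ShortComplex (Sheaf J AddCommGrpCat.{u})} (hS : S.ShortExact)
    [Injective S.X₂] (hF : NerveAcyclic S.X₁) : NerveAcyclic S.X₃ := by
  intro K' K f _ q
  have := hS.mono_f
  rw [isZero_cechNerveCx_iff]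
  intro x hx
  obtain ⟨y, rfl⟩ : ∃ y : (freeCx f).X (q + 1) ⟶ S.X₂, y ≫ S.g = x :=
    exists_lift_of_nerveAcyclic hS hF _ x
  have w : ((freeCx f).d (q + 2) (q + 1) ≫ y) ≫ S.g = 0 := by rw [Category.assoc]; exact hx
  let e := hS.exact.lift _ w
  have he : e ≫ S.f = (freeCx f).d (q + 2) (q + 1) ≫ y := hS.exact.lift_f _ _
  obtain ⟨c, hc⟩ := (isZero_cechNerveCx_iff f S.X₁ (q + 1)).1 (hF _ _ f inferInstance (q + 1)) e (by
    rw [← cancel_mono S.f, Category.assoc, he, HomologicalComplex.d_comp_d_assoc, zero_comp,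
      zero_comp])
  obtain ⟨z, hz⟩ := (isZero_cechNerveCx_iff f S.X₂ q).1
    (isZero_cechNerveCx_of_isTotallyAcyclic f (isTotallyAcyclic_of_injective S.X₂) q)
    (y - c ≫ S.f) (by rw [Preadditive.comp_sub, ← Category.assoc _ c, hc, he, sub_self])
  refine ⟨z ≫ S.g, ?_⟩
  rw [← Category.assoc, hz, Preadditive.sub_comp, Category.assoc c, S.zero, comp_zero, sub_zero]

/-- Cech acyclic sheaves are totally acyclic. -/
theorem isTotallyAcyclic_of_nerveAcyclic {F : Sheaf J AddCommGrpCat.{u}} (hF : NerveAcyclic F) :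
    CohCx.IsTotallyAcyclic F := fun K p =>
  subsingleton_ext_of_class NerveAcyclic
    (fun X => ∃ L : Sheaf J (Type u), X = (Nerve.freeSh J).obj L)
    (fun G hG => ⟨_, _, _, _, (injEmbed G).zero, inferInstanceAs (Injective (Injective.under G)),
      injEmbed_shortExact G,
      (haveI : Injective (injEmbed G).X₂ := inferInstanceAs (Injective (Injective.under G))
       nerveAcyclic_X₃ (injEmbed_shortExact G) hG),
      fun _ ⟨L, hL⟩ => hL ▸ exists_lift_of_nerveAcyclic (injEmbed_shortExact G) hG L⟩)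
    (X := (Nerve.freeSh J).obj K) ⟨K, rfl⟩ hF p

end Groth.Agent.SiteCoh
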