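import Groth.Agent.SiteCoh.Cohomology
import Mathlib.CategoryTheory.Sites.LocallyBijective
import Mathlib.CategoryTheory.Limits.Preserves.Basic
import Mathlib.CategoryTheory.Limits.FunctorCategory.Basic

/-!
# Sheafification and colimits computed on a covering class of objects
-/

set_option autoImplicit false

universe u

open CategoryTheory CategoryTheory.Limits Opposite

namespace Groth.Agent.SiteCoh

variable {D : Type u} [SmallCategory D] (K : GrothendieckTopology D)

/-- A map of presheaves bijective on covering families becomes an isomorphism on sheafification. -/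
lemma isIso_sheafify_map_of_bijective {P Q : Dᵒᵖ ⥤ AddCommGrpCat.{u}} (φ : P ⟶ Q)
    (h : ∀ V : D, ∃ (κ : Type u) (Y : κ → D) (g : ∀ k, Y k ⟶ V), Sieve.ofArrows Y g ∈ K V ∧
      ∀ k, IsIso (φ.app (op (Y k)))) :
    IsIso ((presheafToSheaf K AddCommGrpCat.{u}).map φ) := by
  have : Presheaf.IsLocallyInjective K φ := ⟨fun {V} x y hxy => by
    obtain ⟨κ, Yf, g, hcov, hiso⟩ := h V.unop
    refine K.superset_covering ?_ hcov
    rw [Sieve.generate_le_iff]
    rintro W _ ⟨k⟩
    refine (AddCommGrpCat.mono_iff_injective (φ.app (op (Yf k)))).1 (have := hiso k; inferInstance) ?_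
    rw [NatTrans.naturality_apply, NatTrans.naturality_apply, hxy]⟩
  have : Presheaf.IsLocallySurjective K φ := ⟨fun {V} s => by
    obtain ⟨κ, Yf, g, hcov, hiso⟩ := h V
    refine K.superset_covering ?_ hcov
    rw [Sieve.generate_le_iff]
    rintro W _ ⟨k⟩
    exact (AddCommGrpCat.epi_iff_surjective (φ.app (op (Yf k)))).1 (have := hiso k; inferInstance) _⟩
  exact (K.W_iff φ).1 (K.W_of_isLocallyBijective φ)

/-- A functor to presheaves preserving a colimit on the members of covering families preserves it
after sheafification. -/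
lemma preservesColimit_comp_sheafify {A : Type (u + 1)} [Category.{u} A] {ι : Type u}
    [SmallCategory ι] (F : ι ⥤ A) (P : A ⥤ Dᵒᵖ ⥤ AddCommGrpCat.{u})
    (h : ∀ V : D, ∃ (κ : Type u) (Y : κ → D) (g : ∀ k, Y k ⟶ V), Sieve.ofArrows Y g ∈ K V ∧
      ∀ k, PreservesColimit F (P ⋙ (evaluation Dᵒᵖ AddCommGrpCat.{u}).obj (op (Y k)))) :
    PreservesColimit F (P ⋙ presheafToSheaf K AddCommGrpCat.{u}) where
  preserves {c} hc := by
    let m := colimit.desc (F ⋙ P) (P.mapCocone c)
    have hm : IsIso ((presheafToSheaf K AddCommGrpCat.{u}).map m) :=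
      isIso_sheafify_map_of_bijective K m fun V => by
        obtain ⟨κ, Y, g, hcov, hp⟩ := h V
        refine ⟨κ, Y, g, hcov, fun k => ?_⟩
        have := hp k
        let ev := (evaluation Dᵒᵖ AddCommGrpCat.{u}).obj (op (Y k))
        let h₁ := isColimitOfPreserves ev (colimit.isColimit (F ⋙ P))
        let h₂ := isColimitOfPreserves (P ⋙ ev) hc
        have : m.app (op (Y k)) = (h₁.coconePointUniqueUpToIso h₂).hom :=
          h₁.hom_ext fun j => ((NatTrans.congr_app (colimit.ι_desc (P.mapCocone c) j) (op (Y k))).trans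
            (h₁.comp_coconePointUniqueUpToIso_hom h₂ j).symm)
        rw [this]
        infer_instance
    exact ⟨(isColimitOfPreserves (presheafToSheaf K AddCommGrpCat.{u})
      (colimit.isColimit (F ⋙ P))).ofIsoColimit
        (Cocone.ext (asIso ((presheafToSheaf K AddCommGrpCat.{u}).map m)) fun j =>
          ((presheafToSheaf K AddCommGrpCat.{u}).map_comp _ _).symm.trans
            (congrArg (presheafToSheaf K AddCommGrpCat.{u}).map (colimit.ι_desc (P.mapCocone c) j)))⟩

end Groth.Agent.SiteCoh
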