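import Groth.Agent.SiteCoh.FreePullback
import Mathlib.AlgebraicTopology.CechNerve
import Mathlib.AlgebraicTopology.AlternatingFaceMapComplex

/-!
# The free Cech nerve of an epimorphism of sheaves of sets is a resolution
-/

set_option autoImplicit false

universe u

open CategoryTheory CategoryTheory.Limits Opposite AlgebraicTopology
open scoped Simplicial

namespace Groth.Agent.SiteCoh.Nerve

variable {C : Type u} [SmallCategory C] {J : GrothendieckTopology C}
variable {K' K : Sheaf J (Type u)} (f : K' ⟶ K) (V : Cᵒᵖ)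

/-- Sections of the `n`-th term of the Cech nerve. -/
abbrev T (n : ℕ) : Type u := ((Arrow.mk f).cechNerve.obj (op ⦋n⦌)).obj.obj V

/-- The projections. -/
noncomputable def proj {n : ℕ} (i : Fin (n + 1)) (x : T f V n) : K'.obj.obj V :=
  (WidePullback.π (fun _ : Fin (n + 1) => f) i).hom.app V x

/-- The common image. -/
noncomputable def base {n : ℕ} (x : T f V n) : K.obj.obj V :=
  (WidePullback.base (fun _ : Fin (n + 1) => f)).hom.app V x

lemma app_proj {n : ℕ} (i : Fin (n + 1)) (x : T f V n) : f.hom.app V (proj f V i x) = base f V x :=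
  ConcreteCategory.congr_hom (NatTrans.congr_app
    (congrArg InducedCategory.Hom.hom (WidePullback.π_arrow (fun _ : Fin (n + 1) => f) i)) V) x

lemma ext' {n : ℕ} {x y : T f V n} (h : ∀ i, proj f V i x = proj f V i y) : x = y := by
  let ev := sheafToPresheaf J (Type u) ⋙ (evaluation Cᵒᵖ (Type u)).obj V
  refine Concrete.isLimit_ext _ (isLimitOfPreserves ev
    (limit.isLimit (WidePullbackShape.wideCospan K (fun _ : Fin (n + 1) => K') fun _ => f))) x y ?_
  rintro (_ | i)
  · exact ((app_proj f V 0 x).symm.trans ((congrArg _ (h 0)).trans (app_proj f V 0 y)))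
  · exact h i

lemma exists_proj_eq {n : ℕ} (p : Fin (n + 1) → K'.obj.obj V) (y : K.obj.obj V)
    (h : ∀ i, f.hom.app V (p i) = y) : ∃ x : T f V n, ∀ i, proj f V i x = p i := by
  let ev := sheafToPresheaf J (Type u) ⋙ (evaluation Cᵒᵖ (Type u)).obj V
  let D := WidePullbackShape.wideCospan K (fun _ : Fin (n + 1) => K') fun _ => f
  let hl := isLimitOfPreserves ev (limit.isLimit D)
  let c : Cone (D ⋙ ev) :=
    { pt := PUnit.{u + 1}
      π :=
        { app := fun j => match j with
            | none => TypeCat.ofHom fun _ => y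
            | some i => TypeCat.ofHom fun _ => p i
          naturality := by
            intro j j' m
            cases m with
            | id => simp
            | term i =>
              ext
              exact (h i).symm } }
  exact ⟨hl.lift c PUnit.unit, fun i => ConcreteCategory.congr_hom (hl.fac c (some i)) PUnit.unit⟩

/-- The face maps. -/
noncomputable def face {n : ℕ} (i : Fin (n + 2)) (x : T f V (n + 1)) : T f V n :=
  (SimplicialObject.δ (Arrow.mk f).cechNerve i).hom.app V x

lemma proj_face {n : ℕ} (i : Fin (n + 2)) (x : T f V (n + 1)) (j : Fin (n + 1)) :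
    proj f V j (face f V i x) = proj f V (i.succAbove j) x := by
  have h : (SimplicialObject.δ (Arrow.mk f).cechNerve i) ≫
      WidePullback.π (fun _ : Fin (n + 1) => f) j =
        WidePullback.π (fun _ : Fin (n + 2) => f) (i.succAbove j) :=
    limit.lift_π _ _
  exact ConcreteCategory.congr_hom (NatTrans.congr_app (congrArg InducedCategory.Hom.hom h) V) x

lemma base_face {n : ℕ} (i : Fin (n + 2)) (x : T f V (n + 1)) :
    base f V (face f V i x) = base f V x :=
  (app_proj f V 0 (face f V i x)).symm.trans
    ((congrArg _ (proj_face f V i x 0)).trans (app_proj f V _ x))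

variable [Nonempty (K'.obj.obj V)]

/-- A partial section of `f` on `V`. -/
noncomputable def sec : K.obj.obj V → K'.obj.obj V :=
  Function.invFun (f.hom.app V)

lemma app_sec {n : ℕ} (x : T f V n) : f.hom.app V (sec f V (base f V x)) = base f V x :=
  Function.invFun_eq ⟨proj f V 0 x, app_proj f V 0 x⟩

/-- The cone construction. -/
noncomputable def cone {n : ℕ} (x : T f V n) : T f V (n + 1) :=
  (exists_proj_eq f V (Fin.cons (sec f V (base f V x)) fun i => proj f V i x) (base f V x)
    (fun i => by
      cases i using Fin.cases with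
      | zero => exact app_sec f V x
      | succ i => exact app_proj f V i x)).choose

lemma proj_cone {n : ℕ} (x : T f V n) (i : Fin (n + 2)) :
    proj f V i (cone f V x) =
      (Fin.cons (sec f V (base f V x)) (fun i => proj f V i x) : Fin (n + 2) → K'.obj.obj V) i :=
  Exists.choose_spec (p := fun y : T f V (n + 1) => ∀ i, proj f V i y =
    (Fin.cons (sec f V (base f V x)) (fun i => proj f V i x) : Fin (n + 2) → K'.obj.obj V) i) _ i

lemma face_zero_cone {n : ℕ} (x : T f V n) : face f V 0 (cone f V x) = x :=
  ext' f V fun j => by rw [proj_face, proj_cone, Fin.succAbove_zero, Fin.cons_succ]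

lemma face_succ_cone {n : ℕ} (x : T f V (n + 1)) (i : Fin (n + 2)) :
    face f V i.succ (cone f V x) = cone f V (face f V i x) :=
  ext' f V fun j => by
    rw [proj_face, proj_cone, proj_cone]
    cases j using Fin.cases with
    | zero => rw [Fin.succ_succAbove_zero, Fin.cons_zero, Fin.cons_zero, base_face]
    | succ j => rw [Fin.succ_succAbove_succ, Fin.cons_succ, Fin.cons_succ, proj_face]

lemma proj_face_one_cone (x : T f V 0) (j : Fin 1) :
    proj f V j (face f V 1 (cone f V x)) = sec f V (base f V x) := by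
  obtain rfl : j = 0 := Subsingleton.elim _ _
  rw [proj_face, proj_cone]
  rfl

end Groth.Agent.SiteCoh.Nerve

namespace Groth.Agent.SiteCoh.Nerve

variable {C : Type u} [SmallCategory C] {J : GrothendieckTopology C}
variable {K' K : Sheaf J (Type u)} (f : K' ⟶ K)

/-- The presheaves of free abelian groups on the Cech nerve. -/
noncomputable abbrev freePre : SimplicialObject (Cᵒᵖ ⥤ AddCommGrpCat.{u}) :=
  ((SimplicialObject.whiskering _ _).obj (sheafToPresheaf J (Type u) ⋙
    (Functor.whiskeringRight _ _ _).obj AddCommGrpCat.free.{u})).obj (Arrow.mk f).cechNerve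

/-- The augmentation on presheaves. -/
noncomputable abbrev preAug :
    (AlternatingFaceMapComplex.obj (freePre f)).X 0 ⟶ K.obj ⋙ AddCommGrpCat.free.{u} :=
  Functor.whiskerRight (WidePullback.base (fun _ : Fin 1 => f)).hom AddCommGrpCat.free.{u}

/-- The differential on sections. -/
noncomputable def D (V : Cᵒᵖ) (n : ℕ) :
    FreeAbelianGroup (T f V (n + 1)) →+ FreeAbelianGroup (T f V n) :=
  (((AlternatingFaceMapComplex.obj (freePre f)).d (n + 1) n).app V).hom

/-- The augmentation on sections. -/
noncomputable def E0 (V : Cᵒᵖ) : FreeAbelianGroup (T f V 0) →+ FreeAbelianGroup (K.obj.obj V) :=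
  FreeAbelianGroup.map (base f V)

lemma exact_of_eval {A : Type*} [Category* A] {S : ShortComplex (A ⥤ AddCommGrpCat.{u})}
    (h : ∀ V, (S.map ((evaluation A AddCommGrpCat.{u}).obj V)).Exact) : S.Exact := by
  rw [ShortComplex.exact_iff_isZero_homology]
  exact Functor.isZero _ fun V => ((ShortComplex.exact_iff_isZero_homology _).1 (h V)).of_iso
    (S.mapHomologyIso ((evaluation A AddCommGrpCat.{u}).obj V)).symm

lemma d_app_of (n : ℕ) (V : Cᵒᵖ) (x : T f V (n + 1)) :
    D f V n (FreeAbelianGroup.of x) =
      ∑ i : Fin (n + 2), (-1 : ℤ) ^ (i : ℕ) •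
        (FreeAbelianGroup.of (face f V i x) : FreeAbelianGroup (T f V n)) := by
  let Φ : ((AlternatingFaceMapComplex.obj (freePre f)).X (n + 1) ⟶
      (AlternatingFaceMapComplex.obj (freePre f)).X n) →+ FreeAbelianGroup (T f V n) :=
    AddMonoidHom.mk' (fun m => m.app V (FreeAbelianGroup.of x)) fun _ _ => rfl
  change Φ ((AlternatingFaceMapComplex.obj (freePre f)).d (n + 1) n) = _
  rw [AlternatingFaceMapComplex.obj_d_eq]
  erw [map_sum Φ]
  refine Finset.sum_congr rfl fun i _ => ?_
  erw [map_zsmul Φ]
  exact congrArg ((-1 : ℤ) ^ (i : ℕ) • ·) (FreeAbelianGroup.map_of_apply x)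

/-- The contraction. -/
noncomputable def homotopy (V : Cᵒᵖ) [Nonempty (K'.obj.obj V)] (n : ℕ) :
    FreeAbelianGroup (T f V n) →+ FreeAbelianGroup (T f V (n + 1)) :=
  FreeAbelianGroup.map (cone f V)

lemma d_homotopy (V : Cᵒᵖ) [Nonempty (K'.obj.obj V)] (n : ℕ)
    (x : FreeAbelianGroup (T f V (n + 1))) :
    D f V (n + 1) (homotopy f V (n + 1) x) + homotopy f V n (D f V n x) = x := by
  refine DFunLike.congr_fun (FreeAbelianGroup.lift_ext
    ((D f V (n + 1)).comp (homotopy f V (n + 1)) + (homotopy f V n).comp (D f V n))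
    (AddMonoidHom.id _) fun x => ?_) x
  change D f V (n + 1) (homotopy f V (n + 1) _) + homotopy f V n (D f V n _) = FreeAbelianGroup.of x
  rw [homotopy, FreeAbelianGroup.map_of_apply, d_app_of, d_app_of, map_sum,
    Fin.sum_univ_succ (n := n + 2), face_zero_cone, Fin.val_zero, pow_zero, one_zsmul,
    add_assoc, ← Finset.sum_add_distrib, Finset.sum_eq_zero, add_zero]
  intro i _
  rw [map_zsmul, homotopy, FreeAbelianGroup.map_of_apply, face_succ_cone, Fin.val_succ, pow_succ',
    neg_one_mul, neg_zsmul, neg_add_cancel]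

/-- The free nerve is exact on presheaves in positive degrees. -/
lemma exact_pre_succ (n : ℕ) :
    (ShortComplex.mk _ _ ((AlternatingFaceMapComplex.obj (freePre f)).d_comp_d
      (n + 2) (n + 1) n)).Exact := by
  refine exact_of_eval fun V => (ShortComplex.ab_exact_iff _).2 ?_
  intro (x : FreeAbelianGroup (T f V (n + 1))) hx
  have hx' : D f V n x = 0 := hx
  rcases isEmpty_or_nonempty (K'.obj.obj V) with h | h
  · have : IsEmpty (T f V (n + 1)) := ⟨fun t => h.false (proj f V 0 t)⟩
    exact ⟨(0 : FreeAbelianGroup (T f V (n + 2))),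
      (map_zero (D f V (n + 1))).trans (Subsingleton.elim 0 x)⟩
  · refine ⟨homotopy f V (n + 1) x, ?_⟩
    have := d_homotopy f V n x
    rw [hx', map_zero, add_zero] at this
    exact this

lemma D_E0 (V : Cᵒᵖ) (x : FreeAbelianGroup (T f V 1)) : E0 f V (D f V 0 x) = 0 := by
  refine DFunLike.congr_fun (FreeAbelianGroup.lift_ext ((E0 f V).comp (D f V 0)) 0 fun x => ?_) x
  rw [AddMonoidHom.comp_apply, d_app_of, map_sum, Fin.sum_univ_two, map_zsmul, map_zsmul, E0,
    FreeAbelianGroup.map_of_apply, FreeAbelianGroup.map_of_apply, base_face, base_face]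
  simp

lemma d_preAug : (AlternatingFaceMapComplex.obj (freePre f)).d 1 0 ≫ preAug f = 0 := by
  ext V : 2
  exact AddCommGrpCat.hom_ext (AddMonoidHom.ext (D_E0 f V))

/-- The free nerve is exact on presheaves in degree zero. -/
lemma exact_pre_zero : (ShortComplex.mk _ _ (d_preAug f)).Exact := by
  refine exact_of_eval fun V => (ShortComplex.ab_exact_iff _).2 ?_
  intro (x : FreeAbelianGroup (T f V 0)) hx
  have hx' : E0 f V x = 0 := hx
  rcases isEmpty_or_nonempty (K'.obj.obj V) with h | h
  · have : IsEmpty (T f V 0) := ⟨fun t => h.false (proj f V 0 t)⟩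
    exact ⟨(0 : FreeAbelianGroup (T f V 1)), (map_zero (D f V 0)).trans (Subsingleton.elim 0 x)⟩
  · refine ⟨homotopy f V 0 x, ?_⟩
    let g : FreeAbelianGroup (K.obj.obj V) →+ FreeAbelianGroup (T f V 0) :=
      FreeAbelianGroup.map fun y =>
        (exists_proj_eq f V (fun _ => sec f V y) (f.hom.app V (sec f V y)) fun _ => rfl).choose
    have key : D f V 0 (homotopy f V 0 x) + g (E0 f V x) = x := by
      refine DFunLike.congr_fun (FreeAbelianGroup.lift_ext
        ((D f V 0).comp (homotopy f V 0) + g.comp (E0 f V)) (AddMonoidHom.id _) fun x => ?_) x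
      change D f V 0 (homotopy f V 0 _) + g (E0 f V _) = FreeAbelianGroup.of x
      simp only [homotopy, E0, g, FreeAbelianGroup.map_of_apply]
      rw [d_app_of, Fin.sum_univ_two, face_zero_cone]
      have : face f V 1 (cone f V x) = (exists_proj_eq f V (fun _ => sec f V (base f V x))
          (f.hom.app V (sec f V (base f V x))) fun _ => rfl).choose :=
        ext' f V fun j => by
          rw [proj_face_one_cone, (exists_proj_eq f V (fun _ => sec f V (base f V x))
            (f.hom.app V (sec f V (base f V x))) fun _ => rfl).choose_spec j]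
      rw [← this]
      simp
    rw [hx', map_zero, add_zero] at key
    exact key

variable (J) in
/-- Sheafification of free presheaves. -/
noncomputable abbrev freeSh : Sheaf J (Type u) ⥤ Sheaf J AddCommGrpCat.{u} :=
  Sheaf.composeAndSheafify J AddCommGrpCat.free.{u}

/-- The free sheaves on the Cech nerve. -/
noncomputable abbrev freeCx : ChainComplex (Sheaf J AddCommGrpCat.{u}) ℕ :=
  AlternatingFaceMapComplex.obj
    (((SimplicialObject.whiskering _ _).obj (freeSh J)).obj (Arrow.mk f).cechNerve)

lemma d_eq_sheafify (n : ℕ) :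
    (freeCx f).d (n + 1) n = (presheafToSheaf J AddCommGrpCat.{u}).map
      ((AlternatingFaceMapComplex.obj (freePre f)).d (n + 1) n) := by
  rw [AlternatingFaceMapComplex.obj_d_eq, AlternatingFaceMapComplex.obj_d_eq]
  erw [(presheafToSheaf J AddCommGrpCat.{u}).map_sum]
  refine Finset.sum_congr rfl fun i _ => ?_
  erw [(presheafToSheaf J AddCommGrpCat.{u}).map_zsmul]
  rfl

/-- The augmentation. -/
noncomputable def aug : (freeCx f).X 0 ⟶ (freeSh J).obj K :=
  (freeSh J).map (WidePullback.base (fun _ : Fin 1 => f))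

lemma exact_succ (n : ℕ) :
    (ShortComplex.mk _ _ ((freeCx f).d_comp_d (n + 2) (n + 1) n)).Exact := by
  refine (ShortComplex.exact_iff_of_iso ?_).1
    ((exact_pre_succ f n).map (presheafToSheaf J AddCommGrpCat.{u}))
  exact ShortComplex.isoMk (Iso.refl _) (Iso.refl _) (Iso.refl _)
    ((Category.id_comp _).trans ((d_eq_sheafify f (n + 1)).trans (Category.comp_id _).symm))
    ((Category.id_comp _).trans ((d_eq_sheafify f n).trans (Category.comp_id _).symm))

lemma d_aug : (freeCx f).d 1 0 ≫ aug f = 0 := by
  rw [d_eq_sheafify]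
  exact (((presheafToSheaf J AddCommGrpCat.{u}).map_comp _ _).symm.trans
    (congrArg _ (d_preAug f))).trans ((presheafToSheaf J AddCommGrpCat.{u}).map_zero _ _)

lemma exact_zero : (ShortComplex.mk _ _ (d_aug f)).Exact := by
  refine (ShortComplex.exact_iff_of_iso ?_).1
    ((exact_pre_zero f).map (presheafToSheaf J AddCommGrpCat.{u}))
  exact ShortComplex.isoMk (Iso.refl _) (Iso.refl _) (Iso.refl _)
    ((Category.id_comp _).trans ((d_eq_sheafify f 0).trans (Category.comp_id _).symm))
    ((Category.id_comp _).trans (Category.comp_id _).symm)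

lemma epi_aug [Epi f] : Epi (aug f) := by
  have : Epi (WidePullback.base (fun _ : Fin 1 => f)) := by
    refine epi_of_epi_fac (f := WidePullback.lift f (fun _ => 𝟙 K') (fun _ => Category.id_comp f))
      (h := f) ?_
    exact WidePullback.lift_base _ _ _ _
  have : (freeSh J).IsLeftAdjoint := (freeShAdj J).isLeftAdjoint
  exact inferInstanceAs (Epi ((freeSh J).map _))

end Groth.Agent.SiteCoh.Nerve
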