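import Groth.Agent.SiteCoh.HyperPts
import Groth.Agent.SiteCoh.FreeNerve
import Mathlib.CategoryTheory.Sites.EpiMono
import Mathlib.CategoryTheory.Preadditive.Injective.Basic

/-!
# Local cones, and exactness of the free chain complex of a hypercovering

If a simplicial formal coproduct has local fillers, then every finite face-closed family of its
points has locally a cone, hence its free chain complex is a resolution of the constant sheaf.
-/

set_option autoImplicit false

universe u

open CategoryTheory CategoryTheory.Limits Opposite AlgebraicTopology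
open scoped Simplicial

namespace Groth.Agent.SiteCoh.Hyp

variable {C : Type u} [SmallCategory C] {J : GrothendieckTopology C}

section Sheafify

lemma sheafify_exact (S : ShortComplex (Cᵒᵖ ⥤ AddCommGrpCat.{u}))
    (h : ∀ (V : C) (x : S.X₂.obj (op V)), S.g.app (op V) x = 0 →
      ∃ R ∈ J V, ∀ (W : C) (g : W ⟶ V), R g → ∃ y, S.f.app (op W) y = S.X₂.map g.op x) :
    (S.map (presheafToSheaf J AddCommGrpCat.{u})).Exact := by
  let P := presheafToSheaf J AddCommGrpCat.{u}
  let l : S.X₁ ⟶ kernel S.g := kernel.lift S.g S.f S.zero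
  let T : ShortComplex (Cᵒᵖ ⥤ AddCommGrpCat.{u}) := ShortComplex.mk (kernel.ι S.g) S.g (by simp)
  have hl : Presheaf.IsLocallySurjective J l := ⟨fun {V} k => by
    have hk : S.g.app (op V) ((kernel.ι S.g).app (op V) k) = 0 :=
      ConcreteCategory.congr_hom (NatTrans.congr_app (kernel.condition S.g) (op V)) k
    obtain ⟨R, hR, hR'⟩ := h V _ hk
    refine J.superset_covering ?_ hR
    intro W g hg
    obtain ⟨y, hy⟩ := hR' W g hg
    refine ⟨y, (AddCommGrpCat.mono_iff_injective ((kernel.ι S.g).app (op W))).1 inferInstance ?_⟩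
    exact (ConcreteCategory.congr_hom (NatTrans.congr_app (kernel.lift_ι S.g S.f S.zero) (op W))
      y).trans (hy.trans (ConcreteCategory.congr_hom ((kernel.ι S.g).naturality g.op) k).symm)⟩
  have : Epi (P.map l) := (Sheaf.isLocallySurjective_iff_epi' (A := AddCommGrpCat.{u}) _).1
    ((Presheaf.isLocallySurjective_presheafToSheaf_map_iff J l).2 hl)
  let φ : S.map P ⟶ T.map P :=
    { τ₁ := P.map l
      τ₂ := 𝟙 _
      τ₃ := 𝟙 _
      comm₁₂ := (P.map_comp _ _).symm.trans ((congrArg P.map (kernel.lift_ι S.g S.f S.zero)).trans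
        (Category.comp_id _).symm)
      comm₂₃ := (Category.id_comp _).trans (Category.comp_id _).symm }
  have : Epi φ.τ₁ := ‹Epi (P.map l)›
  have : IsIso φ.τ₂ := inferInstanceAs (IsIso (𝟙 _))
  have : Mono φ.τ₃ := inferInstanceAs (Mono (𝟙 _))
  exact (ShortComplex.exact_iff_of_epi_of_isIso_of_mono φ).2
    ((T.exact_of_f_is_kernel (kernelIsKernel _)).map P)

lemma finite_inter_mem {V : C} {α : Type u} {s : Set α} (hs : s.Finite) (R : α → Sieve V)
    (hR : ∀ x ∈ s, R x ∈ J V) :
    ∃ T ∈ J V, ∀ (W : C) (g : W ⟶ V), T g → ∀ x ∈ s, R x g := by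
  induction s, hs using Set.Finite.induction_on with
  | empty => exact ⟨⊤, J.top_mem V, fun _ _ _ x hx => hx.elim⟩
  | @insert a t _ _ ih =>
    obtain ⟨T, hT, hT'⟩ := ih fun x hx => hR x (Set.mem_insert_of_mem _ hx)
    exact ⟨R a ⊓ T, J.intersection_covering (hR a (Set.mem_insert _ _)) hT,
      fun W g hg x hx => hx.elim (fun e => e ▸ hg.1) (hT' W g hg.2 x)⟩

end Sheafify

variable (K : SimplicialObject (FormalCoproduct.{u} C))

section Cone

variable {V : C} (G : ∀ j : ℕ, Set (Pt V (K.obj (op ⦋j⦌))))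

/-- A cone with vertex `v` on the restrictions of the points in `G`, up to degree `k`. -/
structure IsCone (k : ℕ) {W : C} (g : W ⟶ V) (v : Pt W (K.obj (op ⦋0⦌)))
    (c : ∀ j, Pt V (K.obj (op ⦋j⦌)) → Pt W (K.obj (op ⦋j + 1⦌))) : Prop where
  face_zero : ∀ j ≤ k, ∀ x ∈ G j, c j x ≫ K.δ 0 = res g x
  vertex : ∀ x ∈ G 0, c 0 x ≫ K.δ (1 : Fin 2) = v
  face_succ : ∀ j < k, ∀ x ∈ G (j + 1), ∀ i, c (j + 1) x ≫ K.δ i.succ = c j (x ≫ K.δ i)

/-- The sieve where a cone exists. -/
def coneSieve (k : ℕ) : Sieve V where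
  arrows W g := ∃ v c, IsCone K G k (W := W) g v c
  downward_closed {W U g} := fun ⟨v, c, hc⟩ h => ⟨res h v, fun j x => res h (c j x),
    ⟨fun j hj x hx => by rw [Category.assoc, hc.face_zero j hj x hx, ← res_res],
      fun x hx => by rw [Category.assoc, hc.vertex x hx],
      fun j hj x hx i => by rw [Category.assoc, hc.face_succ j hj x hx i]⟩⟩

/-- An arbitrary point in positive degree given a point in degree zero. -/
abbrev degen {W : C} (v : Pt W (K.obj (op ⦋0⦌))) (j : ℕ) : Pt W (K.obj (op ⦋j⦌)) :=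
  v ≫ K.map (SimplexCategory.const ⦋j⦌ ⦋0⦌ 0).op

variable {K G}

open scoped Classical in
lemma coneSieve_mem (hK : LocFill J K) (hfin : ∀ j, (G j).Finite)
    (hG : ∀ j, ∀ x ∈ G (j + 1), ∀ i, x ≫ K.δ i ∈ G j) (k : ℕ) : coneSieve K G k ∈ J V := by
  induction k with
  | zero =>
    refine J.transitive (hK.zero V) _ fun W g ⟨v⟩ => ?_
    obtain ⟨T, hT, hT'⟩ := finite_inter_mem (hfin 0)
      (fun x => fillSieve K 0 ![res g x, v]) fun x _ => hK.fill 0 W _ (compat_zero K _)
    refine J.superset_covering ?_ hT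
    intro U h hh
    choose z hz using hT' U h hh
    refine ⟨res h v, fun j x => match j with
      | 0 => if hx : x ∈ G 0 then z x hx else degen K (res h v) 1
      | j + 1 => degen K (res h v) (j + 2), ⟨?_, ?_, fun j hj => absurd hj (Nat.not_lt_zero j)⟩⟩
    · intro j hj x hx
      obtain rfl := Nat.le_zero.1 hj
      simp only [dif_pos hx]
      exact (hz x hx 0).trans (res_res h g x)
    · intro x hx
      simp only [dif_pos hx]
      exact hz x hx 1
  | succ k ih =>
    refine J.transitive ih _ fun W g ⟨v, c, hc⟩ => ?_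
    let y (x : Pt V (K.obj (op ⦋k + 1⦌))) : Fin (k + 3) → Pt W (K.obj (op ⦋k + 1⦌)) :=
      Fin.cons (res g x) fun i => c k (x ≫ K.δ i)
    have hy : ∀ x ∈ G (k + 1), Compat K (k + 1) (y x) := by
      intro x hx
      refine compat_succ K k _ fun i j hij => ?_
      simp only [y, Fin.cons_succ]
      cases i using Fin.cases with
      | zero =>
        rw [Fin.castSucc_zero, Fin.cons_zero, hc.face_zero k le_rfl _ (hG k x hx j)]
        exact (Category.assoc _ _ _).symm
      | succ i =>
        cases j using Fin.cases with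
        | zero => exact absurd hij (by simp)
        | succ j =>
          rw [Fin.castSucc_succ, Fin.cons_succ]
          cases k with
          | zero =>
            obtain rfl : i = 0 := Subsingleton.elim (α := Fin 1) _ _
            obtain rfl : j = 0 := Subsingleton.elim (α := Fin 1) _ _
            exact (hc.vertex _ (hG 0 x hx _)).trans (hc.vertex _ (hG 0 x hx _)).symm
          | succ k =>
            rw [hc.face_succ k (Nat.lt_succ_self k) _ (hG _ x hx _),
              hc.face_succ k (Nat.lt_succ_self k) _ (hG _ x hx _), Category.assoc, Category.assoc,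
              K.δ_comp_δ (Fin.succ_le_succ_iff.1 hij)]
    obtain ⟨T, hT, hT'⟩ := finite_inter_mem (hfin (k + 1))
      (fun x => fillSieve K (k + 1) (y x)) fun x hx => hK.fill (k + 1) W _ (hy x hx)
    refine J.superset_covering ?_ hT
    intro U h hh
    choose z hz using hT' U h hh
    let c' : ∀ j, Pt V (K.obj (op ⦋j⦌)) → Pt U (K.obj (op ⦋j + 1⦌)) :=
      Function.update (fun j x => res h (c j x)) (k + 1)
        fun x => if hx : x ∈ G (k + 1) then z x hx else degen K (res h v) (k + 2)
    have h₁ : ∀ x (hx : x ∈ G (k + 1)), c' (k + 1) x = z x hx := fun x hx => by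
      simp [c', hx]
    have h₂ : ∀ j ≤ k, c' j = fun x => res h (c j x) := fun j hj =>
      Function.update_of_ne (by omega) _ _
    refine ⟨res h v, c', ⟨?_, ?_, ?_⟩⟩
    · intro j hj x hx
      rcases Nat.lt_or_eq_of_le hj with hj | rfl
      · rw [h₂ j (by omega), Category.assoc, hc.face_zero j (by omega) x hx, ← res_res]
      · rw [h₁ x hx, hz x hx 0, ← res_res]
        rfl
    · intro x hx
      rw [h₂ 0 (Nat.zero_le k), Category.assoc, hc.vertex x hx]
    · intro j hj x hx i
      rcases Nat.lt_or_eq_of_le (Nat.le_of_lt_succ hj) with hj' | rfl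
      · rw [h₂ (j + 1) hj', h₂ j hj'.le, Category.assoc, hc.face_succ j hj' x hx i]
      · rw [h₁ x hx, h₂ j le_rfl, hz x hx i.succ]
        simp [y]

/-- The faces of finitely many points. -/
lemma exists_closed {N : ℕ} {s : Set (Pt V (K.obj (op ⦋N⦌)))} (hs : s.Finite) :
    ∃ G : ∀ j, Set (Pt V (K.obj (op ⦋j⦌))), s ⊆ G N ∧ (∀ j, (G j).Finite) ∧
      ∀ j, ∀ x ∈ G (j + 1), ∀ i, x ≫ K.δ i ∈ G j := by
  refine ⟨fun j => Set.range fun p : (⦋j⦌ ⟶ ⦋N⦌) × s => p.2.1 ≫ K.map p.1.op,
    fun x hx => ⟨(𝟙 _, ⟨x, hx⟩), by simp⟩, fun j => ?_, ?_⟩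
  · have : Finite (⦋j⦌ ⟶ ⦋N⦌) := Finite.of_injective
      (fun θ => (⇑θ.toOrderHom : Fin (j + 1) → Fin (N + 1))) fun a b h => by
        ext k : 3
        exact congrFun h k
    have := hs.to_subtype
    exact Set.finite_range _
  · rintro j _ ⟨⟨θ, x⟩, rfl⟩ i
    exact ⟨(SimplexCategory.δ i ≫ θ, x), by simp [SimplicialObject.δ]⟩

end Cone

section Complex

/-- The simplicial presheaf of free abelian groups on the points. -/
noncomputable abbrev preSimp : SimplicialObject (Cᵒᵖ ⥤ AddCommGrpCat.{u}) :=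
  (K ⋙ pts) ⋙ (Functor.whiskeringRight _ _ _).obj AddCommGrpCat.free.{u}

/-- Its chain complex. -/
noncomputable abbrev preCx : ChainComplex (Cᵒᵖ ⥤ AddCommGrpCat.{u}) ℕ :=
  AlternatingFaceMapComplex.obj (preSimp K)

/-- The differential on sections. -/
noncomputable def D (V : C) (n : ℕ) :
    FreeAbelianGroup (Pt V (K.obj (op ⦋n + 1⦌))) →+ FreeAbelianGroup (Pt V (K.obj (op ⦋n⦌))) :=
  (((preCx K).d (n + 1) n).app (op V)).hom

lemma D_of (V : C) (n : ℕ) (x : Pt V (K.obj (op ⦋n + 1⦌))) :
    D K V n (FreeAbelianGroup.of x) = ∑ i : Fin (n + 2), (-1 : ℤ) ^ (i : ℕ) •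
      (FreeAbelianGroup.of (x ≫ K.δ i) : FreeAbelianGroup (Pt V (K.obj (op ⦋n⦌)))) := by
  let Φ : ((preCx K).X (n + 1) ⟶ (preCx K).X n) →+
      FreeAbelianGroup (Pt V (K.obj (op ⦋n⦌))) :=
    AddMonoidHom.mk' (fun m => m.app (op V) (FreeAbelianGroup.of x)) fun _ _ => rfl
  change Φ ((preCx K).d (n + 1) n) = _
  rw [AlternatingFaceMapComplex.obj_d_eq]
  erw [map_sum Φ]
  refine Finset.sum_congr rfl fun i _ => ?_
  erw [map_zsmul Φ]
  exact congrArg ((-1 : ℤ) ^ (i : ℕ) • ·) (FreeAbelianGroup.map_of_apply x)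

lemma exists_finite_mem_closure {α : Type u} (z : FreeAbelianGroup α) :
    ∃ s : Set α, s.Finite ∧ z ∈ AddSubgroup.closure (FreeAbelianGroup.of '' s) := by
  induction z using FreeAbelianGroup.induction_on with
  | zero => exact ⟨∅, Set.finite_empty, zero_mem _⟩
  | of x => exact ⟨{x}, Set.finite_singleton x, AddSubgroup.subset_closure ⟨x, rfl, rfl⟩⟩
  | neg x h =>
    obtain ⟨s, hs, hs'⟩ := h
    exact ⟨s, hs, neg_mem hs'⟩
  | add x y hx hy =>
    obtain ⟨s, hs, hs'⟩ := hx
    obtain ⟨t, ht, ht'⟩ := hy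
    exact ⟨s ∪ t, hs.union ht, add_mem
      (AddSubgroup.closure_mono (Set.image_mono Set.subset_union_left) hs')
      (AddSubgroup.closure_mono (Set.image_mono Set.subset_union_right) ht')⟩

variable {K}

/-- Cycles in positive degrees are locally boundaries. -/
lemma exists_local_boundary_succ (hK : LocFill J K) (n : ℕ) (V : C)
    (z : FreeAbelianGroup (Pt V (K.obj (op ⦋n + 1⦌)))) (hz : D K V n z = 0) :
    ∃ R ∈ J V, ∀ (W : C) (g : W ⟶ V), R g →
      ∃ y, D K W (n + 1) y = FreeAbelianGroup.map (res g) z := by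
  obtain ⟨s, hs, hzs⟩ := exists_finite_mem_closure z
  obtain ⟨G, hsG, hfin, hG⟩ := exists_closed (K := K) hs
  refine ⟨_, coneSieve_mem hK hfin hG (n + 1), ?_⟩
  rintro W g ⟨v, c, hc⟩
  refine ⟨FreeAbelianGroup.map (c (n + 1)) z, ?_⟩
  suffices key : ∀ w ∈ AddSubgroup.closure (FreeAbelianGroup.of '' s),
      D K W (n + 1) (FreeAbelianGroup.map (c (n + 1)) w) +
        FreeAbelianGroup.map (c n) (D K V n w) = FreeAbelianGroup.map (res g) w by
    have := key z hzs
    rwa [hz, map_zero, add_zero] at this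
  intro w hw
  induction hw using AddSubgroup.closure_induction with
  | zero => simp
  | neg w _ h => simp only [map_neg, ← h]; abel
  | add w w' _ _ h h' => simp only [map_add, ← h, ← h']; abel
  | mem w hw =>
    obtain ⟨x, hx, rfl⟩ := hw
    rw [FreeAbelianGroup.map_of_apply, FreeAbelianGroup.map_of_apply, D_of, D_of, map_sum,
      Fin.sum_univ_succ (n := n + 2), hc.face_zero (n + 1) le_rfl x (hsG hx), Fin.val_zero,
      pow_zero, one_zsmul, add_assoc, ← Finset.sum_add_distrib, Finset.sum_eq_zero, add_zero]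
    intro i _
    rw [map_zsmul, FreeAbelianGroup.map_of_apply, hc.face_succ n (Nat.lt_succ_self n) x (hsG hx) i,
      Fin.val_succ, pow_succ', neg_one_mul, neg_zsmul, neg_add_cancel]

/-- Augmented cycles in degree zero are locally boundaries. -/
lemma exists_local_boundary_zero (hK : LocFill J K) (V : C)
    (z : FreeAbelianGroup (Pt V (K.obj (op ⦋0⦌))))
    (hz : FreeAbelianGroup.map (fun _ => PUnit.unit.{u + 1}) z = 0) :
    ∃ R ∈ J V, ∀ (W : C) (g : W ⟶ V), R g →
      ∃ y, D K W 0 y = FreeAbelianGroup.map (res g) z := by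
  obtain ⟨s, hs, hzs⟩ := exists_finite_mem_closure z
  obtain ⟨G, hsG, hfin, hG⟩ := exists_closed (K := K) hs
  refine ⟨_, coneSieve_mem hK hfin hG 0, ?_⟩
  rintro W g ⟨v, c, hc⟩
  refine ⟨FreeAbelianGroup.map (c 0) z, ?_⟩
  suffices key : ∀ w ∈ AddSubgroup.closure (FreeAbelianGroup.of '' s),
      D K W 0 (FreeAbelianGroup.map (c 0) w) + FreeAbelianGroup.map (fun _ : PUnit.{u + 1} => v)
        (FreeAbelianGroup.map (fun _ => PUnit.unit.{u + 1}) w) =
          FreeAbelianGroup.map (res g) w by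
    have := key z hzs
    rwa [hz, map_zero, add_zero] at this
  intro w hw
  induction hw using AddSubgroup.closure_induction with
  | zero => simp
  | neg w _ h => simp only [map_neg, ← h]; abel
  | add w w' _ _ h h' => simp only [map_add, ← h, ← h']; abel
  | mem w hw =>
    obtain ⟨x, hx, rfl⟩ := hw
    simp only [FreeAbelianGroup.map_of_apply]
    rw [D_of, Fin.sum_univ_two, hc.face_zero 0 le_rfl x (hsG hx), hc.vertex x (hsG hx)]
    simp

variable (K)

/-- The augmentation. -/
noncomputable def preAug :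
    (preCx K).X 0 ⟶ (Functor.const Cᵒᵖ).obj (AddCommGrpCat.free.{u}.obj PUnit.{u + 1}) where
  app _ := AddCommGrpCat.free.{u}.map (TypeCat.ofHom fun _ => PUnit.unit)
  naturality V W g :=
    ((AddCommGrpCat.free.{u}.map_comp _ _).symm.trans (congrArg _ (by rfl))).trans
      (Category.comp_id _).symm

lemma d_preAug : (preCx K).d 1 0 ≫ preAug K = 0 := by
  ext V : 2
  refine AddCommGrpCat.hom_ext (AddMonoidHom.ext fun z => ?_)
  change FreeAbelianGroup.map (fun _ => PUnit.unit.{u + 1}) (D K V.unop 0 z) = 0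
  refine DFunLike.congr_fun (FreeAbelianGroup.lift_ext
    ((FreeAbelianGroup.map (fun _ => PUnit.unit.{u + 1})).comp (D K V.unop 0)) 0 fun x => ?_) z
  rw [AddMonoidHom.comp_apply, D_of, map_sum, Fin.sum_univ_two]
  simp

/-- The sheafified augmentation. -/
noncomputable abbrev shAug :
    (presheafToSheaf J AddCommGrpCat.{u}).obj ((preCx K).X 0) ⟶
      (constantSheaf J AddCommGrpCat.{u}).obj (AddCommGrpCat.free.{u}.obj PUnit.{u + 1}) :=
  (presheafToSheaf J AddCommGrpCat.{u}).map (preAug K)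

variable {K}

lemma exact_sh_succ (hK : LocFill J K) (n : ℕ) :
    ((ShortComplex.mk _ _ ((preCx K).d_comp_d (n + 2) (n + 1) n)).map
      (presheafToSheaf J AddCommGrpCat.{u})).Exact :=
  sheafify_exact _ fun V z hz => exists_local_boundary_succ hK n V z hz

lemma exact_sh_zero (hK : LocFill J K) :
    ((ShortComplex.mk _ _ (d_preAug K)).map (presheafToSheaf J AddCommGrpCat.{u})).Exact :=
  sheafify_exact _ fun V z hz => exists_local_boundary_zero hK V z hz

lemma epi_shAug (hK : LocFill J K) : Epi (shAug (J := J) K) := by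
  refine (Sheaf.isLocallySurjective_iff_epi' (A := AddCommGrpCat.{u}) _).1
    ((Presheaf.isLocallySurjective_presheafToSheaf_map_iff J (preAug K)).2 ⟨fun {V} a => ?_⟩)
  refine J.superset_covering ?_ (hK.zero V)
  rintro W g ⟨v⟩
  exact ⟨FreeAbelianGroup.map (fun _ : PUnit.{u + 1} => v) a,
    (FreeAbelianGroup.map_comp_apply _).symm.trans (FreeAbelianGroup.map_id_apply a)⟩

end Complex

end Groth.Agent.SiteCoh.Hyp
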