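import Groth.Agent.SiteCoh.ClosedPiece
import Groth.Agent.SiteCoh.HyperCone
import Mathlib.AlgebraicTopology.AlternatingFaceMapComplex
import Mathlib.Topology.LocallyFinite

/-!
# The resolution of a sheaf by its restrictions to a locally finite closed covering
-/

set_option autoImplicit false

universe u

open CategoryTheory CategoryTheory.Limits Opposite TopologicalSpace AlgebraicTopology TopCat
open scoped Simplicial

namespace Groth.Agent.SiteCoh.Closed

variable {X : TopCat.{u}}

section Local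

/-- A complex of sheaves is exact if cycles are locally boundaries. -/
lemma exact_of_local (S : ShortComplex (CohTop.Ab X))
    (h : ∀ (V : Opens X) (c : S.X₂.obj.obj (op V)), S.g.hom.app (op V) c = 0 → ∀ x ∈ V,
      ∃ (W : Opens X) (i : W ⟶ V) (_ : x ∈ W) (y : S.X₁.obj.obj (op W)),
        S.f.hom.app (op W) y = S.X₂.obj.map i.op c) : S.Exact := by
  let J := Opens.grothendieckTopology X
  let e : ∀ M : CohTop.Ab X, (presheafToSheaf J AddCommGrpCat.{u}).obj M.obj ≅ M :=
    fun M => asIso ((sheafificationAdjunction J AddCommGrpCat.{u}).counit.app M)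
  refine (ShortComplex.exact_iff_of_iso ?_).1
    (Hyp.sheafify_exact (J := J) (S.map (sheafToPresheaf J AddCommGrpCat.{u})) fun V c hc => ?_)
  · exact ShortComplex.isoMk (e _) (e _) (e _)
      ((sheafificationAdjunction J AddCommGrpCat.{u}).counit.naturality S.f).symm
      ((sheafificationAdjunction J AddCommGrpCat.{u}).counit.naturality S.g).symm
  · refine ⟨⟨fun W g => ∃ y, S.f.hom.app (op W) y = S.X₂.obj.map g.op c, ?_⟩, ?_,
      fun W g hg => hg⟩
    · rintro W W' g ⟨y, hy⟩ g'
      refine ⟨S.X₁.obj.map g'.op y, ?_⟩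
      rw [op_comp, S.X₂.obj.map_comp]
      exact (ConcreteCategory.congr_hom (S.f.hom.naturality g'.op) y).trans
        (congrArg (S.X₂.obj.map g'.op) hy)
    · intro x hx
      obtain ⟨W, i, hW, y, hy⟩ := h V c hc x hx
      exact ⟨W, i, ⟨y, hy⟩, hW⟩

/-- A common neighbourhood for finitely many points of view. -/
lemma exists_nhd {α : Type*} {s : Set α} (hs : s.Finite) {x : X} {V : Opens X} (hx : x ∈ V)
    (W : α → Opens X) (hW : ∀ a ∈ s, x ∈ W a) :
    ∃ W' : Opens X, x ∈ W' ∧ W' ≤ V ∧ ∀ a ∈ s, W' ≤ W a := by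
  induction s, hs using Set.Finite.induction_on with
  | empty => exact ⟨V, hx, le_rfl, fun a ha => ha.elim⟩
  | @insert a t _ _ ih =>
    obtain ⟨W', h₁, h₂, h₃⟩ := ih fun b hb => hW b (Set.mem_insert_of_mem _ hb)
    exact ⟨W a ⊓ W', ⟨hW a (Set.mem_insert _ _), h₁⟩, inf_le_right.trans h₂,
      fun b hb => hb.elim (fun e => e ▸ inf_le_left) fun hb => inf_le_right.trans (h₃ b hb)⟩

end Local

variable {I : Type u} (U : I → Set X) (F : CohTop.Ab X)

/-- The intersection of the members of a tuple. -/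
abbrev piece {p : ℕ} (σ : Fin (p + 1) → I) : Set X := ⋂ k, U (σ k)

lemma piece_comp_subset {p q : ℕ} (σ : Fin (q + 1) → I) (θ : Fin (p + 1) → Fin (q + 1)) :
    piece U σ ⊆ piece U (σ ∘ θ) := fun _ hx =>
  Set.mem_iInter.2 fun k => Set.mem_iInter.1 hx (θ k)

lemma clMap_ext {Z₁ Z₂ : Set X} (h₁ : IsClosed Z₁) {g g' : clRes Z₁ F ⟶ clRes Z₂ F}
    (h : clUnit Z₁ F ≫ g = clUnit Z₁ F ≫ g') : g = g' :=
  haveI := epi_clUnit F h₁
  (cancel_epi _).1 h

section

variable {U} (hU : ∀ i, IsClosed (U i))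

include hU in
lemma isClosed_piece {p : ℕ} (σ : Fin (p + 1) → I) : IsClosed (piece U σ) :=
  isClosed_iInter fun k => hU (σ k)

/-- The cosimplicial sheaf of the restrictions. -/
noncomputable def cosimp : CosimplicialObject (CohTop.Ab X) where
  obj a := ∏ᶜ fun σ : Fin (a.len + 1) → I => clRes (piece U σ) F
  map {a b} θ := Pi.lift fun σ => Pi.π (fun τ : Fin (a.len + 1) → I => clRes (piece U τ) F)
      (σ ∘ θ.toOrderHom) ≫
    clMap F (isClosed_piece hU _) (isClosed_piece hU σ) (piece_comp_subset U σ _)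
  map_id a := Pi.hom_ext _ _ fun σ => by
    rw [Pi.lift_π, Category.id_comp]
    refine Eq.trans ?_ (Category.comp_id _)
    exact congrArg (_ ≫ ·) (clMap_ext F (isClosed_piece hU σ)
      ((clUnit_clMap F _ _ _).trans (Category.comp_id _).symm))
  map_comp {a b c} θ θ' := Pi.hom_ext _ _ fun σ => by
    rw [Pi.lift_π, Category.assoc, Pi.lift_π, ← Category.assoc, Pi.lift_π, Category.assoc]
    refine congrArg (Pi.π (fun τ : Fin (a.len + 1) → I => clRes (piece U τ) F) _ ≫ ·)
      (clMap_ext F (isClosed_piece hU _) ?_)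
    exact (clUnit_clMap F _ _ _).trans (((Category.assoc _ _ _).symm.trans
      ((congrArg (· ≫ _) (clUnit_clMap F _ _ _)).trans (clUnit_clMap F _ _ _))).symm)

/-- The complex of the restrictions. -/
noncomputable abbrev resCx : CochainComplex (CohTop.Ab X) ℕ :=
  (alternatingCofaceMapComplex (CohTop.Ab X)).obj (cosimp F hU)

/-- The augmentation. -/
noncomputable def resAug : F ⟶ (resCx F hU).X 0 :=
  Pi.lift fun σ => clUnit (piece U σ) F

/-- The components of a section of the product. -/
noncomputable def comp {p : ℕ} {V : Opens X} (σ : Fin (p + 1) → I) :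
    ((resCx F hU).X p).obj.obj (op V) →+ (clRes (piece U σ) F).obj.obj (op V) :=
  ((Pi.π (fun τ : Fin (p + 1) → I => clRes (piece U τ) F) σ).hom.app (op V)).hom

lemma comp_map {p : ℕ} {V W : Opens X} (i : W ⟶ V) (σ : Fin (p + 1) → I)
    (c : ((resCx F hU).X p).obj.obj (op V)) :
    comp F hU σ (((resCx F hU).X p).obj.map i.op c) =
      (clRes (piece U σ) F).obj.map i.op (comp F hU σ c) :=
  ConcreteCategory.congr_hom
    ((Pi.π (fun τ : Fin (p + 1) → I => clRes (piece U τ) F) σ).hom.naturality i.op) c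

lemma comp_ext {p : ℕ} {V : Opens X} {c c' : ((resCx F hU).X p).obj.obj (op V)}
    (h : ∀ σ, comp F hU σ c = comp F hU σ c') : c = c' :=
  Concrete.isLimit_ext _ (isLimitOfPreserves (sectionsAt (Opens.grothendieckTopology X) V)
    (productIsProduct fun τ : Fin (p + 1) → I => clRes (piece U τ) F)) c c' fun ⟨σ⟩ => h σ

open scoped Classical in
/-- The inclusion of a factor. -/
noncomputable def single {p : ℕ} (τ : Fin (p + 1) → I) :
    clRes (piece U τ) F ⟶ (resCx F hU).X p :=
  Pi.lift fun σ =>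
    if h : τ = σ then eqToHom (congrArg (fun t => clRes (piece U t) F) h) else 0

open scoped Classical in
lemma comp_single {p : ℕ} {V : Opens X} (τ σ : Fin (p + 1) → I)
    (a : (clRes (piece U τ) F).obj.obj (op V)) :
    comp F hU σ ((single F hU τ).hom.app (op V) a) =
      if h : τ = σ then (eqToHom (congrArg (fun t => clRes (piece U t) F) h)).hom.app (op V) a
      else 0 := by
  refine (ConcreteCategory.congr_hom (NatTrans.congr_app (congrArg InducedCategory.Hom.hom
    (Pi.lift_π (f := fun t : Fin (p + 1) → I => clRes (piece U t) F) (fun σ =>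
      if h : τ = σ then eqToHom (congrArg (fun t => clRes (piece U t) F) h) else 0) σ)) (op V)) a).trans ?_
  split_ifs <;> rfl

lemma comp_d {p : ℕ} {V : Opens X} (σ : Fin (p + 2) → I)
    (c : ((resCx F hU).X p).obj.obj (op V)) :
    comp F hU σ (((resCx F hU).d p (p + 1)).hom.app (op V) c) =
      ∑ k : Fin (p + 2), (-1 : ℤ) ^ (k : ℕ) •
        (clMap F (isClosed_piece hU _) (isClosed_piece hU σ)
          (piece_comp_subset U σ k.succAbove)).hom.app (op V) (comp F hU (σ ∘ k.succAbove) c) := by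
  let Φ : ((resCx F hU).X p ⟶ (resCx F hU).X (p + 1)) →+
      (clRes (piece U σ) F).obj.obj (op V) :=
    AddMonoidHom.mk' (fun f => comp F hU σ (f.hom.app (op V) c))
      fun f g => map_add (comp F hU σ) _ _
  change Φ ((resCx F hU).d p (p + 1)) = _
  have e : (resCx F hU).d p (p + 1) = AlternatingCofaceMapComplex.objD (cosimp F hU) p := by
    show (AlternatingCofaceMapComplex.obj (cosimp F hU)).d p (p + 1) = _
    dsimp only [AlternatingCofaceMapComplex.obj]
    exact CochainComplex.of_d _ _ p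
  rw [e, AlternatingCofaceMapComplex.objD]
  erw [map_sum Φ]
  refine Finset.sum_congr rfl fun k _ => ?_
  erw [map_zsmul Φ]
  refine congrArg ((-1 : ℤ) ^ (k : ℕ) • ·) ?_
  exact ConcreteCategory.congr_hom (NatTrans.congr_app (congrArg InducedCategory.Hom.hom
    (Pi.lift_π (f := fun t : Fin (p + 2) → I => clRes (piece U t) F)
      (fun τ => Pi.π (fun t : Fin (p + 1) → I => clRes (piece U t) F) (τ ∘ k.succAbove) ≫
        clMap F (isClosed_piece hU _) (isClosed_piece hU τ)
          (piece_comp_subset U τ k.succAbove)) σ)) (op V)) c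

lemma comp_resAug {V : Opens X} (σ : Fin 1 → I) (s : F.obj.obj (op V)) :
    comp F hU σ ((resAug F hU).hom.app (op V) s) = (clUnit (piece U σ) F).hom.app (op V) s :=
  ConcreteCategory.congr_hom (NatTrans.congr_app (congrArg InducedCategory.Hom.hom
    (Pi.lift_π (fun σ : Fin 1 → I => clUnit (piece U σ) F) σ)) (op V)) s

lemma resAug_d : resAug F hU ≫ (resCx F hU).d 0 1 = 0 := by
  ext V s
  refine comp_ext F hU fun σ => ?_
  refine (comp_d F hU σ _).trans ?_
  rw [Fin.sum_univ_two]
  have h (k : Fin 2) : (clMap F (isClosed_piece hU _) (isClosed_piece hU σ)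
      (piece_comp_subset U σ k.succAbove)).hom.app V
        (comp F hU (σ ∘ k.succAbove) ((resAug F hU).hom.app V s)) =
      (clUnit (piece U σ) F).hom.app V s := by
    refine (congrArg _ (comp_resAug F hU (V := V.unop) _ s)).trans ?_
    exact ConcreteCategory.congr_hom (NatTrans.congr_app (congrArg InducedCategory.Hom.hom
      (clUnit_clMap F (isClosed_piece hU _) (isClosed_piece hU σ)
        (piece_comp_subset U σ k.succAbove))) V) s
  refine (congrArg₂ (· + ·) (congrArg _ (h 0)) (congrArg _ (h 1))).trans ?_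
  refine Eq.trans ?_ (map_zero (comp F hU (V := V.unop) σ)).symm
  simp

/-- The augmentation as a morphism of complexes. -/
noncomputable def resπ : (CochainComplex.single₀ _).obj F ⟶ resCx F hU :=
  (CochainComplex.fromSingle₀Equiv _ F).symm ⟨resAug F hU, resAug_d F hU⟩

section Stalks

/-- The stalk of a sheaf. -/
noncomputable abbrev stk (M : CohTop.Ab X) (x : X) : AddCommGrpCat.{u} :=
  TopCat.Presheaf.stalk (C := AddCommGrpCat.{u}) M.obj x

/-- The map on stalks. -/
noncomputable def st {M N : CohTop.Ab X} (f : M ⟶ N) (x : X) : stk M x ⟶ stk N x :=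
  (TopCat.Presheaf.stalkFunctor AddCommGrpCat.{u} x).map f.hom

lemma st_germ {M N : CohTop.Ab X} (f : M ⟶ N) {V : Opens X} {x : X} (hx : x ∈ V)
    (s : M.obj.obj (op V)) :
    st f x (TopCat.Presheaf.germ M.obj V x hx s) =
      TopCat.Presheaf.germ N.obj V x hx (f.hom.app (op V) s) :=
  TopCat.Presheaf.stalkFunctor_map_germ_apply V x hx f.hom s

lemma st_comp {M N P : CohTop.Ab X} (f : M ⟶ N) (g : N ⟶ P) (x : X) :
    st (f ≫ g) x = st f x ≫ st g x :=
  (TopCat.Presheaf.stalkFunctor AddCommGrpCat.{u} x).map_comp f.hom g.hom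

lemma isIso_st_clUnit (Z : Set X) {x : X} (h : x ∈ Z) : IsIso (st (clUnit Z F) x) :=
  isIso_stalk_clUnit Z F ⟨x, h⟩

variable {x : X}

open scoped Classical in
/-- The value at `x` of a component. -/
noncomputable def val {p : ℕ} {V : Opens X} (hx : x ∈ V) (σ : Fin (p + 1) → I)
    (c : ((resCx F hU).X p).obj.obj (op V)) : stk F x :=
  if h : x ∈ piece U σ then
    haveI := isIso_st_clUnit F (piece U σ) h
    inv (st (clUnit (piece U σ) F) x)
      (TopCat.Presheaf.germ (clRes (piece U σ) F).obj V x hx (comp F hU σ c))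
  else 0

lemma map_val {p : ℕ} {V : Opens X} (hx : x ∈ V) (σ : Fin (p + 1) → I) (h : x ∈ piece U σ)
    (c : ((resCx F hU).X p).obj.obj (op V)) :
    st (clUnit (piece U σ) F) x (val F hU hx σ c) =
      TopCat.Presheaf.germ (clRes (piece U σ) F).obj V x hx (comp F hU σ c) := by
  have := isIso_st_clUnit F (piece U σ) h
  simp only [val, dif_pos h]
  exact ConcreteCategory.congr_hom (IsIso.inv_hom_id (st (clUnit (piece U σ) F) x)) _

lemma st_injective {p : ℕ} (σ : Fin (p + 1) → I) (h : x ∈ piece U σ) :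
    Function.Injective (st (clUnit (piece U σ) F) x) :=
  haveI := isIso_st_clUnit F (piece U σ) h
  (AddCommGrpCat.mono_iff_injective _).1 inferInstance

lemma val_zero {p : ℕ} {V : Opens X} (hx : x ∈ V) (σ : Fin (p + 1) → I) :
    val F hU hx σ (0 : ((resCx F hU).X p).obj.obj (op V)) = 0 := by
  simp only [val, map_zero]
  split_ifs <;> rfl

lemma val_map {p : ℕ} {V W : Opens X} (i : W ⟶ V) (hx : x ∈ W) (σ : Fin (p + 1) → I)
    (c : ((resCx F hU).X p).obj.obj (op V)) :
    val F hU hx σ (((resCx F hU).X p).obj.map i.op c) = val F hU (i.le hx) σ c := by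
  simp only [val]
  split_ifs
  · rw [comp_map, TopCat.Presheaf.germ_res_apply]
  · rfl

lemma val_d {p : ℕ} {V : Opens X} (hx : x ∈ V) (σ : Fin (p + 2) → I) (h : x ∈ piece U σ)
    (c : ((resCx F hU).X p).obj.obj (op V)) :
    val F hU hx σ (((resCx F hU).d p (p + 1)).hom.app (op V) c) =
      ∑ k : Fin (p + 2), (-1 : ℤ) ^ (k : ℕ) • val F hU hx (σ ∘ k.succAbove) c := by
  apply st_injective F σ h
  rw [map_val F hU hx σ h, comp_d, map_sum, map_sum]
  refine Finset.sum_congr rfl fun k _ => ?_
  rw [map_zsmul, map_zsmul]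
  refine congrArg ((-1 : ℤ) ^ (k : ℕ) • ·) ?_
  rw [← st_germ, ← map_val F hU hx _ (piece_comp_subset U σ _ h) c, ← ConcreteCategory.comp_apply,
    ← st_comp, clUnit_clMap]

lemma val_resAug {V : Opens X} (hx : x ∈ V) (σ : Fin 1 → I) (h : x ∈ piece U σ)
    (s : F.obj.obj (op V)) :
    val F hU hx σ ((resAug F hU).hom.app (op V) s) = TopCat.Presheaf.germ F.obj V x hx s := by
  apply st_injective F σ h
  rw [map_val F hU hx σ h, comp_resAug, st_germ]

variable (hlf : LocallyFinite U)

include hlf in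
lemma finite_pieces (x : X) (p : ℕ) : {σ : Fin (p + 1) → I | x ∈ piece U σ}.Finite :=
  (Set.Finite.pi' fun _ => hlf.point_finite x).subset fun _ hσ k => Set.mem_iInter.1 hσ k

include hU hlf in
lemma exists_adapted {V : Opens X} (hx : x ∈ V) :
    ∃ (W : Opens X), x ∈ W ∧ W ≤ V ∧ ∀ i, x ∉ U i → ∀ y ∈ W, y ∉ U i := by
  have h : IsClosed (⋃ i : {i // x ∉ U i}, U i.1) :=
    (hlf.comp_injective Subtype.val_injective).isClosed_iUnion fun i => hU i.1
  refine ⟨V ⊓ ⟨_, h.isOpen_compl⟩, ⟨hx, ?_⟩, inf_le_left, fun i hi y hy hy' =>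
    hy.2 (Set.mem_iUnion.2 ⟨⟨i, hi⟩, hy'⟩)⟩
  intro hmem
  obtain ⟨i, hi⟩ := Set.mem_iUnion.1 hmem
  exact i.2 hi

include hlf in
lemma exists_eq_of_val_eq {p : ℕ} {V : Opens X} (hx : x ∈ V)
    (hV : ∀ i, x ∉ U i → ∀ y ∈ V, y ∉ U i) (c c' : ((resCx F hU).X p).obj.obj (op V))
    (h : ∀ σ, x ∈ piece U σ → val F hU hx σ c = val F hU hx σ c') :
    ∃ (W : Opens X) (i : W ⟶ V) (_ : x ∈ W),
      ((resCx F hU).X p).obj.map i.op c = ((resCx F hU).X p).obj.map i.op c' := by
  have key : ∀ σ : {σ : Fin (p + 1) → I // x ∈ piece U σ}, ∃ (W : Opens X) (i : W ⟶ V), x ∈ W ∧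
      (clRes (piece U σ.1) F).obj.map i.op (comp F hU σ.1 c) =
        (clRes (piece U σ.1) F).obj.map i.op (comp F hU σ.1 c') := by
    rintro ⟨σ, hσ⟩
    obtain ⟨W, hW, i, i', e⟩ := TopCat.Presheaf.germ_eq (clRes (piece U σ) F).obj x hx hx
      (comp F hU σ c) (comp F hU σ c') ((map_val F hU hx σ hσ c).symm.trans
        ((congrArg _ (h σ hσ)).trans (map_val F hU hx σ hσ c')))
    exact ⟨W, i, hW, e⟩
  choose W i hW he using key
  have : Finite {σ : Fin (p + 1) → I // x ∈ piece U σ} := (finite_pieces hlf x p).to_subtype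
  obtain ⟨W', h₁, h₂, h₃⟩ := exists_nhd Set.finite_univ hx W fun a _ => hW a
  refine ⟨W', homOfLE h₂, h₁, comp_ext F hU fun σ => ?_⟩
  rw [comp_map, comp_map]
  by_cases hσ : x ∈ piece U σ
  · have e : (homOfLE h₂ : W' ⟶ V) = homOfLE (h₃ ⟨σ, hσ⟩ (Set.mem_univ _)) ≫ i ⟨σ, hσ⟩ := rfl
    rw [e, op_comp, Functor.map_comp, ConcreteCategory.comp_apply, ConcreteCategory.comp_apply,
      he ⟨σ, hσ⟩]
  · obtain ⟨k, hk⟩ := not_forall.1 fun hh => hσ (Set.mem_iInter.2 hh)
    have hz : ∀ y ∈ W', y ∉ piece U σ := fun y hy hy' =>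
      hV _ hk y (h₂ hy) (Set.mem_iInter.1 hy' k)
    rw [eq_zero_of_disjoint F hz ((clRes (piece U σ) F).obj.map (homOfLE h₂).op (comp F hU σ c)),
      eq_zero_of_disjoint F hz ((clRes (piece U σ) F).obj.map (homOfLE h₂).op (comp F hU σ c'))]

include hlf in
open scoped Classical in
lemma exists_of_val {p : ℕ} {V : Opens X} (hx : x ∈ V)
    (w : (Fin (p + 1) → I) → stk F x) :
    ∃ (W : Opens X) (_ : W ⟶ V) (hW : x ∈ W) (y : ((resCx F hU).X p).obj.obj (op W)),
      ∀ σ, x ∈ piece U σ → val F hU hW σ y = w σ := by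
  choose W hW t ht using fun τ => TopCat.Presheaf.exists_germ_eq F.obj (w τ)
  obtain ⟨W', h₁, h₂, h₃⟩ := exists_nhd (finite_pieces hlf x p) hx W fun a _ => hW a
  let T := (finite_pieces hlf x p).toFinset
  have hT : ∀ τ ∈ T, W' ≤ W τ := fun τ hτ => h₃ τ ((Set.Finite.mem_toFinset _).1 hτ)
  let term (τ : T) : ((resCx F hU).X p).obj.obj (op W') :=
    (single F hU τ.1).hom.app (op W') ((clUnit (piece U τ.1) F).hom.app (op W')
      (F.obj.map (homOfLE (hT τ.1 τ.2)).op (t τ.1)))
  refine ⟨W', homOfLE h₂, h₁, ∑ τ, term τ, fun σ hσ => ?_⟩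
  apply st_injective F σ hσ
  rw [map_val F hU h₁ σ hσ, map_sum, Finset.sum_eq_single
    (⟨σ, (Set.Finite.mem_toFinset _).2 hσ⟩ : T)]
  · rw [comp_single, dif_pos rfl]
    refine Eq.trans (st_germ (clUnit (piece U σ) F) h₁
      (F.obj.map (homOfLE (hT σ ((Set.Finite.mem_toFinset _).2 hσ))).op (t σ))).symm ?_
    rw [TopCat.Presheaf.germ_res_apply]
    exact congrArg _ (ht σ)
  · intro τ _ hne
    rw [comp_single, dif_neg (fun e => hne (Subtype.ext e))]
  · exact fun h => absurd (Finset.mem_univ _) h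

include hlf in
lemma exact_resCx_succ (p : ℕ) :
    (ShortComplex.mk _ _ ((resCx F hU).d_comp_d p (p + 1) (p + 2))).Exact := by
  refine exact_of_local _ fun V c hc x hx => ?_
  obtain ⟨V', hx', hle, hV⟩ := exists_adapted hU hlf hx
  let c' := ((resCx F hU).X (p + 1)).obj.map (homOfLE hle).op c
  by_cases hex : ∃ i₀, x ∈ U i₀
  · obtain ⟨i₀, hi₀⟩ := hex
    obtain ⟨W, j, hW, y, hy⟩ := exists_of_val F hU hlf hx'
      fun τ => val F hU hx' (Fin.cons i₀ τ) c'
    let c'' := ((resCx F hU).X (p + 1)).obj.map j.op c'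
    have hd : ∀ σ, x ∈ piece U σ →
        ∑ k : Fin (p + 3), (-1 : ℤ) ^ (k : ℕ) • val F hU hx' (σ ∘ k.succAbove) c' = 0 := by
      intro σ hσ
      have h0 : ((resCx F hU).d (p + 1) (p + 2)).hom.app (op V') c' = 0 :=
        (ConcreteCategory.congr_hom
          (((resCx F hU).d (p + 1) (p + 2)).hom.naturality (homOfLE hle).op) c).trans
          ((congrArg _ hc).trans
            (map_zero (((resCx F hU).X (p + 2)).obj.map (homOfLE hle).op).hom))
      have h0' := val_d F hU hx' σ hσ c'
      rw [h0] at h0'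
      exact h0'.symm.trans (val_zero F hU hx' σ)
    obtain ⟨W', k, hW', e⟩ := exists_eq_of_val_eq F hU hlf hW
      (fun i hi y hy' => hV i hi y (j.le hy'))
      (((resCx F hU).d p (p + 1)).hom.app (op W) y) c'' fun σ hσ => by
        have hc'' : val F hU hW σ c'' = val F hU hx' σ c' := val_map F hU j hW σ c'
        rw [val_d F hU hW σ hσ, hc'']
        have hcons : x ∈ piece U (Fin.cons i₀ σ : Fin (p + 3) → I) :=
          Set.mem_iInter.2 fun k => by
            cases k using Fin.cases with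
            | zero => simpa using hi₀
            | succ k => simpa using Set.mem_iInter.1 hσ k
        have h1 := hd (Fin.cons i₀ σ) hcons
        rw [Fin.sum_univ_succ] at h1
        simp only [Fin.val_zero, pow_zero, one_zsmul, Fin.succAbove_zero] at h1
        have e0 : (Fin.cons i₀ σ : Fin (p + 3) → I) ∘ Fin.succ = σ := Fin.cons_comp_succ _ _
        rw [e0] at h1
        rw [eq_neg_of_add_eq_zero_left h1, ← Finset.sum_neg_distrib]
        refine Finset.sum_congr rfl fun k _ => ?_
        rw [hy _ (piece_comp_subset U σ k.succAbove hσ), Fin.val_succ, pow_succ', neg_one_mul,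
          neg_zsmul, neg_neg]
        refine congrArg (fun τ => (-1 : ℤ) ^ (k : ℕ) • val F hU hx' τ c') ?_
        funext l
        cases l using Fin.cases with
        | zero => simp [Fin.succ_succAbove_zero]
        | succ l => simp [Fin.succ_succAbove_succ]
    refine ⟨W', k ≫ j ≫ homOfLE hle, hW', ((resCx F hU).X p).obj.map k.op y, ?_⟩
    refine (ConcreteCategory.congr_hom (((resCx F hU).d p (p + 1)).hom.naturality k.op) y).trans
      (e.trans ?_)
    simp only [c'', c', op_comp, Functor.map_comp, ConcreteCategory.comp_apply]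
  · refine ⟨V', homOfLE hle, hx', 0, ?_⟩
    rw [map_zero]
    refine (comp_ext F hU fun σ => ?_).symm
    rw [map_zero]
    exact eq_zero_of_disjoint F (fun y hy hy' => hV _ (fun h => hex ⟨σ 0, h⟩) y hy
      (Set.mem_iInter.1 hy' 0)) _

variable (hcov : ⋃ i, U i = Set.univ)

include hcov in
lemma mono_resAug : Mono (resAug F hU) := by
  have : Mono (resAug F hU).hom := by
    have : ∀ V, Mono ((resAug F hU).hom.app V) := fun V => (AddCommGrpCat.mono_iff_injective _).2 <|
      (injective_iff_map_eq_zero _).2 fun s hs => TopCat.Presheaf.section_ext F V.unop s 0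
        fun x hx => by
          obtain ⟨i, hi⟩ := Set.mem_iUnion.1 (hcov.symm ▸ Set.mem_univ x)
          have hσ : x ∈ piece U (fun _ : Fin 1 => i) := Set.mem_iInter.2 fun _ => hi
          refine (val_resAug F hU hx _ hσ s).symm.trans ?_
          rw [hs, map_zero]
          exact val_zero F hU hx _
    exact NatTrans.mono_of_mono_app _
  exact (sheafToPresheaf _ _).mono_of_mono_map this

include hlf hcov in
lemma exact_resAug : (ShortComplex.mk _ _ (resAug_d F hU)).Exact := by
  refine exact_of_local _ fun V c hc x hx => ?_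
  obtain ⟨V', hx', hle, hV⟩ := exists_adapted hU hlf hx
  obtain ⟨i₀, hi₀⟩ := Set.mem_iUnion.1 (hcov.symm ▸ Set.mem_univ x)
  let c' := ((resCx F hU).X 0).obj.map (homOfLE hle).op c
  obtain ⟨W, hW, t, ht⟩ := TopCat.Presheaf.exists_germ_eq F.obj
    (val F hU hx' (fun _ : Fin 1 => i₀) c')
  let W₁ : Opens X := V' ⊓ W
  let t' : F.obj.obj (op W₁) := F.obj.map (homOfLE inf_le_right).op t
  obtain ⟨W', k, hW', e⟩ := exists_eq_of_val_eq F hU hlf (V := W₁) ⟨hx', hW⟩
    (fun i hi y hy => hV i hi y hy.1) ((resAug F hU).hom.app (op W₁) t')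
    (((resCx F hU).X 0).obj.map (homOfLE inf_le_left).op c') fun σ hσ => by
      refine ((val_resAug F hU (V := W₁) ⟨hx', hW⟩ σ hσ t').trans
        (TopCat.Presheaf.germ_res_apply _ _ _ _ _)).trans ?_
      refine Eq.trans ?_ (val_map F hU (W := W₁) (homOfLE inf_le_left) ⟨hx', hW⟩ σ c').symm
      refine ht.trans ?_
      have h0 : ((resCx F hU).d 0 1).hom.app (op V') c' = 0 :=
        (ConcreteCategory.congr_hom
          (((resCx F hU).d 0 1).hom.naturality (homOfLE hle).op) c).trans
          ((congrArg _ hc).trans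
            (map_zero (((resCx F hU).X 1).obj.map (homOfLE hle).op).hom))
      have hcons : x ∈ piece U (![i₀, σ 0] : Fin 2 → I) := Set.mem_iInter.2 fun k => by
        fin_cases k
        · exact hi₀
        · exact Set.mem_iInter.1 hσ 0
      have h1 := val_d F hU hx' _ hcons c'
      rw [h0, Fin.sum_univ_two] at h1
      have e0 : (![i₀, σ 0] : Fin 2 → I) ∘ (0 : Fin 2).succAbove = σ := by
        funext l; obtain rfl : l = 0 := Subsingleton.elim _ _; rfl
      have e1 : (![i₀, σ 0] : Fin 2 → I) ∘ (1 : Fin 2).succAbove = fun _ : Fin 1 => i₀ := by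
        funext l; obtain rfl : l = 0 := Subsingleton.elim _ _; rfl
      rw [e0, e1] at h1
      rw [val_zero] at h1
      simp at h1
      exact (eq_of_sub_eq_zero (by simpa [sub_eq_add_neg] using h1.symm)).symm
  refine ⟨W', k ≫ homOfLE inf_le_left ≫ homOfLE hle, hW', F.obj.map k.op t', ?_⟩
  refine (ConcreteCategory.congr_hom ((resAug F hU).hom.naturality k.op) t').trans (e.trans ?_)
  simp only [c', op_comp, Functor.map_comp, ConcreteCategory.comp_apply]

include hlf hcov in
lemma quasiIso_resπ : QuasiIso (resπ F hU) := by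
  constructor
  intro n
  cases n with
  | zero =>
    rw [CochainComplex.quasiIsoAt₀_iff, ShortComplex.quasiIso_iff_of_zeros]
    · refine ⟨?_, ?_⟩
      · refine (ShortComplex.exact_iff_of_iso ?_).2 (exact_resAug F hU hlf hcov)
        exact ShortComplex.isoMk (Iso.refl _) (Iso.refl _) (Iso.refl _)
          (by simp [resπ, CochainComplex.fromSingle₀Equiv]
              exact (Category.id_comp _).trans (Category.comp_id _).symm)
          ((Category.id_comp _).trans (Category.comp_id _).symm)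
      · have := mono_resAug F hU hcov
        simp [resπ, CochainComplex.fromSingle₀Equiv]
        exact this
    all_goals rfl
  | succ n =>
    rw [quasiIsoAt_iff_exactAt]
    · rw [HomologicalComplex.exactAt_iff' _ n (n + 1) (n + 2) (by simp) (by simp)]
      exact exact_resCx_succ F hU hlf n
    · exact CochainComplex.exactAt_succ_single_obj _ _

end Stalks

end

end Groth.Agent.SiteCoh.Closed
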