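import Groth.Agent.SiteCoh.LocalHomeoCoh
import Groth.Agent.SiteCoh.TotallyAcyclic
import Groth.Agent.SpecSeq.Bicomplex
import Groth.Agent.SpecSeq.CochainFunctor
import Groth.Prelude.Def_SpSeq

/-!
# Descent along a surjective local homeomorphism
-/

set_option autoImplicit false

universe u

open CategoryTheory CategoryTheory.Limits Opposite TopologicalSpace AlgebraicTopology
open scoped Simplicial

namespace Groth.Agent.SiteCoh.LH

variable {S X Y Y' : TopCat.{u}}

/-- Functoriality of the sheaf of sections. -/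
noncomputable def secMap {a : Y ⟶ S} {a' : Y' ⟶ S} (p : Y ⟶ Y') (h : p ≫ a' = a) :
    secSheaf a ⊤ ⟶ secSheaf a' ⊤ :=
  ⟨{ app := fun _ => TypeCat.ofHom fun s =>
      ⟨fun x => p (s.1 x), p.hom.continuous.comp s.2.1, fun x =>
        ⟨(ConcreteCategory.congr_hom h (s.1 x)).trans (s.2.2 x).1, trivial⟩⟩ }⟩

lemma sval_secMap {a : Y ⟶ S} {a' : Y' ⟶ S} (p : Y ⟶ Y') (h : p ≫ a' = a) {U : Opens S}
    (s : (secSheaf a ⊤).obj.obj (op U)) (x : U) :
    sval ((secMap p h).hom.app (op U) s) x = p (sval s x) := rfl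

variable (f : X ⟶ S)

/-- The morphism from the sheaf of sections of `f` to that of the identity. -/
noncomputable abbrev descMor : secSheaf f ⊤ ⟶ secSheaf (𝟙 S) ⊤ :=
  secMap f (Category.comp_id f)

variable {f} in
lemma epi_descMor (hf : IsLocalHomeomorph f) (hsurj : Function.Surjective f) : Epi (descMor f) := by
  rw [← Sheaf.isLocallySurjective_iff_epi]
  refine ⟨fun {U} t x hx => ?_⟩
  obtain ⟨y, rfl⟩ := hsurj x
  obtain ⟨V, s, ⟨⟨z, hzV⟩, hz⟩⟩ := exists_sec_through hf ⊤ y trivial
  have hzy : z = f y := ((congrArg f hz).symm.trans (app_sval s _)).symm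
  refine ⟨V ⊓ U, Opens.infLERight V U,
    ⟨(secSheaf f ⊤).obj.map (Opens.infLELeft V U).op s, ?_⟩, ⟨hzy ▸ hzV, hx⟩⟩
  refine sval_ext fun w => ?_
  exact (app_sval _ w).trans (app_sval (a := 𝟙 S)
    ((secSheaf (𝟙 S) ⊤).obj.map (Opens.infLERight V U).op t) w).symm

variable (n : ℕ)

/-- Sections of the fibre power as a point of the Cech nerve. -/
noncomputable def powToNerve :
    secSheaf (powBase f n) ⊤ ⟶ (Arrow.mk (descMor f)).cechNerve.obj (op ⦋n⦌) :=
  WidePullback.lift (secMap (powBase f n) (Category.comp_id _))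
    (fun i => secMap (WidePullback.π (fun _ : Fin (n + 1) => f) i)
      (WidePullback.π_arrow (fun _ : Fin (n + 1) => f) i))
    fun i => by
      ext U s
      exact sval_ext fun x => app_pow f n i _

lemma proj_powToNerve (V : (Opens S)ᵒᵖ) (s : (secSheaf (powBase f n) ⊤).obj.obj V)
    (i : Fin (n + 1)) :
    Nerve.proj (descMor f) V i ((powToNerve f n).hom.app V s) =
      (secMap (WidePullback.π (fun _ : Fin (n + 1) => f) i)
        (WidePullback.π_arrow (fun _ : Fin (n + 1) => f) i)).hom.app V s :=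
  ConcreteCategory.congr_hom (NatTrans.congr_app (congrArg InducedCategory.Hom.hom
    (WidePullback.lift_π (fun _ : Fin (n + 1) => descMor f) (secMap (powBase f n) (Category.comp_id _))
      (fun i => secMap (WidePullback.π (fun _ : Fin (n + 1) => f) i)
        (WidePullback.π_arrow (fun _ : Fin (n + 1) => f) i))
      (fun i => by ext U t; exact sval_ext fun x => app_pow f n i _) i)) V) s

lemma bijective_powToNerve (V : (Opens S)ᵒᵖ) :
    Function.Bijective ((powToNerve f n).hom.app V) := by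
  refine ⟨fun s t h => sval_ext fun x => pow_ext fun i => ?_, fun x => ?_⟩
  · have h' := congrArg (Nerve.proj (descMor f) V i) h
    rw [proj_powToNerve, proj_powToNerve] at h'
    exact congrArg (fun r => sval r x) h'
  · let l : TopCat.of ↥(V.unop : Opens S) ⟶ widePullback S (fun _ : Fin (n + 1) => X) (fun _ => f) :=
      WidePullback.lift (Opens.inclusion' V.unop) (fun i => sfun (Nerve.proj (descMor f) V i x))
        fun i => sfun_comp _
    refine ⟨⟨l, l.hom.continuous, fun z => ⟨?_, trivial⟩⟩, Nerve.ext' _ _ fun i => ?_⟩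
    · exact ConcreteCategory.congr_hom (WidePullback.lift_base (fun _ : Fin (n + 1) => f)
        (Opens.inclusion' (V.unop : Opens S)) _ _) z
    · refine (proj_powToNerve f n V _ i).trans ?_
      refine sval_ext fun z => ?_
      exact ConcreteCategory.congr_hom (WidePullback.lift_π (fun _ : Fin (n + 1) => f)
        (Opens.inclusion' (V.unop : Opens S)) _ _ i) z

/-- The terms of the Cech nerve are the sheaves of sections of the fibre powers. -/
noncomputable def powNerveIso :
    secSheaf (powBase f n) ⊤ ≅ (Arrow.mk (descMor f)).cechNerve.obj (op ⦋n⦌) :=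
  haveI : IsIso (powToNerve f n) := by
    have : ∀ V, IsIso (((sheafToPresheaf _ _).map (powToNerve f n)).app V) := fun V =>
      (isIso_iff_bijective _).2 (bijective_powToNerve f n V)
    have : IsIso ((sheafToPresheaf _ _).map (powToNerve f n)) := NatIso.isIso_of_isIso_app _
    exact isIso_of_reflects_iso (powToNerve f n) (sheafToPresheaf _ _)
  asIso (powToNerve f n)

end Groth.Agent.SiteCoh.LH

namespace Groth.Agent.SiteCoh

section

variable {C : Type u} [SmallCategory C] {J : GrothendieckTopology C}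
variable {K' K : Sheaf J (Type u)} (f : K' ⟶ K)

/-- The Cech complex of an epimorphism of sheaves of sets, as a functor of the coefficients. -/
noncomputable def nerveCxFunctor : Sheaf J AddCommGrpCat.{u} ⥤ CochainComplex AddCommGrpCat.{u} ℕ :=
  preadditiveYoneda ⋙
    (Functor.whiskeringLeft _ _ AddCommGrpCat.{u}).obj
      ((Arrow.mk f).cechNerve.rightOp ⋙ (Nerve.freeSh J).op) ⋙
    alternatingCofaceMapComplex AddCommGrpCat.{u}

instance nerveCxFunctor_additive : (nerveCxFunctor f).Additive where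
  map_add {F G a b} := by
    ext n x
    exact (Preadditive.comp_add _ _ _ x a b)

/-- The terms of the Cech complex. -/
noncomputable def nerveCxDegIso (p : ℕ) :
    SpecSeq.degComp (nerveCxFunctor f) p ≅
      SpecSeq.homFrom ((Nerve.freeSh J).obj ((Arrow.mk f).cechNerve.obj (op ⦋p⦌))) :=
  NatIso.ofComponents (fun _ => Iso.refl _) fun _ => rfl

variable [Epi f]

lemma isZero_nerveCxFunctor_homology (Q : Sheaf J AddCommGrpCat.{u}) [Injective Q] (q : ℕ) :
    IsZero (((nerveCxFunctor f).obj Q).homology (q + 1)) :=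
  isZero_cechNerveCx_of_isTotallyAcyclic f (isTotallyAcyclic_of_injective Q) q

open Nerve in
/-- `H^0` of the Cech complex. -/
noncomputable def augApp (F : Sheaf J AddCommGrpCat.{u}) :
    (SpecSeq.homFrom ((freeSh J).obj K)).obj F ⟶ ((nerveCxFunctor f).obj F).X 0 :=
  AddCommGrpCat.ofHom (AddMonoidHom.mk' (fun x : (freeSh J).obj K ⟶ F => aug f ≫ x)
    fun _ _ => Preadditive.comp_add _ _ _ _ _ _)

open Nerve in
omit [Epi f] in
lemma augApp_d (F : Sheaf J AddCommGrpCat.{u}) :
    augApp f F ≫ ((nerveCxFunctor f).obj F).d 0 1 = 0 := by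
  ext x
  refine (cechNerveCx_d f F 0 _).trans ?_
  refine (Category.assoc _ _ _).symm.trans ?_
  exact (congrArg (fun m => m ≫ (x : (freeSh J).obj K ⟶ F)) (d_aug f)).trans zero_comp

open Nerve in
lemma bijective_augApp (F : Sheaf J AddCommGrpCat.{u}) :
    Function.Injective (augApp f F) ∧
      ∀ y, ((nerveCxFunctor f).obj F).d 0 1 y = 0 → ∃ x, augApp f F x = y := by
  have := epi_aug f
  refine ⟨fun x y h => (cancel_epi (aug f)).1 h, fun y hy => ?_⟩
  obtain ⟨x, hx⟩ := CokernelCofork.IsColimit.desc' (exact_zero f).gIsCokernel y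
    ((cechNerveCx_d f F 0 y).symm.trans hy)
  exact ⟨x, hx⟩

instance isIso_liftCycles_augApp (F : Sheaf J AddCommGrpCat.{u}) :
    IsIso (((nerveCxFunctor f).obj F).liftCycles (augApp f F) 1 (by simp) (augApp_d f F)) := by
  refine (ConcreteCategory.isIso_iff_bijective _).2 ⟨fun x y h => ?_, fun z => ?_⟩
  · refine (bijective_augApp f F).1 ?_
    have h' := congrArg (fun t => ((nerveCxFunctor f).obj F).iCycles 0 t) h
    simp only [← ConcreteCategory.comp_apply, HomologicalComplex.liftCycles_i] at h'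
    exact h'
  · obtain ⟨x, hx⟩ := (bijective_augApp f F).2 (((nerveCxFunctor f).obj F).iCycles 0 z)
      (by rw [← ConcreteCategory.comp_apply, HomologicalComplex.iCycles_d]; rfl)
    refine ⟨x, (AddCommGrpCat.mono_iff_injective (((nerveCxFunctor f).obj F).iCycles 0)).1
      inferInstance ?_⟩
    rw [← ConcreteCategory.comp_apply, HomologicalComplex.liftCycles_i]
    exact hx

lemma liftCycles_augApp_naturality {F G : Sheaf J AddCommGrpCat.{u}} (φ : F ⟶ G) :
    ((nerveCxFunctor f).obj F).liftCycles (augApp f F) 1 (by simp) (augApp_d f F) ≫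
        HomologicalComplex.cyclesMap ((nerveCxFunctor f).map φ) 0 =
      (SpecSeq.homFrom ((Nerve.freeSh J).obj K)).map φ ≫
        ((nerveCxFunctor f).obj G).liftCycles (augApp f G) 1 (by simp) (augApp_d f G) := by
  rw [← cancel_mono (((nerveCxFunctor f).obj G).iCycles 0), Category.assoc, Category.assoc,
    HomologicalComplex.cyclesMap_i, HomologicalComplex.liftCycles_i,
    HomologicalComplex.liftCycles_i_assoc]
  ext x
  exact Category.assoc (Nerve.aug f) (x : (Nerve.freeSh J).obj K ⟶ F) φ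

/-- `H^0` of the Cech complex of an epimorphism. -/
noncomputable def nerveCxHZeroIso :
    nerveCxFunctor f ⋙ SpecSeq.hZero AddCommGrpCat.{u} ≅
      SpecSeq.homFrom ((Nerve.freeSh J).obj K) :=
  NatIso.ofComponents (fun F =>
      ((nerveCxFunctor f).obj F).isoHomologyπ₀.symm ≪≫
        (@asIso _ _ _ _ (((nerveCxFunctor f).obj F).liftCycles (augApp f F) 1 (by simp)
          (augApp_d f F)) (isIso_liftCycles_augApp f F)).symm)
    (fun {F G} φ => by
      change HomologicalComplex.homologyMap ((nerveCxFunctor f).map φ) 0 ≫ _ ≫ _ =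
        (_ ≫ _) ≫ (SpecSeq.homFrom ((Nerve.freeSh J).obj K)).map φ
      simp only [Iso.symm_hom, asIso_inv, Category.assoc]
      refine (CochainComplex.isoHomologyπ₀_inv_naturality_assoc _ _).trans ?_
      refine congrArg (fun m => _ ≫ m) ?_
      rw [IsIso.comp_inv_eq, Category.assoc, ← liftCycles_augApp_naturality,
        IsIso.inv_hom_id_assoc])

end

/-- An isomorphism of the source. -/
noncomputable def homFromCongr {A : Type*} [Category A] [Abelian A] {P P' : A} (e : P ≅ P') :
    SpecSeq.homFrom P ≅ SpecSeq.homFrom P' :=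
  NatIso.ofComponents
    (fun F => (AddEquiv.mk' (show (P ⟶ F) ≃ (P' ⟶ F) from e.homCongr (Iso.refl F)) fun a b => by
      simp [Iso.homCongr]).toAddCommGrpIso)
    fun {F G} φ => by
      ext x
      change e.inv ≫ (x ≫ φ) ≫ 𝟙 G = (e.inv ≫ x ≫ 𝟙 F) ≫ φ
      exact congrArg (fun m => e.inv ≫ m) ((Category.comp_id _).trans
        (congrArg (fun m => m ≫ φ) (Category.comp_id _).symm)) |>.trans (Category.assoc _ _ _).symm

end Groth.Agent.SiteCoh

namespace Groth.Agent.SiteCoh.LH

variable {S X : TopCat.{u}}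

/-- The inverse image along the identity. -/
noncomputable def pullIdIso : CohTop.pull (𝟙 S) ≅ 𝟭 (CohTop.Ab S) :=
  Adjunction.leftAdjointUniq (TopCat.Sheaf.pullbackPushforwardAdjunction AddCommGrpCat.{u} (𝟙 S))
    (Adjunction.id.ofNatIsoRight (NatIso.ofComponents (fun _ => Iso.refl _) fun _ => rfl))

/-- The descent spectral sequence of a surjective local homeomorphism. -/
theorem exists_descent {f : X ⟶ S} (hf : IsLocalHomeomorph f) (hsurj : Function.Surjective f)
    (F : CohTop.Ab S) {H : ℤ → AddCommGrpCat.{u}} {E1 : ℤ → ℤ → AddCommGrpCat.{u}}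
    (eH : ∀ n : ℕ, Nonempty (AddCommGrpCat.of (CohTop.H F n) ≅ H n))
    (zH : ∀ n : ℤ, n < 0 → IsZero (H n))
    (eX : ∀ p q : ℕ, Nonempty (AddCommGrpCat.of (CohTop.H ((CohTop.pull (powBase f p)).obj F) q) ≅
      E1 p q))
    (zX : ∀ p q : ℤ, ¬ (0 ≤ p ∧ 0 ≤ q) → IsZero (E1 p q)) :
    ∃ (E : CohomologicalSpectralSequence AddCommGrpCat.{u} 1) (a : SpSeq.Abutment E H),
      (∀ n, a.IsFinite n) ∧ SpSeq.IsBounded E ∧
      ∀ p q : ℤ, Nonempty ((E.page 1 le_rfl).X (p, q) ≅ E1 p q) := by
  have := epi_descMor hf hsurj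
  refine SpecSeq.exists_complexFunctor_pageOne (nerveCxFunctor (descMor f))
    (fun Q hQ q => isZero_nerveCxFunctor_homology (descMor f) Q q) F (fun n => ?_) zH
    (fun p q => ?_) zX
  · obtain ⟨e⟩ := nonempty_h_pull_iso (a := 𝟙 S) (Homeomorph.refl S).isLocalHomeomorph F n
    obtain ⟨e'⟩ := eH n
    exact ⟨(rightDerivedCongr (nerveCxHZeroIso (descMor f)) n).app F ≪≫ e.symm ≪≫
      (hUTopEquiv _ n).symm.toAddCommGrpIso ≪≫ (sectionsAtDerivedIso ⊤ _ n).symm ≪≫
      ((sectionsAt (Opens.grothendieckTopology S) (⊤ : Opens S)).rightDerived n).mapIso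
        (pullIdIso.app F) ≪≫ sectionsAtDerivedIso ⊤ _ n ≪≫
      (hUTopEquiv _ n).toAddCommGrpIso ≪≫ e'⟩
  · obtain ⟨e⟩ := nonempty_h_pull_iso (isLocalHomeomorph_powBase p hf) F q
    obtain ⟨e'⟩ := eX p q
    exact ⟨(rightDerivedCongr (nerveCxDegIso (descMor f) p ≪≫
      homFromCongr ((Nerve.freeSh _).mapIso (powNerveIso f p).symm)) q).app F ≪≫ e.symm ≪≫ e'⟩

end Groth.Agent.SiteCoh.LH
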