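import Groth.Agent.SiteCoh.ProperCxStalk
import Groth.Agent.SpecSeq.ResolutionMap

/-!
# Base change for the Cech complex of a proper map
-/

set_option autoImplicit false

universe u

open CategoryTheory CategoryTheory.Limits Opposite TopologicalSpace
open scoped Simplicial

namespace Groth.Agent.SiteCoh.PFam

open Groth.Agent.SiteCoh.Fam Groth.Agent.SiteCoh.LH Groth.Agent.SiteCoh.Compact

variable {X S : TopCat.{u}} (f : X ⟶ S)

/-- Restriction to a space followed by that to a fibre. -/
noncomputable abbrev memFib (s : S) (k : Option (Option ℕ)) :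
    BigSh f ⥤ CohTop.Ab (TopCat.of (ta f k ⁻¹' {s})) :=
  restr (withBaseMap (pY f) (pa f)) (mem k) ⋙ CohTop.pull (inc f s k)

/-- The comparison with the restriction to the fibre. -/
noncomputable def fibTrans (s : S) (k : Option (Option ℕ)) :
    memFib f s k ⟶ restr (withBaseMap (pY f) (pa f)) (fib s k) :=
  restrTrans (a := withBaseMap (pY f) (pa f)) (i := fib s k) (j := mem k) (inc f s k) rfl

variable {f}
variable (hf : IsProperSep f)

include hf in
lemma isIso_stalkToFibre_app (s : S) (k : Option (Option ℕ)) (G : BigSh f) :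
    IsIso (stalkToFibre (ta f k) s ((restr (withBaseMap (pY f) (pa f)) (mem k)).obj G)) :=
  (ConcreteCategory.isIso_iff_bijective _).2
    (bijective_stalkToFibre s (isProperSep_ta hf k).proper (isProperSep_ta hf k).sep _)

variable {F : CohTop.Ab S} (R : InjectiveResolution ((big (pY f) (pa f)).obj F))

include hf in
lemma quasiIso_rho (s : S) (k : Option (Option ℕ)) :
    QuasiIso ((NatTrans.mapHomologicalComplex (rho f s k) _).app R.cocomplex) := by
  let Γ := sectionsAt (Opens.grothendieckTopology (TopCat.of (ta f k ⁻¹' {s}))) (⊤ : Opens (TopCat.of (ta f k ⁻¹' {s})))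
  have := LH.pull_preservesFiniteColimits (a := inc f s k)
  have := LH.pull_additive (a := inc f s k)
  have hg : IsCompactSub (inc f s k) :=
    isCompactSub_fibIncl s (isProperSep_ta hf k).proper (isProperSep_ta hf k).sep
  have : IsIso ((fibTrans f s k).app ((big (pY f) (pa f)).obj F)) :=
    isIso_restrTrans_big (Z := pY f) (b := pa f) (i := fib s k) (j := mem k) (inc f s k) rfl F
  have := pull_preservesFiniteLimits (inc f s k)
  have := restr_preservesFiniteColimits (a := withBaseMap (pY f) (pa f)) (fib s k)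
  have := restr_preservesFiniteColimits (a := withBaseMap (pY f) (pa f)) (mem k)
  have : PreservesFiniteLimits (memFib f s k) :=
    comp_preservesFiniteLimits (restr (withBaseMap (pY f) (pa f)) (mem k)) (CohTop.pull (inc f s k))
  have : PreservesFiniteColimits (memFib f s k) :=
    comp_preservesFiniteColimits (restr (withBaseMap (pY f) (pa f)) (mem k)) (CohTop.pull (inc f s k))
  have hθ : QuasiIso ((NatTrans.mapHomologicalComplex (fibTrans f s k) _).app R.cocomplex) :=
    SpecSeq.quasiIso_natTrans_resolution (fibTrans f s k) R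
  have hφ : QuasiIso ((Γ.mapHomologicalComplex _).map
      ((NatTrans.mapHomologicalComplex (fibTrans f s k) _).app R.cocomplex)) := by
    refine SpecSeq.quasiIso_map_of_acyclic Γ _ (fun i q hq => ?_) (fun i q hq => ?_)
    · obtain ⟨j, rfl⟩ := Nat.exists_eq_succ_of_ne_zero hq.ne'
      have := R.injective i
      have : TopCat.Sheaf.IsFlasque ((restr (withBaseMap (pY f) (pa f)) (mem k)).obj (R.cocomplex.X i)) :=
        isFlasque_restr (mem k) (R.cocomplex.X i)
      have := subsingleton_HU_pull hg ((restr (withBaseMap (pY f) (pa f)) (mem k)).obj (R.cocomplex.X i)) j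
      exact (AddCommGrpCat.isZero_of_subsingleton (AddCommGrpCat.of
        (CohTop.HU ((CohTop.pull (inc f s k)).obj ((restr (withBaseMap (pY f) (pa f)) (mem k)).obj (R.cocomplex.X i))) (j + 1) ⊤))).of_iso (LH.sectionsAtDerivedIso ⊤ _ _)
    · obtain ⟨j, rfl⟩ := Nat.exists_eq_succ_of_ne_zero hq.ne'
      have := R.injective i
      have : TopCat.Sheaf.IsFlasque ((restr (withBaseMap (pY f) (pa f)) (fib s k)).obj (R.cocomplex.X i)) :=
        isFlasque_restr (fib s k) (R.cocomplex.X i)
      have := subsingleton_HU_of_isFlasque ((restr (withBaseMap (pY f) (pa f)) (fib s k)).obj (R.cocomplex.X i)) ⊤ j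
      exact (AddCommGrpCat.isZero_of_subsingleton (AddCommGrpCat.of
        (CohTop.HU ((restr (withBaseMap (pY f) (pa f)) (fib s k)).obj (R.cocomplex.X i)) (j + 1) ⊤))).of_iso
          (LH.sectionsAtDerivedIso ⊤ _ _)
  let ψ : ((pushMem f k ⋙ stalkSh s).mapHomologicalComplex _).obj R.cocomplex ⟶
      (Γ.mapHomologicalComplex _).obj (((memFib f s k).mapHomologicalComplex _).obj R.cocomplex) :=
    { f := fun i => stalkToFibre (ta f k) s ((restr (withBaseMap (pY f) (pa f)) (mem k)).obj (R.cocomplex.X i))
      comm' := fun i j _ => ((stalkPushIso s (isProperSep_ta hf k).proper (isProperSep_ta hf k).sep).hom.naturality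
        ((restr (withBaseMap (pY f) (pa f)) (mem k)).map (R.cocomplex.d i j))).symm }
  have hψ : ∀ i, IsIso (ψ.f i) := fun i => isIso_stalkToFibre_app hf s k (R.cocomplex.X i)
  have : IsIso ψ := HomologicalComplex.Hom.isIso_of_components ψ
  have e : (NatTrans.mapHomologicalComplex (rho f s k) _).app R.cocomplex = ψ ≫ (Γ.mapHomologicalComplex _).map
      ((NatTrans.mapHomologicalComplex (fibTrans f s k) _).app R.cocomplex) := by
    ext i : 1
    rfl
  rw [e]
  exact @quasiIso_comp _ _ _ _ _ _ _ _ ψ _ _ _ _ inferInstance hφ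

include hf in
lemma quasiIso_degMap_tau (s : S) (p : ℕ) :
    QuasiIso ((NatTrans.mapHomologicalComplex (SpecSeq.degMap (tau f s) p) _).app R.cocomplex) := by
  have e : SpecSeq.degMap (tau f s) p =
      (Functor.whiskerRight (cxSheafDegIso f p).hom (stalkSh s) ≫ rho f s (some (some p))) ≫
        (powDegIso (isPow_fib f s p)).inv := by
    ext G : 2
    exact ((cancel_mono ((powDegIso (isPow_fib f s p)).app G).hom).1
      ((tau_f_eq f s G p).trans (Eq.symm ((Category.assoc _ _ _).trans
        ((congrArg (fun m => _ ≫ m) ((powDegIso (isPow_fib f s p)).app G).inv_hom_id).trans (Category.comp_id _))))))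
  have e2 : (NatTrans.mapHomologicalComplex (SpecSeq.degMap (tau f s) p) (ComplexShape.up ℕ)).app R.cocomplex =
      ((NatTrans.mapHomologicalComplex (Functor.whiskerRight (cxSheafDegIso f p).hom (stalkSh s))
          (ComplexShape.up ℕ)).app R.cocomplex ≫
        (NatTrans.mapHomologicalComplex (rho f s (some (some p))) (ComplexShape.up ℕ)).app R.cocomplex) ≫
        (NatTrans.mapHomologicalComplex (powDegIso (isPow_fib f s p)).inv (ComplexShape.up ℕ)).app R.cocomplex := by
    ext i : 1
    exact NatTrans.congr_app e (R.cocomplex.X i)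
  rw [e2]
  have h1 : IsIso ((NatTrans.mapHomologicalComplex
      (Functor.whiskerRight (cxSheafDegIso f p).hom (stalkSh s)) (ComplexShape.up ℕ)).app R.cocomplex) :=
    ((NatIso.mapHomologicalComplex (Functor.isoWhiskerRight (cxSheafDegIso f p) (stalkSh s)) _).app
      R.cocomplex).isIso_hom
  have h3 : IsIso ((NatTrans.mapHomologicalComplex
      (powDegIso (isPow_fib f s p)).inv (ComplexShape.up ℕ)).app R.cocomplex) :=
    ((NatIso.mapHomologicalComplex (powDegIso (isPow_fib f s p)) _).app R.cocomplex).isIso_inv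
  have h2 := quasiIso_rho hf R s (some (some p))
  have q1 := @quasiIso_of_isIso _ _ _ _ _ _ _ _ h1 inferInstance inferInstance
  have q3 := @quasiIso_of_isIso _ _ _ _ _ _ _ _ h3 inferInstance inferInstance
  exact @quasiIso_comp _ _ _ _ _ _ _ _ _ _ _ _ _
    (@quasiIso_comp _ _ _ _ _ _ _ _ _ _ _ _ _ q1 h2) q3

lemma isZero_cxStalk_homology (s : S) (Q : BigSh f) [Injective Q] (r : ℕ) :
    IsZero (((cxStalk f s).obj Q).homology (r + 1)) := by
  rw [← HomologicalComplex.exactAt_iff_isZero_homology,
    HomologicalComplex.exactAt_iff' _ r (r + 1) (r + 2) (by simp) (by simp),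
    ShortComplex.ab_exact_iff]
  intro (a : TopCat.Presheaf.stalk (C := AddCommGrpCat.{u}) (X := S) (preX f Q (r + 1)) s) ha
  obtain ⟨U, hU, (x : (Nerve.freeCx (srcArr f U)).X (r + 1) ⟶ Q), rfl⟩ :=
    TopCat.Presheaf.exists_germ_eq (preX f Q (r + 1)) a
  let d := fun (a b : ℕ) => (((cxSheaf f).obj Q).d a b).hom
  have ha' : TopCat.Presheaf.germ (preX f Q (r + 2)) U s hU ((d (r + 1) (r + 2)).app (op U) x) =
      TopCat.Presheaf.germ (preX f Q (r + 2)) U s hU 0 := by
    refine ((TopCat.Presheaf.stalkFunctor_map_germ_apply (F := preX f Q (r + 1)) (G := preX f Q (r + 2))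
      U s hU (d (r + 1) (r + 2)) x).symm.trans ha).trans
      (map_zero (TopCat.Presheaf.germ (C := AddCommGrpCat.{u}) (preX f Q (r + 2)) U s hU).hom).symm
  obtain ⟨W, hW, i, j, e⟩ := TopCat.Presheaf.germ_eq (preX f Q (r + 2)) s hU hU _ _ ha'
  let x' : (Nerve.freeCx (srcArr f W)).X (r + 1) ⟶ Q := (preX f Q (r + 1)).map i.op x
  have hx' : (Nerve.freeCx (srcArr f W)).d (r + 2) (r + 1) ≫ x' = 0 := by
    refine (cechNerveCx_d (srcArr f W) Q (r + 1) x').symm.trans ?_
    exact (NatTrans.naturality_apply (d (r + 1) (r + 2)) i.op x).trans (e.trans (map_zero _))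
  obtain ⟨y, hy⟩ := exists_d_comp_eq (srcArr f W) Q r x' hx'
  refine ⟨TopCat.Presheaf.germ (preX f Q r) W s hW y, ?_⟩
  refine (TopCat.Presheaf.stalkFunctor_map_germ_apply (F := preX f Q r) (G := preX f Q (r + 1))
      W s hW (d r (r + 1)) y).trans ?_
  refine (congrArg (TopCat.Presheaf.germ (preX f Q (r + 1)) W s hW)
    ((cechNerveCx_d (srcArr f W) Q r y).trans hy)).trans ?_
  exact TopCat.Presheaf.germ_res_apply (preX f Q (r + 1)) i s hW x

end Groth.Agent.SiteCoh.PFam
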