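import Groth.Agent.SiteCoh.ProperStalk
import Mathlib.Topology.Category.TopCat.Limits.Pullbacks

/-!
# Proper base change in topology
-/

set_option autoImplicit false

universe u

open CategoryTheory CategoryTheory.Limits Opposite TopologicalSpace

namespace Groth.Agent.SiteCoh.Compact

open Pull

variable {X Z : TopCat.{u}}

section Transpose

variable (k : Z ⟶ X) {F : CohTop.Ab X} {M : CohTop.Ab Z} (φ : F ⟶ (CohTop.push k).obj M)

/-- The map out of the inverse image associated with a map into a direct image. -/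
noncomputable def transpose : (CohTop.pull k).obj F ⟶ M :=
  ((TopCat.Sheaf.pullbackPushforwardAdjunction AddCommGrpCat.{u} k).homEquiv F M).symm φ

lemma unit_transpose : unit k F ≫ (CohTop.push k).map (transpose k φ) = φ :=
  ((TopCat.Sheaf.pullbackPushforwardAdjunction AddCommGrpCat.{u} k).homEquiv_unit _ _ _).symm.trans
    (Equiv.apply_symm_apply _ φ)

lemma stalk_transpose {z : Z} {U : Opens X} (hU : k z ∈ U) (t : F.obj.obj (op U)) :
    (TopCat.Presheaf.stalkFunctor AddCommGrpCat.{u} z).map (transpose k φ).hom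
        (germMap k F z (germ F hU t)) =
      germ M (U := (Opens.map k).obj U) hU (φ.hom.app (op U) t) := by
  refine (congrArg _ (germMap_germ k F hU t)).trans ?_
  refine (TopCat.Presheaf.stalkFunctor_map_germ_apply ((Opens.map k).obj U) z hU _ _).trans ?_
  exact congrArg (germ M (U := (Opens.map k).obj U) hU) (ConcreteCategory.congr_hom
    (NatTrans.congr_app (congrArg InducedCategory.Hom.hom (unit_transpose k φ)) (op U)) t)

end Transpose

section Comp

variable {W : TopCat.{u}} (b : W ⟶ Z) (a : Z ⟶ X) (F : CohTop.Ab X)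

/-- The unit for the iterated inverse image. -/
noncomputable def unitTwo :
    F ⟶ (CohTop.push (b ≫ a)).obj ((CohTop.pull b).obj ((CohTop.pull a).obj F)) :=
  unit a F ≫ (CohTop.push a).map (unit b ((CohTop.pull a).obj F))

lemma stalk_compHom (w : W) (s : stk F (a (b w))) :
    (TopCat.Presheaf.stalkFunctor AddCommGrpCat.{u} w).map
        (transpose (b ≫ a) (unitTwo b a F)).hom (germMap (b ≫ a) F w s) =
      germMap b _ w (germMap a F (b w) s) := by
  obtain ⟨U, hU, t, rfl⟩ := TopCat.Presheaf.exists_germ_eq F.obj s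
  refine (stalk_transpose (b ≫ a) (unitTwo b a F) hU t).trans ?_
  refine Eq.trans ?_ (congrArg (germMap b _ w) (germMap_germ a F hU t)).symm
  exact (germMap_germ b ((CohTop.pull a).obj F) (U := (Opens.map a).obj U) hU _).symm

lemma isIso_compHom : IsIso (transpose (b ≫ a) (unitTwo b a F)) := by
  have : ∀ w : W, IsIso ((TopCat.Presheaf.stalkFunctor AddCommGrpCat.{u} w).map
      (transpose (b ≫ a) (unitTwo b a F)).hom) := fun w => by
    rw [ConcreteCategory.isIso_iff_bijective]
    refine (Function.Bijective.of_comp_iff _ (bijective_germMap (b ≫ a) F w)).1 ?_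
    exact (congrArg Function.Bijective (funext (stalk_compHom b a F w))).mpr
      ((bijective_germMap b _ w).comp (bijective_germMap a F (b w)))
  exact TopCat.Presheaf.isIso_of_stalkFunctor_map_iso _

/-- Inverse images compose. -/
noncomputable def compIso :
    (CohTop.pull (b ≫ a)).obj F ≅ (CohTop.pull b).obj ((CohTop.pull a).obj F) :=
  @asIso _ _ _ _ _ (isIso_compHom b a F)

lemma compIso_restrTop {O : Opens X} (h : ∀ w : W, (b ≫ a) w ∈ O) (t : F.obj.obj (op O)) :
    (compIso b a F).hom.hom.app (op ⊤) (restrTop (b ≫ a) F O h t) =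
      restrTop b ((CohTop.pull a).obj F) ((Opens.map a).obj O) h ((unit a F).hom.app (op O) t) := by
  refine TopCat.Presheaf.section_ext ((CohTop.pull b).obj _) ⊤ _ _ fun w _ => ?_
  refine (TopCat.Presheaf.stalkFunctor_map_germ_apply ⊤ w trivial _ _).symm.trans ?_
  refine (congrArg _ (germ_restrTop F h t w)).trans ?_
  refine (stalk_compHom b a F w _).trans ?_
  refine Eq.trans ?_ (germ_restrTop (g := b) ((CohTop.pull a).obj F) h ((unit a F).hom.app (op O) t) w).symm
  exact congrArg (germMap b _ w) (germMap_germ a F (h w) t)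

end Comp

section Fibre

variable {Y : TopCat.{u}} {f : X ⟶ Y} {y : Y} {k : Z ⟶ X}

/-- Maps out of the stalk of a direct image restricting to a compact fibre are bijective. -/
theorem bijective_of_restrTop (hf : IsProperMap f) (hk : IsCompactSub k)
    (hr : Set.range k = f ⁻¹' {y}) (G : CohTop.Ab X)
    (Φ : stk ((CohTop.push f).obj G) y ⟶ ((CohTop.pull k).obj G).obj.obj (op ⊤))
    (hmem : ∀ {U : Opens Y}, y ∈ U → ∀ z, k z ∈ (Opens.map f).obj U)
    (hΦ : ∀ {U : Opens Y} (hy : y ∈ U) (t : G.obj.obj (op ((Opens.map f).obj U))),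
      Φ (germ ((CohTop.push f).obj G) hy t) = restrTop k G ((Opens.map f).obj U) (hmem hy) t) :
    Function.Bijective Φ := by
  have hinj : ∀ a, Φ a = 0 → a = 0 := by
    intro a ha
    obtain ⟨U, hy, t, rfl⟩ := TopCat.Presheaf.exists_germ_eq ((CohTop.push f).obj G).obj a
    rw [hΦ hy t] at ha
    obtain ⟨W, hW, hWz, hzero⟩ := exists_res_eq_zero G (hmem hy) t ha
    obtain ⟨V, hyV, hVW⟩ := exists_tube y hf (O := W) (by
      rw [← hr]
      rintro _ ⟨z, rfl⟩
      exact hWz z)
    refine (TopCat.Presheaf.germ_res_apply ((CohTop.push f).obj G).obj (Opens.infLELeft U V) y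
      ⟨hy, hyV⟩ t).symm.trans ?_
    refine Eq.trans (congrArg (TopCat.Presheaf.germ ((CohTop.push f).obj G).obj (U ⊓ V) y ⟨hy, hyV⟩)
      (?_ : _ = (0 : G.obj.obj (op ((Opens.map f).obj (U ⊓ V)))))) (map_zero _)
    have h' := congrArg (G.obj.map (homOfLE
      (fun x hx => hVW hx.2 : (Opens.map f).obj (U ⊓ V) ≤ W)).op) hzero
    rw [map_zero, ← ConcreteCategory.comp_apply, ← Functor.map_comp] at h'
    exact h'
  refine ⟨(injective_iff_map_eq_zero _).2 hinj, fun τ => ?_⟩
  obtain ⟨O, hO, t, rfl⟩ := exists_restrTop_eq hk G τ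
  obtain ⟨V, hyV, hVO⟩ := exists_tube y hf (O := O) (by
    rw [← hr]
    rintro _ ⟨z, rfl⟩
    exact hO z)
  refine ⟨germ ((CohTop.push f).obj G) hyV (G.obj.map (homOfLE hVO).op t), ?_⟩
  rw [hΦ hyV]
  exact restrTop_res G (homOfLE hVO) _ t

end Fibre

section Square

variable {Y X' Y' : TopCat.{u}} {f : X ⟶ Y} {g : Y' ⟶ Y} {f' : X' ⟶ Y'} {g' : X' ⟶ X}

lemma isEmbedding_prod (sq : IsPullback g' f' f g) :
    Topology.IsEmbedding fun x => (g' x, f' x) := by
  have h := (TopCat.isEmbedding_pullback_to_prod f g).comp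
    (TopCat.homeoOfIso sq.isoPullback).isEmbedding
  have h' := (TopCat.homeoOfIso (TopCat.prodIsoProd X Y')).isEmbedding.comp h
  refine (congrArg Topology.IsEmbedding (funext fun x => ?_)).mp h'
  refine (TopCat.prodIsoProd_hom_apply _).trans (Prod.ext ?_ ?_)
  · refine Eq.trans ?_ (ConcreteCategory.congr_hom sq.isoPullback_hom_fst x)
    exact (ConcreteCategory.congr_hom (prod.lift_fst (pullback.fst f g) (pullback.snd f g)) _)
  · refine Eq.trans ?_ (ConcreteCategory.congr_hom sq.isoPullback_hom_snd x)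
    exact (ConcreteCategory.congr_hom (prod.lift_snd (pullback.fst f g) (pullback.snd f g)) _)

lemma exists_point (sq : IsPullback g' f' f g) (x : X) (y' : Y') (h : f x = g y') :
    ∃ x', g' x' = x ∧ f' x' = y' := by
  let P : TopCat.{u} := TopCat.of PUnit.{u + 1}
  let ax : P ⟶ X := TopCat.ofHom ⟨fun _ => x, continuous_const⟩
  let ay : P ⟶ Y' := TopCat.ofHom ⟨fun _ => y', continuous_const⟩
  have w : ax ≫ f = ay ≫ g := by ext; exact h
  exact ⟨sq.lift ax ay w PUnit.unit, ConcreteCategory.congr_hom (sq.lift_fst ax ay w) PUnit.unit,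
    ConcreteCategory.congr_hom (sq.lift_snd ax ay w) PUnit.unit⟩

lemma isProperMap_baseChange (sq : IsPullback g' f' f g) (hf : IsProperMap f) : IsProperMap f' := by
  refine isProperMap_iff_ultrafilter.2 ⟨f'.hom.continuous, fun 𝒰 y' h => ?_⟩
  have h1 : Filter.Tendsto f (Ultrafilter.map g' 𝒰 : Filter X) (nhds (g y')) := by
    rw [Ultrafilter.coe_map, Filter.tendsto_map'_iff]
    exact ((g.hom.continuous.tendsto y').comp h).congr
      fun x => (ConcreteCategory.congr_hom sq.w x).symm
  obtain ⟨x, hx, hxlim⟩ := hf.ultrafilter_le_nhds_of_tendsto h1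
  obtain ⟨x', rfl, rfl⟩ := exists_point sq x y' hx
  refine ⟨x', rfl, ?_⟩
  rw [(isEmbedding_prod sq).isInducing.nhds_eq_comap, nhds_prod_eq, ← Filter.map_le_iff_le_comap]
  exact Filter.Tendsto.prodMk (show Filter.Tendsto g' (𝒰 : Filter X') _ from hxlim) h

lemma sep_baseChange (sq : IsPullback g' f' f g)
    (hs : ∀ x x' : X, f x = f x' → x ≠ x' →
      ∃ U V : Set X, IsOpen U ∧ IsOpen V ∧ x ∈ U ∧ x' ∈ V ∧ Disjoint U V)
    (x x' : X') (he : f' x = f' x') (hne : x ≠ x') :
    ∃ U V : Set X', IsOpen U ∧ IsOpen V ∧ x ∈ U ∧ x' ∈ V ∧ Disjoint U V := by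
  have hw : ∀ z, f (g' z) = g (f' z) := fun z => ConcreteCategory.congr_hom sq.w z
  obtain ⟨U, V, hU, hV, hx, hx', hUV⟩ := hs (g' x) (g' x') (by rw [hw, hw, he])
    fun e => hne ((isEmbedding_prod sq).injective (Prod.ext e he))
  exact ⟨_, _, hU.preimage g'.hom.continuous, hV.preimage g'.hom.continuous, hx, hx',
    hUV.preimage _⟩

variable {sq : IsPullback g' f' f g} (hf : IsProperMap f)
  (hs : ∀ x x' : X, f x = f x' → x ≠ x' →
      ∃ U V : Set X, IsOpen U ∧ IsOpen V ∧ x ∈ U ∧ x' ∈ V ∧ Disjoint U V)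

include sq in
lemma range_fibre (y' : Y') : Set.range (fibIncl f' y' ≫ g') = f ⁻¹' {g y'} := by
  ext x
  constructor
  · rintro ⟨z, rfl⟩
    exact (ConcreteCategory.congr_hom sq.w z.1).trans (congrArg g z.2)
  · intro hx
    obtain ⟨x', rfl, hx'⟩ := exists_point sq x y' hx
    exact ⟨⟨x', hx'⟩, rfl⟩

include sq hf hs in
lemma isCompactSub_fibre (y' : Y') : IsCompactSub (fibIncl f' y' ≫ g') where
  emb := by
    have e : (fun z => (g' (fibIncl f' y' z), f' (fibIncl f' y' z))) =
        fun z => ((fibIncl f' y' ≫ g') z, y') := funext fun z => Prod.ext rfl z.2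
    have h := (isEmbedding_prod sq).comp Topology.IsEmbedding.subtypeVal
      (f := fun z : f' ⁻¹' {y'} => z.1)
    refine Topology.IsEmbedding.of_comp (g := fun x => (x, y')) ?_ (by fun_prop) ((congrArg Topology.IsEmbedding e).mp h)
    exact (fibIncl f' y' ≫ g').hom.continuous
  compact := isCompact_iff_compactSpace.1
    ((isProperMap_baseChange sq hf).isCompact_preimage isCompact_singleton)
  sep := by
    rw [range_fibre (sq := sq) y']
    exact fun x hx x' hx' => hs x x' (hx.trans hx'.symm)

omit sq in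
lemma mem_of_eq {U : Opens Y} (w : g' ≫ f = f' ≫ g) {x : X'}
    (hx : g (f' x) ∈ U) : f (g' x) ∈ U :=
  ((ConcreteCategory.congr_hom w x).symm ▸ hx :)

/-- The canonical map `f_* ⟶ f_* g'_* g'^*` as a map into `g_* f'_* g'^*`. -/
noncomputable def baseChangeAdj (sq : IsPullback g' f' f g) (G : CohTop.Ab X) :
    (CohTop.push f).obj G ⟶
      (CohTop.push g).obj ((CohTop.push f').obj ((CohTop.pull g').obj G)) :=
  ⟨{ app := fun U => (unit g' G).hom.app (op ((Opens.map f).obj U.unop)) ≫
      ((CohTop.pull g').obj G).obj.map (homOfLE (fun x hx =>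
        mem_of_eq sq.w hx :
          (Opens.map f').obj ((Opens.map g).obj U.unop) ≤
            (Opens.map g').obj ((Opens.map f).obj U.unop))).op
     naturality := fun U V i => by
      refine ((reassoc_of% ((unit g' G).hom.naturality ((Opens.map f).map i.unop).op)) _).trans ?_
      change _ ≫ ((CohTop.pull g').obj G).obj.map _ ≫ ((CohTop.pull g').obj G).obj.map _ =
        (_ ≫ ((CohTop.pull g').obj G).obj.map _) ≫ ((CohTop.pull g').obj G).obj.map _
      rw [Category.assoc, ← Functor.map_comp, ← Functor.map_comp]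
      rfl }⟩

lemma baseChangeAdj_naturality (sq : IsPullback g' f' f g) {G G' : CohTop.Ab X} (φ : G ⟶ G') :
    (CohTop.push f).map φ ≫ baseChangeAdj sq G' =
      baseChangeAdj sq G ≫ (CohTop.push g).map ((CohTop.push f').map ((CohTop.pull g').map φ)) := by
  have hu : φ ≫ unit g' G' = unit g' G ≫ (CohTop.push g').map ((CohTop.pull g').map φ) :=
    (TopCat.Sheaf.pullbackPushforwardAdjunction AddCommGrpCat.{u} g').unit.naturality φ
  apply InducedCategory.hom_ext
  ext U : 2
  change φ.hom.app _ ≫ (unit g' G').hom.app _ ≫ ((CohTop.pull g').obj G').obj.map _ =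
    ((unit g' G).hom.app _ ≫ ((CohTop.pull g').obj G).obj.map _) ≫
      ((CohTop.pull g').map φ).hom.app _
  refine (reassoc_of% (NatTrans.congr_app (congrArg InducedCategory.Hom.hom hu) _)) _ |>.trans ?_
  rw [Category.assoc]
  exact congrArg (fun m => _ ≫ m) (((CohTop.pull g').map φ).hom.naturality _).symm

/-- The base change map. -/
noncomputable def baseChange (sq : IsPullback g' f' f g) :
    CohTop.push f ⋙ CohTop.pull g ⟶ CohTop.pull g' ⋙ CohTop.push f' where
  app G := transpose g (baseChangeAdj sq G)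
  naturality G G' φ := by
    refine (((TopCat.Sheaf.pullbackPushforwardAdjunction AddCommGrpCat.{u} g).homEquiv_naturality_left_symm
      ((CohTop.push f).map φ) (baseChangeAdj sq G')).symm).trans ?_
    refine Eq.trans (congrArg _ (baseChangeAdj_naturality sq φ)) ?_
    exact (TopCat.Sheaf.pullbackPushforwardAdjunction AddCommGrpCat.{u} g).homEquiv_naturality_right_symm
      (baseChangeAdj sq G) ((CohTop.push f').map ((CohTop.pull g').map φ))

include hf hs in
lemma isIso_baseChange_app (sq : IsPullback g' f' f g) (G : CohTop.Ab X) :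
    IsIso ((baseChange sq).app G) := by
  have : ∀ y' : Y', IsIso ((TopCat.Presheaf.stalkFunctor AddCommGrpCat.{u} y').map
      ((baseChange sq).app G).hom) := fun y' => by
    rw [ConcreteCategory.isIso_iff_bijective]
    have hb := bijective_stalkToFibre y' (isProperMap_baseChange sq hf) (sep_baseChange sq hs)
      ((CohTop.pull g').obj G)
    let m : stk ((CohTop.push f).obj G) (g y') ⟶
        ((CohTop.pull (fibIncl f' y')).obj ((CohTop.pull g').obj G)).obj.obj (op ⊤) :=
      AddCommGrpCat.ofHom (germMap g ((CohTop.push f).obj G) y') ≫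
        (TopCat.Presheaf.stalkFunctor AddCommGrpCat.{u} y').map ((baseChange sq).app G).hom ≫
          stalkToFibre f' y' ((CohTop.pull g').obj G)
    let e : (CohTop.pull (fibIncl f' y' ≫ g')).obj G ≅
        (CohTop.pull (fibIncl f' y')).obj ((CohTop.pull g').obj G) := compIso (fibIncl f' y') g' G
    let ev : ((CohTop.pull (fibIncl f' y' ≫ g')).obj G).obj.obj (op ⊤) ≅
        ((CohTop.pull (fibIncl f' y')).obj ((CohTop.pull g').obj G)).obj.obj (op ⊤) :=
      (sectionsAt (Opens.grothendieckTopology (TopCat.of (f' ⁻¹' {y'}))) ⊤).mapIso e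
    have hev : Function.Bijective ev.hom := ev.addCommGroupIsoToAddEquiv.bijective
    have hmem : ∀ {U : Opens Y}, g y' ∈ U → ∀ z, (fibIncl f' y' ≫ g') z ∈ (Opens.map f).obj U := by
      intro U hy z
      have : (fibIncl f' y' ≫ g') z ∈ f ⁻¹' {g y'} := range_fibre (sq := sq) y' ▸ ⟨z, rfl⟩
      change f _ ∈ U
      rw [show f _ = g y' from this]
      exact hy
    have hb' : Function.Bijective (m ≫ ev.inv) := by
      refine bijective_of_restrTop hf (isCompactSub_fibre (sq := sq) hf hs y')
        (range_fibre (sq := sq) y') G (m ≫ ev.inv) hmem ?_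
      · intro U hy t
        refine hev.1 ((ev.addCommGroupIsoToAddEquiv.apply_symm_apply _).trans ?_)
        refine (congrArg (stalkToFibre f' y' _)
          (stalk_transpose g (baseChangeAdj sq G) hy t)).trans ?_
        refine (stalkToFibre_germ f' y' _ (U := (Opens.map g).obj U) hy _).trans ?_
        refine (restrTop_res _ _ _ _).trans ?_
        exact (compIso_restrTop (fibIncl f' y') g' G (hmem hy) t).symm
    have hm : Function.Bijective m := by
      have := hev.comp hb'
      refine (congrArg Function.Bijective (funext fun a => ?_)).mp this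
      exact ev.addCommGroupIsoToAddEquiv.apply_symm_apply _
    refine (Function.Bijective.of_comp_iff' hb _).1 ?_
    exact (Function.Bijective.of_comp_iff _ (bijective_germMap g _ y')).1 hm
  exact TopCat.Presheaf.isIso_of_stalkFunctor_map_iso _

include hf hs in
/-- Proper base change. -/
theorem nonempty_baseChange (sq : IsPullback g' f' f g) (F : CohTop.Ab X) (p : ℕ) :
    Nonempty ((CohTop.pull g).obj ((CohTop.Rpush f p).obj F) ≅
      (CohTop.Rpush f' p).obj ((CohTop.pull g').obj F)) := by
  have := fun G => isIso_baseChange_app hf hs sq G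
  have : IsIso (baseChange sq) := NatIso.isIso_of_isIso_app _
  have := LH.pull_preservesFiniteColimits (a := g)
  have := LH.pull_preservesFiniteColimits (a := g')
  have := LH.pull_additive (a := g')
  obtain ⟨e⟩ := SpecSeq.nonempty_rightDerived_exactComp (CohTop.pull g') (CohTop.push f')
    (fun Q hQ q hq => by
      refine (TopCat.Sheaf.isZero_iff_stalkFunctor_obj_isZero _).2 fun y' => ?_
      obtain ⟨e'⟩ := nonempty_stalk_rpush_iso y' (isProperMap_baseChange sq hf)
        (sep_baseChange sq hs) ((CohTop.pull g').obj Q) q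
      refine IsZero.of_iso ?_ e'
      obtain ⟨k, rfl⟩ := Nat.exists_eq_succ_of_ne_zero hq.ne'
      have := isFlasque_of_injective Q
      have := subsingleton_HU_pull (isCompactSub_fibre (sq := sq) hf hs y') Q k
      exact ((AddCommGrpCat.isZero_of_subsingleton (AddCommGrpCat.of
        (CohTop.HU ((CohTop.pull (fibIncl f' y' ≫ g')).obj Q) (k + 1) ⊤))).of_iso
        ((hUTopEquiv _ _).toAddCommGrpIso.symm ≪≫ (LH.sectionsAtDerivedIso ⊤ _ _).symm ≪≫
          ((sectionsAt (Opens.grothendieckTopology (TopCat.of (f' ⁻¹' {y'}))) ⊤).rightDerived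
            (k + 1)).mapIso (compIso (fibIncl f' y') g' Q).symm ≪≫
          LH.sectionsAtDerivedIso ⊤ _ _)))
    F p
  exact ⟨((rightDerivedCompExactIso (CohTop.push f) (CohTop.pull g) p).app F).symm ≪≫
    (rightDerivedCongr (asIso (baseChange sq)) p).app F ≪≫ e⟩

end Square

end Groth.Agent.SiteCoh.Compact
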