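import Groth.Agent.SiteCoh.SpaceFamilyPull
import Groth.Agent.SiteCoh.ProperBaseChange

/-!
# Comparison of the restrictions to two members of a family along a map between them
-/

set_option autoImplicit false

universe u

open CategoryTheory CategoryTheory.Limits Opposite TopologicalSpace

namespace Groth.Agent.SiteCoh.Fam

open Groth.Agent.SiteCoh.Compact Groth.Agent.SiteCoh.Pull

variable {S : TopCat.{u}} {ι : Type u} {Y : ι → TopCat.{u}} {a : ∀ i, Y i ⟶ S}
variable {i j : ι} (m : Y i ⟶ Y j) (hm : m ≫ a j = a i)

/-- The map between opens of the members. -/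
def pullHom (V : Opens (Y j)) : (inObj a i).obj ((Opens.map m).obj V) ⟶ (inObj a j).obj V :=
  ⟨⟨fun x => ⟨m x.1, x.2⟩, Continuous.subtype_mk (m.hom.continuous.comp continuous_subtype_val) _⟩,
    fun x => ConcreteCategory.congr_hom hm x.1⟩

/-- Restriction along a map of members. -/
noncomputable def restrHom (G : Sheaf (topology a) AddCommGrpCat.{u}) :
    (restr a j).obj G ⟶ (CohTop.push m).obj ((restr a i).obj G) :=
  ⟨{ app := fun V => G.obj.map (pullHom m hm V.unop).op
     naturality := fun V W e => by
      change G.obj.map _ ≫ G.obj.map _ = G.obj.map _ ≫ G.obj.map _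
      rw [← Functor.map_comp, ← Functor.map_comp]
      rfl }⟩

lemma restrHom_naturality {G G' : Sheaf (topology a) AddCommGrpCat.{u}} (φ : G ⟶ G') :
    (restr a j).map φ ≫ restrHom m hm G' =
      restrHom m hm G ≫ (CohTop.push m).map ((restr a i).map φ) := by
  apply InducedCategory.hom_ext
  ext V : 2
  exact (φ.hom.naturality (pullHom m hm V.unop).op).symm

/-- Restriction along a map of members, on inverse images. -/
noncomputable def restrTrans : restr a j ⋙ CohTop.pull m ⟶ restr a i where
  app G := transpose m (restrHom m hm G)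
  naturality G G' φ := by
    refine (((TopCat.Sheaf.pullbackPushforwardAdjunction AddCommGrpCat.{u} m).homEquiv_naturality_left_symm
      ((restr a j).map φ) (restrHom m hm G')).symm).trans ?_
    refine Eq.trans (congrArg _ (restrHom_naturality m hm φ)) ?_
    exact (TopCat.Sheaf.pullbackPushforwardAdjunction AddCommGrpCat.{u} m).homEquiv_naturality_right_symm
      (restrHom m hm G) ((restr a i).map φ)

/-- The stalks of the comparison. -/
lemma stalk_restrTrans (G : Sheaf (topology a) AddCommGrpCat.{u}) {z : Y i} {V : Opens (Y j)}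
    (hz : m z ∈ V) (t : ((restr a j).obj G).obj.obj (op V)) :
    (TopCat.Presheaf.stalkFunctor AddCommGrpCat.{u} z).map ((restrTrans m hm).app G).hom
        (germMap m ((restr a j).obj G) z (germ ((restr a j).obj G) hz t)) =
      germ ((restr a i).obj G) (U := (Opens.map m).obj V) hz (G.obj.map (pullHom m hm V).op t) :=
  stalk_transpose m (restrHom m hm G) hz t

section Base

variable (Z : ι → TopCat.{u}) (b : ∀ i, Z i ⟶ S)

/-- The unit of the inverse image to the site of the family. -/
noncomputable def bigUnit (F : CohTop.Ab S) : F ⟶ (restr (withBaseMap Z b) none).obj ((big Z b).obj F) :=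
  ((inObj (withBaseMap Z b) none).sheafAdjunctionContinuous AddCommGrpCat.{u}
    (Opens.grothendieckTopology S) (J Z b)).unit.app F

/-- The comparison of the inverse image to a member with the restriction of that to the family. -/
noncomputable def bigComp (i : Option ι) (F : CohTop.Ab S) :
    (CohTop.pull (withBaseMap Z b i)).obj F ⟶ (restr (withBaseMap Z b) i).obj ((big Z b).obj F) :=
  transpose (withBaseMap Z b i) (bigUnit Z b F ≫
    restrHom (a := withBaseMap Z b) (i := i) (j := none) (withBaseMap Z b i) (Category.comp_id _)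
      ((big Z b).obj F))

lemma isIso_bigComp (i : Option ι) (F : CohTop.Ab S) : IsIso (bigComp Z b i F) := by
  suffices h : bigComp Z b i F = (bigRestrIso Z b i).inv.app F by
    rw [h]
    infer_instance
  refine (Equiv.symm_apply_eq _).2 ?_
  let adj₁ := (((inObj (withBaseMap Z b) none).sheafAdjunctionContinuous AddCommGrpCat.{u}
      (Opens.grothendieckTopology S) (J Z b)).comp
    ((inObj (withBaseMap Z b) i).sheafAdjunctionCocontinuous AddCommGrpCat.{u}
      (Opens.grothendieckTopology (withBase (S := S) Z i)) (J Z b))).ofNatIsoRight (ranBaseIso Z b i)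
  refine Eq.trans ?_ (((TopCat.Sheaf.pullbackPushforwardAdjunction AddCommGrpCat.{u}
    (withBaseMap Z b i)).homEquiv_unit _ _ _)).symm
  refine Eq.trans ?_ (Adjunction.unit_leftAdjointUniq_hom_app
    (TopCat.Sheaf.pullbackPushforwardAdjunction AddCommGrpCat.{u} (withBaseMap Z b i)) adj₁ F).symm
  apply InducedCategory.hom_ext
  ext U : 2
  let G := (big Z b).obj F
  let P := (inObj (withBaseMap Z b) i).op.ran.obj ((inObj (withBaseMap Z b) i).op ⋙ G.obj)
  change (bigUnit Z b F).hom.app U ≫ G.obj.map _ =
    ((bigUnit Z b F).hom.app U ≫ ((((inObj (withBaseMap Z b) i).sheafAdjunctionCocontinuous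
      AddCommGrpCat.{u} (Opens.grothendieckTopology (withBase (S := S) Z i)) (J Z b)).unit.app G).hom).app
        (op ((inObj (withBaseMap Z b) none).obj U.unop))) ≫
      P.map («over» Z b i U.unop).op ≫
        ((inObj (withBaseMap Z b) i).op.ranCounit.app ((inObj (withBaseMap Z b) i).op ⋙ G.obj)).app _
  rw [Functor.sheafAdjunctionCocontinuous_unit_app_hom, Category.assoc]
  refine congrArg (fun q => (bigUnit Z b F).hom.app U ≫ q) ?_
  refine Eq.trans ?_ (Category.assoc _ _ _)
  refine Eq.trans ?_ (congrArg (fun q => q ≫ _)
    (((((inObj (withBaseMap Z b) i).op.ranAdjunction AddCommGrpCat.{u}).unit.app G.obj)).naturality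
      («over» Z b i U.unop).op))
  refine Eq.trans ?_ (Category.assoc _ _ _).symm
  refine Eq.trans ?_ (congrArg (fun q => G.obj.map («over» Z b i U.unop).op ≫ q) (NatTrans.congr_app
    (((inObj (withBaseMap Z b) i).op.ranAdjunction AddCommGrpCat.{u}).left_triangle_components G.obj)
      (op ((Opens.map (withBaseMap Z b i)).obj U.unop))).symm)
  exact (Category.comp_id _).symm

lemma stalk_bigComp (i : Option ι) (F : CohTop.Ab S) {z : withBase (S := S) Z i} {U : Opens S}
    (hz : withBaseMap Z b i z ∈ U) (t : F.obj.obj (op U)) :
    (TopCat.Presheaf.stalkFunctor AddCommGrpCat.{u} z).map (bigComp Z b i F).hom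
        (germMap (withBaseMap Z b i) F z (germ F hz t)) =
      germ ((restr (withBaseMap Z b) i).obj ((big Z b).obj F))
        (U := (Opens.map (withBaseMap Z b i)).obj U) hz
        (((big Z b).obj F).obj.map
          (pullHom (a := withBaseMap Z b) (i := i) (j := none) (withBaseMap Z b i)
            (Category.comp_id _) U).op ((bigUnit Z b F).hom.app (op U) t)) :=
  stalk_transpose (withBaseMap Z b i) _ hz t

variable {Z b}

/-- On an inverse image from the base the comparison along a map of members is invertible. -/
theorem isIso_restrTrans_big {i j : Option ι}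
    (m : withBase (S := S) Z i ⟶ withBase (S := S) Z j)
    (hm : m ≫ withBaseMap Z b j = withBaseMap Z b i) (F : CohTop.Ab S) :
    IsIso ((restrTrans (a := withBaseMap Z b) m hm).app ((big Z b).obj F)) := by
  let G := (big Z b).obj F
  have : ∀ z : withBase (S := S) Z i, IsIso ((TopCat.Presheaf.stalkFunctor AddCommGrpCat.{u} z).map
      ((restrTrans (a := withBaseMap Z b) m hm).app G).hom) := fun z => by
    rw [ConcreteCategory.isIso_iff_bijective]
    let e := fun (w : withBase (S := S) Z j) => fun s =>
      (TopCat.Presheaf.stalkFunctor AddCommGrpCat.{u} w).map (bigComp Z b j F).hom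
        (germMap (withBaseMap Z b j) F w s)
    have hb : ∀ (k : Option ι) (w : withBase (S := S) Z k), Function.Bijective fun s =>
        (TopCat.Presheaf.stalkFunctor AddCommGrpCat.{u} w).map (bigComp Z b k F).hom
          (germMap (withBaseMap Z b k) F w s) := fun k w => by
      have := isIso_bigComp Z b k F
      have h : IsIso ((TopCat.Presheaf.stalkFunctor AddCommGrpCat.{u} w).map (bigComp Z b k F).hom) :=
        inferInstanceAs (IsIso ((sheafToPresheaf _ _ ⋙
          TopCat.Presheaf.stalkFunctor AddCommGrpCat.{u} w).map (bigComp Z b k F)))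
      exact ((ConcreteCategory.isIso_iff_bijective _).1 h).comp (bijective_germMap _ F w)
    refine (Function.Bijective.of_comp_iff _ ((bijective_germMap m ((restr (withBaseMap Z b) j).obj G) z).comp
      (hb j (m z)))).1 ?_
    have hz : withBaseMap Z b j (m z) = withBaseMap Z b i z := ConcreteCategory.congr_hom hm z
    let T : stk F (withBaseMap Z b j (m z)) → stk F (withBaseMap Z b i z) :=
      TopCat.Presheaf.stalkSpecializes F.obj (specializes_of_eq hz.symm)
    have hT : Function.Bijective T := by
      refine (ConcreteCategory.isIso_iff_bijective _).1 ?_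
      exact ⟨TopCat.Presheaf.stalkSpecializes F.obj (specializes_of_eq hz),
        by rw [TopCat.Presheaf.stalkSpecializes_comp, TopCat.Presheaf.stalkSpecializes_refl],
        by rw [TopCat.Presheaf.stalkSpecializes_comp, TopCat.Presheaf.stalkSpecializes_refl]⟩
    refine (congrArg Function.Bijective (funext fun s => ?_)).mp ((hb i z).comp hT)
    obtain ⟨U, hU, t, rfl⟩ := TopCat.Presheaf.exists_germ_eq F.obj s
    have hU' : withBaseMap Z b i z ∈ U := hz ▸ hU
    have h1 := stalk_bigComp Z b j F (z := m z) hU t
    refine (congrArg (fun s => (TopCat.Presheaf.stalkFunctor AddCommGrpCat.{u} z).map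
      (bigComp Z b i F).hom (germMap (withBaseMap Z b i) F z s))
      (TopCat.Presheaf.germ_stalkSpecializes_apply F.obj hU (specializes_of_eq hz.symm) t)).trans ?_
    refine (stalk_bigComp Z b i F hU' t).trans ?_
    refine Eq.trans ?_ (congrArg (fun s => (TopCat.Presheaf.stalkFunctor AddCommGrpCat.{u} z).map
      ((restrTrans (a := withBaseMap Z b) m hm).app G).hom
        (germMap m ((restr (withBaseMap Z b) j).obj G) z s)) h1).symm
    refine Eq.trans ?_ (stalk_restrTrans m hm G hU _).symm
    let W : Opens (withBase (S := S) Z i) := (Opens.map (withBaseMap Z b i)).obj U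
    let W' : Opens (withBase (S := S) Z i) :=
      (Opens.map m).obj ((Opens.map (withBaseMap Z b j)).obj U)
    have hle : W' ≤ W := fun x hx =>
      (ConcreteCategory.congr_hom hm x ▸ hx : withBaseMap Z b i x ∈ U)
    refine (TopCat.Presheaf.germ_res_apply ((restr (withBaseMap Z b) i).obj G).obj (homOfLE hle) z
      hU _).symm.trans ?_
    refine congrArg (germ ((restr (withBaseMap Z b) i).obj G) (U := W') hU) ?_
    change G.obj.map _ (G.obj.map _ _) = G.obj.map _ (G.obj.map _ _)
    rw [← ConcreteCategory.comp_apply, ← ConcreteCategory.comp_apply, ← Functor.map_comp,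
      ← Functor.map_comp]
    refine congrArg (fun q => G.obj.map q ((bigUnit Z b F).hom.app (op U) t)) ?_
    exact congrArg Quiver.Hom.op (hom_ext fun x => Subtype.ext (ConcreteCategory.congr_hom hm x.1).symm)
  exact TopCat.Presheaf.isIso_of_stalkFunctor_map_iso _

end Base

end Groth.Agent.SiteCoh.Fam
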