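import Groth.Agent.SiteCoh.CechSheaf

/-!
# Cech acyclicity of injective sheaves and the Cartan criterion
-/

set_option autoImplicit false

universe u

open CategoryTheory CategoryTheory.Limits Opposite TopologicalSpace

namespace Groth.Agent.SiteCoh

variable {C : Type u} [SmallCategory C] {J : GrothendieckTopology C}

/-- An injective sheaf is injective as a presheaf. -/
instance injective_obj_of_injective (I : Sheaf J AddCommGrpCat.{u}) [Injective I] :
    Injective I.obj :=
  Injective.injective_of_adjoint (sheafificationAdjunction J AddCommGrpCat.{u}) I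

section Site

variable [HasPullbacks C]

/-- An injective sheaf has no higher Cech cohomology, for any family over `U`. -/
lemma isZero_cechH_of_injective (I : Sheaf J AddCommGrpCat.{u}) [Injective I] {U : C} {ι : Type u}
    (Y : ι → Over U) (p : ℕ) : IsZero (CohCx.cechH I.obj Y (p + 1)) := by
  have : Injective ((J.overPullback AddCommGrpCat.{u} U).obj I) :=
    (J.overPullback AddCommGrpCat.{u} U).injective_obj_of_injective ‹_›
  have : Injective ((Over.forget U).op ⋙ I.obj) :=
    inferInstanceAs (Injective ((J.overPullback AddCommGrpCat.{u} U).obj I).obj)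
  exact Cech.isZero_homology_of_injective ((Over.forget U).op ⋙ I.obj) Y p

/-- Gluing local lifts when the first Cech cohomology vanishes. -/
lemma exists_lift_of_cechH {S : ShortComplex (Sheaf J AddCommGrpCat.{u})} (hS : S.ShortExact)
    {U : C} {ι : Type u} (Y : ι → Over U)
    (hcov : Sieve.ofArrows (fun i => (Y i).left) (fun i => (Y i).hom) ∈ J U)
    (hH : IsZero (CohCx.cechH S.X₁.obj Y 1)) (x : S.X₃.obj.obj (op U))
    (hlift : ∀ i, ∃ y, S.g.hom.app (op (Y i).left) y = S.X₃.obj.map (Y i).hom.op x) :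
    ∃ t, S.g.hom.app (op U) t = x :=
  exists_lift_of_cech (Over.forget U) hS Y (fun i => (Y i).hom) hcov
    (fun Z i j f g => (Over.w f).trans (Over.w g).symm)
    (fun Z i j f g h => ⟨Over.mk (f ≫ (Y i).hom), 𝟙 Z, Over.homMk f rfl, Over.homMk g h.symm,
      Category.id_comp _, Category.id_comp _⟩)
    hH x hlift

/-- Surjectivity on sections from vanishing first Cech cohomology on cofinal covers. -/
lemma surjective_sections_of_cech {S : ShortComplex (Sheaf J AddCommGrpCat.{u})}
    (hS : S.ShortExact) (U : C)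
    (h : ∀ T ∈ J U, ∃ (ι : Type u) (Y : ι → Over U), (∀ i, T.arrows (Y i).hom) ∧
      Sieve.ofArrows (fun i => (Y i).left) (fun i => (Y i).hom) ∈ J U ∧
      IsZero (CohCx.cechH S.X₁.obj Y 1)) :
    Function.Surjective (S.g.hom.app (op U)) := by
  intro x
  have := hS.epi_g
  obtain ⟨T, hT, hlift⟩ := exists_local_lift S.g x
  obtain ⟨ι, Y, hYT, hcov, hH⟩ := h T hT
  exact exists_lift_of_cechH hS Y hcov hH x fun i => hlift _ (hYT i)

/-- The Cartan criterion. -/
theorem subsingleton_HU_of_cech (B : Set C) (Cov : ∀ (U : C) (ι : Type u), (ι → Over U) → Prop)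
    (h1 : ∀ (U : C) (ι : Type u) (Y : ι → Over U), Cov U ι Y → U ∈ B ∧
      Sieve.ofArrows (fun i => (Y i).left) (fun i => (Y i).hom) ∈ J U ∧
      ∀ (p : ℕ) (a : Fin (p + 1) → ι), (∏ᶜ fun k => Y (a k)).left ∈ B)
    (h2 : ∀ U ∈ B, ∀ T ∈ J U, ∃ (ι : Type u) (Y : ι → Over U),
      Cov U ι Y ∧ ∀ i, T.arrows (Y i).hom)
    (F : Sheaf J AddCommGrpCat.{u})
    (h3 : ∀ (U : C) (ι : Type u) (Y : ι → Over U), Cov U ι Y → ∀ p : ℕ,
      IsZero (CohCx.cechH F.obj Y (p + 1)))
    (U : C) (hU : U ∈ B) (p : ℕ) : Subsingleton (CohSite.HU F (p + 1) U) := by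
  refine subsingleton_HU_of_class (fun G => ∀ (U : C) (ι : Type u) (Y : ι → Over U), Cov U ι Y →
    ∀ p : ℕ, IsZero (CohCx.cechH G.obj Y (p + 1))) (fun V => V ∈ B) (fun G hG => ?_) h3 hU p
  have hs : ∀ V, V ∈ B → Function.Surjective ((injEmbed G).g.hom.app (op V)) := fun V hV =>
    surjective_sections_of_cech (injEmbed_shortExact G) V fun T hT => by
      obtain ⟨ι, Y, hY, hYT⟩ := h2 V hV T hT
      exact ⟨ι, Y, hYT, (h1 V ι Y hY).2.1, hG V ι Y hY 0⟩
  refine ⟨fun V ι Y hY q => ?_, hs⟩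
  have hI : Injective (injEmbed G).X₂ := inferInstanceAs (Injective (Injective.under G))
  exact isZero_cech_X₃ (Over.forget V) (injEmbed_shortExact G) Y
    (fun {r} a => hs _ ((h1 V ι Y hY).2.2 r a)) q
    (isZero_cechH_of_injective _ Y q) (hG V ι Y hY (q + 1))

end Site

section Space

variable {X : TopCat.{u}}

/-- The product in the lattice of opens is the intersection. -/
lemma inter_eq_iInf {ι : Type u} (V : ι → Opens X) {p : ℕ} (a : Fin (p + 1) → ι) :
    Cech.inter V a = ⨅ k, V (a k) :=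
  le_antisymm (le_iInf fun k => leOfHom (Pi.π (fun k => V (a k)) k))
    (leOfHom (Pi.lift fun k => homOfLE (iInf_le (fun k => V (a k)) k)))

/-- An injective sheaf has no higher Cech cohomology, for any family of opens. -/
lemma isZero_cechHTop_of_injective (I : CohTop.Ab X) [Injective I] {ι : Type u}
    (V : ι → Opens X) (p : ℕ) : IsZero (CohTop.cechH I.obj V (p + 1)) :=
  Cech.isZero_homology_of_injective I.obj V p

/-- The covering sieve of a family of opens. -/
lemma ofArrows_mem_of_le {ι : Type u} {U : Opens X} (V : ι → Opens X) (hle : ∀ i, V i ≤ U)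
    (hU : U ≤ iSup V) :
    Sieve.ofArrows V (fun i => homOfLE (hle i)) ∈ Opens.grothendieckTopology X U := by
  intro x hx
  obtain ⟨i, hi⟩ := Opens.mem_iSup.1 (hU hx)
  exact ⟨V i, homOfLE (hle i), Sieve.ofArrows_mk _ _ i, hi⟩

/-- Gluing local lifts when the first Cech cohomology vanishes. -/
lemma exists_lift_of_cechHTop {S : ShortComplex (CohTop.Ab X)} (hS : S.ShortExact)
    {U : Opens X} {ι : Type u} (V : ι → Opens X) (hle : ∀ i, V i ≤ U) (hU : U ≤ iSup V)
    (hH : IsZero (CohTop.cechH S.X₁.obj V 1)) (x : S.X₃.obj.obj (op U))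
    (hlift : ∀ i, ∃ y, S.g.hom.app (op (V i)) y = S.X₃.obj.map (homOfLE (hle i)).op x) :
    ∃ t, S.g.hom.app (op U) t = x :=
  exists_lift_of_cech (𝟭 (Opens X)) hS V (fun i => homOfLE (hle i)) (ofArrows_mem_of_le V hle hU)
    (fun _ _ _ _ _ => rfl)
    (fun Z i j f g _ => ⟨Z, 𝟙 Z, f, g, Category.id_comp _, Category.id_comp _⟩)
    hH x hlift

/-- Surjectivity on sections from vanishing first Cech cohomology on cofinal covers. -/
lemma surjective_sections_of_cechTop {S : ShortComplex (CohTop.Ab X)} (hS : S.ShortExact)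
    (U : Opens X)
    (h : ∀ (ι : Type u) (V : ι → Opens X), iSup V = U →
      ∃ (κ : Type u) (W : κ → Opens X) (r : κ → ι), iSup W = U ∧ (∀ k, W k ≤ V (r k)) ∧
        IsZero (CohTop.cechH S.X₁.obj W 1)) :
    Function.Surjective (S.g.hom.app (op U)) := by
  intro x
  have := hS.epi_g
  obtain ⟨T, hT, hlift⟩ := exists_local_lift S.g x
  obtain ⟨κ, W, r, hWU, hWV, hH⟩ := h {V : Opens X // ∃ f : V ⟶ U, T.arrows f} (fun V => V.1)
    (le_antisymm (iSup_le fun V => leOfHom V.2.choose) fun y hy => by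
      obtain ⟨V, f, hf, hyV⟩ := hT y hy
      exact Opens.mem_iSup.2 ⟨⟨V, f, hf⟩, hyV⟩)
  exact exists_lift_of_cechHTop hS W (fun k => hWU ▸ le_iSup W k) hWU.ge hH x fun k =>
    hlift _ (T.downward_closed (r k).2.choose_spec (homOfLE (hWV k)))

/-- The Cartan criterion on a basis. -/
theorem subsingleton_HUTop_of_cech (B : Set (Opens X))
    (Cov : ∀ (ι : Type u), (ι → Opens X) → Prop)
    (h1 : ∀ (ι : Type u) (V : ι → Opens X), Cov ι V →
      iSup V ∈ B ∧ ∀ (p : ℕ) (a : Fin (p + 1) → ι), (iInf fun k => V (a k)) ∈ B)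
    (h2 : ∀ U ∈ B, ∀ (κ : Type u) (W : κ → Opens X), iSup W = U →
      ∃ (ι : Type u) (V : ι → Opens X), Cov ι V ∧ iSup V = U ∧ ∀ i, ∃ k, V i ≤ W k)
    (F : CohTop.Ab X)
    (h3 : ∀ (ι : Type u) (V : ι → Opens X), Cov ι V → ∀ p : ℕ,
      IsZero (CohTop.cechH F.obj V (p + 1)))
    (U : Opens X) (hU : U ∈ B) (p : ℕ) : Subsingleton (CohTop.HU F (p + 1) U) := by
  refine subsingleton_HU_of_class (fun G => ∀ (ι : Type u) (V : ι → Opens X), Cov ι V →
    ∀ p : ℕ, IsZero (CohTop.cechH G.obj V (p + 1))) (fun V => V ∈ B) (fun G hG => ?_) h3 hU p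
  have hs : ∀ V, V ∈ B → Function.Surjective ((injEmbed G).g.hom.app (op V)) := fun V hV =>
    surjective_sections_of_cechTop (injEmbed_shortExact G) V fun κ W hW => by
      obtain ⟨ι, V', hV', hV'U, hr⟩ := h2 V hV κ W hW
      choose r hr using hr
      exact ⟨ι, V', r, hV'U, hr, hG ι V' hV' 0⟩
  refine ⟨fun ι V hV q => ?_, hs⟩
  have hI : Injective (injEmbed G).X₂ := inferInstanceAs (Injective (Injective.under G))
  exact isZero_cech_X₃ (𝟭 (Opens X)) (injEmbed_shortExact G) V
    (fun {r} a => hs _ (inter_eq_iInf V a ▸ (h1 ι V hV).2 r a)) q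
    (isZero_cechHTop_of_injective _ V q) (hG ι V hV (q + 1))

end Space

end Groth.Agent.SiteCoh
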