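import Groth.Agent.SiteCoh.Leray
import Groth.Agent.SiteCoh.SheafTools
import Mathlib.Topology.Sheaves.Sheafify
import Mathlib.Topology.Sheaves.LocallySurjective

/-!
# The extension by zero of the restriction of a sheaf to a closed subset

For a closed subset `Z` the unit `F ⟶ j_* j^* F` is an epimorphism, bijective on stalks in `Z`,
and `j_* j^* F` has no sections on opens missing `Z`.
-/

set_option autoImplicit false

universe u

open CategoryTheory CategoryTheory.Limits Opposite TopologicalSpace TopCat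

namespace Groth.Agent.SiteCoh.Closed

variable {X : TopCat.{u}} (Z : Set X)

/-- The inclusion of a subset. -/
abbrev incl : TopCat.of Z ⟶ X :=
  TopCat.ofHom ⟨((↑) : Z → X), continuous_subtype_val⟩

variable (F : CohTop.Ab X)

/-- The restriction, as the sheafified presheaf inverse image. -/
noncomputable def clPull : CohTop.Ab (TopCat.of Z) :=
  (presheafToSheaf (Opens.grothendieckTopology (TopCat.of Z)) AddCommGrpCat.{u}).obj
    ((TopCat.Presheaf.pullback AddCommGrpCat.{u} (incl Z)).obj F.obj)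

/-- The restriction is the inverse image. -/
noncomputable def clPullIso : (CohTop.pull (incl Z)).obj F ≅ clPull Z F :=
  (TopCat.Sheaf.pullbackIso AddCommGrpCat.{u} (incl Z)).app F

/-- The sheaf `j_* j^* F`. -/
noncomputable def clRes : CohTop.Ab X := (CohTop.push (incl Z)).obj (clPull Z F)

/-- The unit. -/
noncomputable def clUnit : F ⟶ clRes Z F :=
  ⟨(TopCat.Presheaf.pullbackPushforwardAdjunction AddCommGrpCat.{u} (incl Z)).unit.app F.obj ≫
    (TopCat.Presheaf.pushforward AddCommGrpCat.{u} (incl Z)).map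
      (toSheafify (Opens.grothendieckTopology (TopCat.of Z))
        ((TopCat.Presheaf.pullback AddCommGrpCat.{u} (incl Z)).obj F.obj))⟩

lemma isIso_stalk_clUnit (z : Z) :
    IsIso ((TopCat.Presheaf.stalkFunctor AddCommGrpCat.{u} (z : X)).map (clUnit Z F).hom) := by
  let P := (TopCat.Presheaf.pullback AddCommGrpCat.{u} (incl Z)).obj F.obj
  let t := toSheafify (Opens.grothendieckTopology (TopCat.of Z)) P
  let η := (TopCat.Presheaf.pullbackPushforwardAdjunction AddCommGrpCat.{u} (incl Z)).unit.app F.obj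
  have hind : Topology.IsInducing (incl Z) := Topology.IsInducing.subtypeVal
  have h₁ := TopCat.Presheaf.stalkPushforward.stalkPushforward_iso_of_isInducing
    (C := AddCommGrpCat.{u}) hind (sheafify (Opens.grothendieckTopology (TopCat.of Z)) P) z
  have h₂ : IsIso ((TopCat.Presheaf.stalkFunctor AddCommGrpCat.{u} z).map t) :=
    TopCat.Presheaf.stalkFunctor_map_unit_toSheafify_isIso z AddCommGrpCat.{u} P
  have h₃ : IsIso (TopCat.Presheaf.stalkPullbackHom AddCommGrpCat.{u} (incl Z) F.obj z) :=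
    (TopCat.Presheaf.stalkPullbackIso AddCommGrpCat.{u} (incl Z) F.obj z).isIso_hom
  have key : (TopCat.Presheaf.stalkFunctor AddCommGrpCat.{u} (z : X)).map (clUnit Z F).hom ≫
      TopCat.Presheaf.stalkPushforward AddCommGrpCat.{u} (incl Z)
        (sheafify (Opens.grothendieckTopology (TopCat.of Z)) P) z =
      TopCat.Presheaf.stalkPullbackHom AddCommGrpCat.{u} (incl Z) F.obj z ≫
        (TopCat.Presheaf.stalkFunctor AddCommGrpCat.{u} z).map t := by
    refine TopCat.Presheaf.stalk_hom_ext _ fun U hU => ?_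
    refine (TopCat.Presheaf.stalkFunctor_map_germ_assoc _ _ _ _ _).trans ?_
    refine (congrArg (_ ≫ ·) (TopCat.Presheaf.stalkPushforward_germ _ (incl Z) _ U z hU)).trans ?_
    refine (Category.assoc _ _ _).trans ?_
    refine Eq.trans ?_ (Category.assoc _ _ _)
    refine Eq.trans ?_ (congrArg (· ≫ _)
      (TopCat.Presheaf.germ_stalkPullbackHom AddCommGrpCat.{u} (incl Z) F.obj z U hU)).symm
    refine Eq.trans ?_ (Category.assoc _ _ _).symm
    exact congrArg (η.app (op U) ≫ ·) (TopCat.Presheaf.stalkFunctor_map_germ _ _ _ t).symm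
  have h₄ : IsIso ((TopCat.Presheaf.stalkFunctor AddCommGrpCat.{u} (z : X)).map (clUnit Z F).hom ≫
      TopCat.Presheaf.stalkPushforward AddCommGrpCat.{u} (incl Z)
        (sheafify (Opens.grothendieckTopology (TopCat.of Z)) P) z) :=
    key ▸ @IsIso.comp_isIso _ _ _ _ _ _ _ h₃ h₂
  exact @IsIso.of_isIso_comp_right _ _ _ _ _ _ _ h₁ h₄

lemma germ_eq_zero_of_clUnit {V : Opens X} {x : X} (hx : x ∈ V) (hxZ : x ∈ Z)
    (s : F.obj.obj (op V))
    (h : TopCat.Presheaf.germ (clRes Z F).obj V x hx ((clUnit Z F).hom.app (op V) s) = 0) :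
    TopCat.Presheaf.germ F.obj V x hx s = 0 := by
  have := isIso_stalk_clUnit Z F ⟨x, hxZ⟩
  apply (AddCommGrpCat.mono_iff_injective
    ((TopCat.Presheaf.stalkFunctor AddCommGrpCat.{u} x).map (clUnit Z F).hom)).1 inferInstance
  exact ((TopCat.Presheaf.stalkFunctor_map_germ_apply V x hx _ s).trans h).trans (map_zero _).symm

variable {Z}

/-- There are no sections away from the subset. -/
lemma eq_zero_of_disjoint {V : Opens X} (hV : ∀ x ∈ V, x ∉ Z)
    (s : (clRes Z F).obj.obj (op V)) : s = 0 := by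
  refine TopCat.Presheaf.section_ext (clPull Z F) ((Opens.map (incl Z)).obj V) s 0 fun z hz => ?_
  exact absurd z.2 (hV _ hz)

/-- The unit is an epimorphism for a closed subset. -/
lemma exists_lift (hZ : IsClosed Z) {V : Opens X} (s : (clRes Z F).obj.obj (op V)) {x : X}
    (hx : x ∈ V) :
    ∃ (W : Opens X) (_ : x ∈ W) (i : W ⟶ V) (t : F.obj.obj (op W)),
      (clUnit Z F).hom.app (op W) t = (clRes Z F).obj.map i.op s := by
  by_cases hxZ : x ∈ Z
  · have := isIso_stalk_clUnit Z F ⟨x, hxZ⟩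
    obtain ⟨g, hg⟩ := (AddCommGrpCat.epi_iff_surjective
      ((TopCat.Presheaf.stalkFunctor AddCommGrpCat.{u} x).map (clUnit Z F).hom)).1 inferInstance
      (TopCat.Presheaf.germ (clRes Z F).obj V x hx s)
    obtain ⟨U, hU, t, rfl⟩ := TopCat.Presheaf.exists_germ_eq F.obj g
    rw [TopCat.Presheaf.stalkFunctor_map_germ_apply] at hg
    obtain ⟨W, hW, iU, iV, e⟩ := TopCat.Presheaf.germ_eq (clRes Z F).obj x hU hx _ _ hg
    exact ⟨W, hW, iV, F.obj.map iU.op t,
      (ConcreteCategory.congr_hom ((clUnit Z F).hom.naturality iU.op) t).trans e⟩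
  · let W : Opens X := V ⊓ ⟨Zᶜ, hZ.isOpen_compl⟩
    refine ⟨W, ⟨hx, hxZ⟩, homOfLE inf_le_left, 0, ?_⟩
    rw [map_zero]
    exact (eq_zero_of_disjoint F (V := W) (fun y hy => hy.2) _).symm

lemma epi_clUnit (hZ : IsClosed Z) : Epi (clUnit Z F) := by
  refine (Sheaf.isLocallySurjective_iff_epi' (A := AddCommGrpCat.{u}) _).1 ⟨fun {V} s => ?_⟩
  intro x hx
  obtain ⟨W, hW, i, t, ht⟩ := exists_lift F hZ s hx
  exact ⟨W, i, ⟨t, ht⟩, hW⟩

variable {Z₁ Z₂ : Set X}

lemma kernel_ι_clUnit (h₂ : IsClosed Z₂) (h : Z₂ ⊆ Z₁) : kernel.ι (clUnit Z₁ F) ≫ clUnit Z₂ F = 0 := by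
  ext V k
  change (clUnit Z₂ F).hom.app V ((kernel.ι (clUnit Z₁ F)).hom.app V k) = 0
  refine TopCat.Presheaf.section_ext (clRes Z₂ F) V.unop _ 0 fun x hx => ?_
  rw [map_zero]
  by_cases hxZ : x ∈ Z₂
  · have hk : (clUnit Z₁ F).hom.app V ((kernel.ι (clUnit Z₁ F)).hom.app V k) = 0 :=
      ConcreteCategory.congr_hom (NatTrans.congr_app (congrArg InducedCategory.Hom.hom
        (kernel.condition (clUnit Z₁ F))) V) k
    have := germ_eq_zero_of_clUnit Z₁ F (V := V.unop) hx (h hxZ) _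
      ((congrArg _ hk).trans (map_zero _))
    exact (TopCat.Presheaf.stalkFunctor_map_germ_apply (C := AddCommGrpCat.{u}) V.unop x hx
      (clUnit Z₂ F).hom _).symm.trans ((congrArg _ this).trans (map_zero _))
  · let W : Opens X := V.unop ⊓ ⟨Z₂ᶜ, h₂.isOpen_compl⟩
    rw [← TopCat.Presheaf.germ_res_apply (clRes Z₂ F).obj (homOfLE (inf_le_left : W ≤ V.unop)) x
      ⟨hx, hxZ⟩, eq_zero_of_disjoint F (V := W) (fun y hy => hy.2)
        ((clRes Z₂ F).obj.map (homOfLE (inf_le_left : W ≤ V.unop)).op _)]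
    exact map_zero _

/-- Restriction to a smaller closed subset. -/
noncomputable def clMap (h₁ : IsClosed Z₁) (h₂ : IsClosed Z₂) (h : Z₂ ⊆ Z₁) : clRes Z₁ F ⟶ clRes Z₂ F :=
  haveI := epi_clUnit F h₁
  Abelian.epiDesc (clUnit Z₁ F) (clUnit Z₂ F) (kernel_ι_clUnit F h₂ h)

@[reassoc (attr := simp)]
lemma clUnit_clMap (h₁ : IsClosed Z₁) (h₂ : IsClosed Z₂) (h : Z₂ ⊆ Z₁) :
    clUnit Z₁ F ≫ clMap F h₁ h₂ h = clUnit Z₂ F :=
  haveI := epi_clUnit F h₁
  Abelian.comp_epiDesc _ _ _

end Groth.Agent.SiteCoh.Closed
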