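import Groth.Agent.SiteCoh.TotallyAcyclic
import Mathlib.CategoryTheory.Sites.MayerVietorisSquare
import Mathlib.CategoryTheory.Functor.Flat

/-!
# Acyclic sheaves and the cohomology of covering sieves in presheaves
-/

set_option autoImplicit false

universe u

open CategoryTheory CategoryTheory.Limits CategoryTheory.Abelian Opposite

namespace Groth.Agent.SiteCoh.SieveCoh

variable {C : Type u} [SmallCategory C] (J : GrothendieckTopology C)

instance isContinuous_bot : (𝟭 C).IsContinuous (⊥ : GrothendieckTopology C) J where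
  op_comp_isSheaf_of_types _ := Presieve.isSheaf_bot

/-- The inclusion of sheaves into sheaves for the trivial topology. -/
noncomputable abbrev toBot :
    Sheaf J AddCommGrpCat.{u} ⥤ Sheaf (⊥ : GrothendieckTopology C) AddCommGrpCat.{u} :=
  CohSite.push J ⊥ (𝟭 C)

/-- Sheafification, on sheaves for the trivial topology. -/
noncomputable abbrev fromBot :
    Sheaf (⊥ : GrothendieckTopology C) AddCommGrpCat.{u} ⥤ Sheaf J AddCommGrpCat.{u} :=
  (sheafBotEquivalence AddCommGrpCat.{u}).functor ⋙ presheafToSheaf J AddCommGrpCat.{u}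

/-- The adjunction. -/
noncomputable def botAdj : fromBot J ⊣ toBot J :=
  ((sheafBotEquivalence AddCommGrpCat.{u}).toAdjunction.comp
    (sheafificationAdjunction J AddCommGrpCat.{u})).ofNatIsoRight
      (NatIso.ofComponents (fun F => Iso.refl _) (fun f => rfl))

instance fromBot_preservesFiniteLimits : PreservesFiniteLimits (fromBot J) :=
  comp_preservesFiniteLimits _ _

lemma toBot_preservesInjectiveObjects : (toBot J).PreservesInjectiveObjects :=
  Functor.preservesInjectiveObjects_of_adjunction_of_preservesMonomorphisms (botAdj J)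

/-- The free sheaf for the trivial topology on a sieve. -/
noncomputable abbrev freeSieve {X : C} (R : Sieve X) :
    Sheaf (⊥ : GrothendieckTopology C) AddCommGrpCat.{u} :=
  (Sheaf.composeAndSheafify (⊥ : GrothendieckTopology C) AddCommGrpCat.free.{u}).obj
    ⟨R.functor, Presheaf.isSheaf_bot _⟩

lemma W_functorInclusion {X : C} (R : Sieve X) (hR : R ∈ J X) : J.W R.functorInclusion := by
  have : Presheaf.IsLocallyInjective J R.functorInclusion := ⟨fun {V} x y h => by
    obtain rfl : x = y := Subtype.ext h
    rw [Presheaf.equalizerSieve_self_eq_top]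
    exact J.top_mem _⟩
  have : Presheaf.IsLocallySurjective J R.functorInclusion := ⟨fun {V} s => by
    refine J.superset_covering ?_ (J.pullback_stable (s : V ⟶ X) hR)
    intro W g hg
    exact ⟨⟨g ≫ s, hg⟩, rfl⟩⟩
  exact J.W_of_isLocallyBijective _

/-- Sheafified, the free presheaf on a covering sieve is the free sheaf on the object. -/
noncomputable def freeSieveIso {X : C} (R : Sieve X) (hR : R ∈ J X) :
    (fromBot J).obj (freeSieve R) ≅ CohCx.freeSheaf J X :=
  haveI : (AddCommGrpCat.free.{u}).IsLeftAdjoint := AddCommGrpCat.adj.isLeftAdjoint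
  haveI : IsIso ((presheafToSheaf J AddCommGrpCat.{u}).map
      (Functor.whiskerRight R.functorInclusion AddCommGrpCat.free.{u})) :=
    (J.W_iff _).1 (J.W_of_preservesSheafification AddCommGrpCat.free.{u} _
      (W_functorInclusion J R hR))
  haveI : IsIso (toSheafify (⊥ : GrothendieckTopology C) (R.functor ⋙ AddCommGrpCat.free.{u})) :=
    isIso_toSheafify _ (Presheaf.isSheaf_bot _)
  (presheafToSheaf J AddCommGrpCat.{u}).mapIso
      (asIso (toSheafify (⊥ : GrothendieckTopology C) (R.functor ⋙ AddCommGrpCat.free.{u}))).symm ≪≫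
    asIso ((presheafToSheaf J AddCommGrpCat.{u}).map
      (Functor.whiskerRight R.functorInclusion AddCommGrpCat.free.{u}))

variable {J}

/-- Acyclicity on objects gives the vanishing on covering sieves. -/
theorem subsingleton_ext_of_acyclic (F : Sheaf J AddCommGrpCat.{u})
    (hF : ∀ (X : C) (q : ℕ), Subsingleton (CohSite.HU F (q + 1) X))
    {X : C} (R : Sieve X) (hR : R ∈ J X) (q : ℕ) :
    Subsingleton (Ext (freeSieve R) ((toBot J).obj F) (q + 1)) := by
  have := toBot_preservesInjectiveObjects J
  have : Subsingleton (Ext (CohCx.freeSheaf J X) F (q + 1)) := hF X q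
  have : Subsingleton (Ext ((fromBot J).obj (freeSieve R)) F (q + 1)) :=
    subsingleton_ext_of_iso (freeSieveIso J R hR) (q + 1)
  exact (extAdjEquiv (A := Sheaf J AddCommGrpCat.{u}) (botAdj J)
    (fun p => isZero_rpush_of_subsingleton J ⊥ (𝟭 C) F (p + 1) fun V => hF V p)
    (freeSieve R) (q + 1)).toEquiv.subsingleton

/-- Vanishing on all covering sieves. -/
def SieveAcyclic (F : Sheaf J AddCommGrpCat.{u}) : Prop :=
  ∀ (X : C) (R : Sieve X), R ∈ J X → ∀ q : ℕ,
    Subsingleton (Ext (freeSieve R) ((toBot J).obj F) (q + 1))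

/-- Sieve acyclicity gives surjectivity on sections. -/
lemma surjective_of_sieveAcyclic {S : ShortComplex (Sheaf J AddCommGrpCat.{u})} (hS : S.ShortExact)
    (hF : SieveAcyclic S.X₁) (X : C) : Function.Surjective (S.g.hom.app (op X)) := by
  intro (a : S.X₃.obj.obj (op X))
  let G := toBot J
  have : G.IsRightAdjoint := (botAdj J).isRightAdjoint
  have : PreservesFiniteLimits G := ⟨fun _ _ _ => inferInstance⟩
  have hG := (Functor.preservesFiniteLimits_iff_forall_exact_map_and_mono G).1 inferInstance S hS
  let T := ShortComplex.mk (G.map S.f) (cokernel.π (G.map S.f)) (cokernel.condition _)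
  have hT : T.ShortExact :=
    { exact := ShortComplex.exact_cokernel _
      mono_f := hG.2
      epi_g := inferInstanceAs (Epi (cokernel.π _)) }
  let h : T.X₃ ⟶ G.obj S.X₃ :=
    cokernel.desc (G.map S.f) (G.map S.g) (S.map G).zero
  have hh : Mono h := (ShortComplex.exact_iff_mono_cokernel_desc (S.map G)).1 hG.1
  have hπh : T.g ≫ h = G.map S.g := cokernel.π_desc _ _ _
  let R : Sieve X := Presheaf.imageSieve S.g.hom a
  have hR : R ∈ J X := by
    have := hS.epi_g
    have : Sheaf.IsLocallySurjective S.g :=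
      (Sheaf.isLocallySurjective_iff_epi' (A := AddCommGrpCat.{u}) S.g).2 inferInstance
    exact Presheaf.imageSieve_mem J S.g.hom a
  have hex : ∀ {V : C} (g : V ⟶ X), R.arrows g →
      ∃ p : T.X₃.obj.obj (op V), h.hom.app (op V) p = S.X₃.obj.map g.op a := by
    rintro V g ⟨y, hy⟩
    exact ⟨T.g.hom.app (op V) y,
      (ConcreteCategory.congr_hom (NatTrans.congr_app (congrArg InducedCategory.Hom.hom hπh) (op V)) y).trans hy⟩
  choose p hp using fun (V : C) (g : { g : V ⟶ X // R.arrows g }) => hex g.1 g.2
  let τ : (⟨R.functor, Presheaf.isSheaf_bot _⟩ : Sheaf (⊥ : GrothendieckTopology C) (Type u)) ⟶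
      (sheafCompose ⊥ (forget AddCommGrpCat.{u})).obj T.X₃ :=
    ⟨{ app := fun V => TypeCat.ofHom fun g => p V.unop g
       naturality := fun V W i => by
        ext g
        refine sections_injective h W.unop ?_
        refine (hp W.unop _).trans ?_
        refine Eq.trans ?_ (NatTrans.naturality_apply h.hom i _).symm
        refine Eq.trans ?_ (congrArg (S.X₃.obj.map i) (hp V.unop g)).symm
        exact ConcreteCategory.congr_hom (S.X₃.obj.map_comp g.1.op i) a }⟩
  let adj := freeShAdj (⊥ : GrothendieckTopology C)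
  obtain ⟨b, hb⟩ := exists_comp_eq_of_subsingleton_ext hT (hF X R hR 0)
    ((adj.homEquiv _ _).symm τ)
  obtain ⟨b', hb'⟩ : ∃ b' : (⟨R.functor, Presheaf.isSheaf_bot _⟩ :
      Sheaf (⊥ : GrothendieckTopology C) (Type u)) ⟶
        (sheafCompose ⊥ (forget AddCommGrpCat.{u})).obj T.X₂,
      b' ≫ (sheafCompose ⊥ (forget AddCommGrpCat.{u})).map T.g = τ :=
    ⟨adj.homEquiv _ _ b, (adj.homEquiv_naturality_right _ _).symm.trans
      ((congrArg (adj.homEquiv _ _) hb).trans ((adj.homEquiv _ _).apply_symm_apply τ))⟩
  let σ : ∀ V : C, { g : V ⟶ X // R.arrows g } → S.X₂.obj.obj (op V) := fun V g =>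
    b'.hom.app (op V) g
  have hσ : ∀ (V : C) (g : { g : V ⟶ X // R.arrows g }),
      S.g.hom.app (op V) (σ V g) = S.X₃.obj.map g.1.op a := fun V g => by
    refine ((ConcreteCategory.congr_hom
      (NatTrans.congr_app (congrArg InducedCategory.Hom.hom hπh) (op V)) (σ V g)).symm.trans ?_).trans
      (hp V g)
    have hb'' : T.g.hom.app (op V) (σ V g) = τ.hom.app (op V) g :=
      ConcreteCategory.congr_hom (NatTrans.congr_app (congrArg InducedCategory.Hom.hom hb') (op V)) g
    exact congrArg (h.hom.app (op V)) hb''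
  have hnat : ∀ {V W : C} (i : W ⟶ V) (g : { g : V ⟶ X // R.arrows g }),
      S.X₂.obj.map i.op (σ V g) = σ W ⟨i ≫ g.1, R.downward_closed g.2 i⟩ := fun i g =>
    (ConcreteCategory.congr_hom (b'.hom.naturality i.op) g).symm
  let ι := (V : C) × { g : V ⟶ X // R.arrows g }
  have hcov : Sieve.ofArrows (fun i : ι => i.1) (fun i => i.2.1) ∈ J X :=
    J.superset_covering (fun V g hg =>
      Sieve.ofArrows_mk (fun i : ι => i.1) (fun i => i.2.1) ⟨V, g, hg⟩) hR
  obtain ⟨t, ht, -⟩ := existsUnique_amalgamation S.X₂ (fun i : ι => i.2.1) hcov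
    (fun i => σ i.1 i.2) (fun i j Z gi gj hij => by
      rw [hnat, hnat]
      exact congrArg (σ Z) (Subtype.ext hij))
  refine ⟨t, ext_of_cover S.X₃ (fun i : ι => i.2.1) hcov fun i => ?_⟩
  rw [← NatTrans.naturality_apply, ht, hσ]

/-- Sieve acyclic sheaves are acyclic on objects. -/
theorem subsingleton_HU_of_sieveAcyclic {F : Sheaf J AddCommGrpCat.{u}} (hF : SieveAcyclic F)
    (X : C) (q : ℕ) : Subsingleton (CohSite.HU F (q + 1) X) := by
  refine subsingleton_HU_of_class (B := fun _ => True) SieveAcyclic (fun G hG => ?_) hF trivial q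
  have hsurj := surjective_of_sieveAcyclic (injEmbed_shortExact G) hG
  refine ⟨fun Y R hR p => ?_, fun V _ => hsurj V⟩
  have : (toBot J).IsRightAdjoint := (botAdj J).isRightAdjoint
  have : PreservesFiniteLimits (toBot J) := ⟨fun _ _ _ => inferInstance⟩
  have hG' := (Functor.preservesFiniteLimits_iff_forall_exact_map_and_mono (toBot J)).1
    inferInstance _ (injEmbed_shortExact G)
  have hS : ((injEmbed G).map (toBot J)).ShortExact :=
    { exact := hG'.1
      mono_f := hG'.2
      epi_g := (Sheaf.isLocallySurjective_iff_epi' (A := AddCommGrpCat.{u}) _).1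
        ⟨fun {V} s => by
          obtain ⟨y, hy⟩ := hsurj V s
          refine GrothendieckTopology.superset_covering _ ?_ (GrothendieckTopology.top_mem _ V)
          intro W g _
          exact ⟨(injEmbed G).X₂.obj.map g.op y,
            (NatTrans.naturality_apply (injEmbed G).g.hom g.op y).trans (congrArg _ hy)⟩⟩ }
  have := toBot_preservesInjectiveObjects J
  have : Injective (((injEmbed G).map (toBot J)).X₂) :=
    (toBot J).injective_obj_of_injective (inferInstanceAs (Injective (Injective.under G)))
  exact subsingleton_ext_X₃ hS (p + 1) (Ext.subsingleton_of_injective _ _ p) (hG Y R hR (p + 1))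

end Groth.Agent.SiteCoh.SieveCoh
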