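import Groth.Prelude.Def_Hyper
import Mathlib.CategoryTheory.Limits.FunctorCategory.Basic
import Mathlib.CategoryTheory.Limits.Types.Coproducts

/-!
# Points of simplicial formal coproducts, and local fillers of boundaries

For a simplicial object `K` of formal coproducts, a point of `K` in degree `n` over `V` is a
morphism `V ⟶ K_n`.  For a hypercovering every compatible boundary family of points is locally
the boundary of a point.
-/

set_option autoImplicit false

universe u

open CategoryTheory CategoryTheory.Limits Opposite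
open scoped Simplicial

namespace Groth.Agent.SiteCoh.Hyp

variable {C : Type u} [SmallCategory C]

/-- Points of a formal coproduct over an object. -/
abbrev Pt (V : C) (Y : FormalCoproduct.{u} C) : Type u :=
  (FormalCoproduct.incl.{u} C).obj V ⟶ Y

/-- Restriction of points. -/
abbrev res {V W : C} (g : W ⟶ V) {Y : FormalCoproduct.{u} C} (y : Pt V Y) : Pt W Y :=
  (FormalCoproduct.incl.{u} C).map g ≫ y

lemma res_id {V : C} {Y : FormalCoproduct.{u} C} (y : Pt V Y) : res (𝟙 V) y = y := by
  simp [res]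

lemma res_res {U V W : C} (h : U ⟶ W) (g : W ⟶ V) {Y : FormalCoproduct.{u} C} (y : Pt V Y) :
    res h (res g y) = res (h ≫ g) y := by
  simp [res]

/-- The presheaf of points. -/
abbrev pts : FormalCoproduct.{u} C ⥤ Cᵒᵖ ⥤ Type u :=
  CategoryTheory.yoneda ⋙ (Functor.whiskeringLeft _ _ _).obj (FormalCoproduct.incl.{u} C).op

/-- The tautological point on a component. -/
abbrev ptι (Y : FormalCoproduct.{u} C) (i : Y.I) : Pt (Y.obj i) Y :=
  FormalCoproduct.Hom.fromIncl i (𝟙 (Y.obj i))

lemma res_ptι {V : C} {Y : FormalCoproduct.{u} C} (y : Pt V Y) :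
    res (y.φ PUnit.unit) (ptι Y (y.f PUnit.unit)) = y :=
  FormalCoproduct.hom_ext (funext fun _ => rfl) fun i => by
    cases i
    exact (Category.comp_id _).trans (Category.comp_id _)

/-- The coproduct of representables is the presheaf of points. -/
noncomputable def yonedaPtsApp (Y : FormalCoproduct.{u} C) :
    (∐ fun i => CategoryTheory.yoneda.obj (Y.obj i)) ≅ pts.obj Y where
  hom := Sigma.desc fun i =>
    (yonedaEquiv (F := pts.obj Y) (X := Y.obj i)).symm (ptι Y i)
  inv :=
    { app := fun V => TypeCat.ofHom fun (y : Pt V.unop Y) =>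
        (Sigma.ι (fun i => CategoryTheory.yoneda.obj (Y.obj i)) (y.f PUnit.unit)).app V
          (y.φ PUnit.unit)
      naturality := fun V W g => by
        ext (y : Pt V.unop Y)
        exact ConcreteCategory.congr_hom
          ((Sigma.ι (fun i => CategoryTheory.yoneda.obj (Y.obj i)) (y.f PUnit.unit)).naturality g)
          (y.φ PUnit.unit) }
  hom_inv_id := by
    refine Sigma.hom_ext _ _ fun i => ?_
    rw [← Category.assoc, Sigma.ι_desc, Category.comp_id]
    ext V (g : V.unop ⟶ Y.obj i)
    exact congrArg ((Sigma.ι (fun i => CategoryTheory.yoneda.obj (Y.obj i)) i).app V)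
      (Category.comp_id g)
  inv_hom_id := by
    ext V (y : Pt V.unop Y)
    have h := ConcreteCategory.congr_hom (NatTrans.congr_app (Sigma.ι_desc
      (fun i => (yonedaEquiv (F := pts.obj Y) (X := Y.obj i)).symm (ptι Y i)) (y.f PUnit.unit)) V)
      (y.φ PUnit.unit)
    exact h.trans (res_ptι y)

/-- The coproduct of representables is naturally the presheaf of points. -/
noncomputable def yonedaPtsIso :
    (FormalCoproduct.yoneda : FormalCoproduct.{u} C ⥤ _) ≅ pts :=
  NatIso.ofComponents (fun Y => (yonedaPtsApp Y : _)) fun {X Y} f => by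
    change (Sigma.desc fun i => CategoryTheory.yoneda.map (f.φ i) ≫
        Sigma.ι (fun j => CategoryTheory.yoneda.obj (Y.obj j)) (f.f i)) ≫ (yonedaPtsApp Y).hom =
      (yonedaPtsApp X).hom ≫ pts.map f
    refine Sigma.hom_ext _ _ fun i => ?_
    rw [Sigma.ι_desc_assoc, yonedaPtsApp, yonedaPtsApp, Category.assoc, Sigma.ι_desc,
      Sigma.ι_desc_assoc]
    apply yonedaEquiv.injective
    change res (𝟙 _ ≫ f.φ i) (ptι Y (f.f i)) = res (𝟙 _) (ptι X i) ≫ f
    rw [res_id]
    refine FormalCoproduct.hom_ext (funext fun _ => rfl) fun j => ?_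
    cases j
    refine (Category.comp_id _).trans ?_
    change (𝟙 _ ≫ f.φ i) ≫ 𝟙 _ = 𝟙 _ ≫ f.φ i
    simp

section ConstObj

/-- A constant family. -/
abbrev constObj (I : Type u) (V : C) : FormalCoproduct.{u} C := ⟨I, fun _ => V⟩

/-- The inclusions of a constant family. -/
abbrev cι {I : Type u} {V : C} (i : I) : Pt V (constObj I V) :=
  FormalCoproduct.Hom.fromIncl (Y := constObj I V) i (𝟙 V)

/-- Maps out of a constant family. -/
def cdesc {I : Type u} {V : C} {Y : FormalCoproduct.{u} C} (y : I → Pt V Y) :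
    constObj I V ⟶ Y where
  f i := (y i).f PUnit.unit
  φ i := (y i).φ PUnit.unit

@[reassoc (attr := simp)]
lemma cι_cdesc {I : Type u} {V : C} {Y : FormalCoproduct.{u} C} (y : I → Pt V Y) (i : I) :
    cι i ≫ cdesc y = y i :=
  FormalCoproduct.hom_ext (funext fun _ => rfl) fun j => by
    cases j
    exact (Category.comp_id _).trans (Category.id_comp _)

lemma const_ext {I : Type u} {V : C} {Y : FormalCoproduct.{u} C} {a b : constObj I V ⟶ Y}
    (h : ∀ i, cι i ≫ a = cι i ≫ b) : a = b := by
  rw [FormalCoproduct.hom_ext_iff']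
  intro i
  obtain ⟨h₁, h₂⟩ := (FormalCoproduct.hom_ext_iff' _ _).1 (h i) PUnit.unit
  exact ⟨h₁, (congrArg (· ≫ _) (Category.id_comp _)).symm.trans (h₂.trans (Category.id_comp _))⟩

end ConstObj

section Test

/-- The simplicial formal coproduct freely generated by a point in degree `N` over `V`. -/
def test (N : ℕ) (V : C) : SimplicialObject (FormalCoproduct.{u} C) where
  obj m := constObj (ULift.{u} (m.unop ⟶ ⦋N⦌)) V
  map g := cdesc fun θ => cι ⟨g.unop ≫ θ.down⟩
  map_id m := const_ext fun θ => by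
    rw [cι_cdesc, Category.comp_id]
    simp
  map_comp g h := const_ext fun θ => by
    rw [cι_cdesc, cι_cdesc_assoc, cι_cdesc]
    simp

variable {N : ℕ} {V W : C} {L L' : SimplicialObject (FormalCoproduct.{u} C)}

/-- The points of `test`. -/
def tι {m : SimplexCategoryᵒᵖ} (θ : m.unop ⟶ ⦋N⦌) : Pt V ((test N V).obj m) :=
  cι (I := ULift.{u} (m.unop ⟶ ⦋N⦌)) ⟨θ⟩

/-- Maps out of a degree of `test`. -/
def tdesc {m : SimplexCategoryᵒᵖ} {Y : FormalCoproduct.{u} C}
    (y : (m.unop ⟶ ⦋N⦌) → Pt V Y) : (test N V).obj m ⟶ Y :=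
  cdesc (I := ULift.{u} (m.unop ⟶ ⦋N⦌)) fun θ => y θ.down

@[reassoc (attr := simp)]
lemma tι_tdesc {m : SimplexCategoryᵒᵖ} {Y : FormalCoproduct.{u} C}
    (y : (m.unop ⟶ ⦋N⦌) → Pt V Y) (θ : m.unop ⟶ ⦋N⦌) : tι θ ≫ tdesc y = y θ :=
  cι_cdesc (I := ULift.{u} (m.unop ⟶ ⦋N⦌)) (fun θ => y θ.down) ⟨θ⟩

@[reassoc (attr := simp)]
lemma tι_map {m m' : SimplexCategoryᵒᵖ} (g : m ⟶ m') (θ : m.unop ⟶ ⦋N⦌) :
    (tι θ : Pt V ((test N V).obj m)) ≫ (test N V).map g = tι (g.unop ≫ θ) :=
  cι_cdesc (I := ULift.{u} (m.unop ⟶ ⦋N⦌)) _ ⟨θ⟩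

lemma tι_ext {m : SimplexCategoryᵒᵖ} {Y : FormalCoproduct.{u} C}
    {a b : (test N V).obj m ⟶ Y} (h : ∀ θ : m.unop ⟶ ⦋N⦌, tι θ ≫ a = tι θ ≫ b) : a = b :=
  const_ext (I := ULift.{u} (m.unop ⟶ ⦋N⦌)) fun θ => h θ.down

/-- The functoriality of `test` in the object. -/
def testMap (N : ℕ) (g : W ⟶ V) : test N W ⟶ test N V where
  app m := tdesc fun θ => res g (tι θ)
  naturality _ _ h := tι_ext fun θ => by simp [res]

@[reassoc (attr := simp)]
lemma tι_testMap (g : W ⟶ V) {m : SimplexCategoryᵒᵖ} (θ : m.unop ⟶ ⦋N⦌) :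
    tι θ ≫ (testMap N g).app m = res g (tι θ) :=
  tι_tdesc _ _

/-- The morphism defined by a point. -/
def fromTest (z : Pt V (L.obj (op ⦋N⦌))) : test N V ⟶ L where
  app m := tdesc fun θ => z ≫ L.map θ.op
  naturality _ _ h := tι_ext fun θ => by simp

@[reassoc (attr := simp)]
lemma tι_fromTest (z : Pt V (L.obj (op ⦋N⦌))) {m : SimplexCategoryᵒᵖ} (θ : m.unop ⟶ ⦋N⦌) :
    tι θ ≫ (fromTest z).app m = z ≫ L.map θ.op :=
  tι_tdesc _ _

/-- The point defined by a morphism. -/
def evalTest (a : test N V ⟶ L) : Pt V (L.obj (op ⦋N⦌)) :=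
  tι (𝟙 ⦋N⦌) ≫ a.app (op ⦋N⦌)

lemma evalTest_comp (a : test N V ⟶ L) (b : L ⟶ L') :
    evalTest (a ≫ b) = evalTest a ≫ b.app (op ⦋N⦌) :=
  (Category.assoc _ _ _).symm

lemma evalTest_fromTest (z : Pt V (L.obj (op ⦋N⦌))) : evalTest (fromTest z) = z := by
  rw [evalTest, tι_fromTest, op_id, L.map_id, Category.comp_id]

lemma evalTest_testMap_comp (g : W ⟶ V) (a : test N V ⟶ L) :
    evalTest (testMap N g ≫ a) = res g (evalTest a) :=
  tι_testMap_assoc g _ _

lemma test_hom_ext {a b : test N V ⟶ L} (h : evalTest a = evalTest b) : a = b := by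
  refine NatTrans.ext (funext fun m => tι_ext (V := V) fun θ => ?_)
  have key : (tι θ : Pt V ((test N V).obj m)) =
      tι (𝟙 ⦋N⦌) ≫ (test N V).map (θ.op : op ⦋N⦌ ⟶ m) :=
    ((tι_map _ _).trans (congrArg tι (Category.comp_id θ))).symm
  rw [key, Category.assoc, Category.assoc, a.naturality, b.naturality, ← Category.assoc,
    ← Category.assoc]
  exact congrArg (· ≫ L.map θ.op) h

end Test

section Fill

variable (J : GrothendieckTopology C)

/-- The sieve of local liftings of a point. -/
def liftSieve {A B : FormalCoproduct.{u} C} (f : A ⟶ B) {V : C} (e : Pt V B) : Sieve V where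
  arrows W g := ∃ z : Pt W A, z ≫ f = res g e
  downward_closed {W U g} := fun ⟨z, hz⟩ h => ⟨res h z, by
    rw [Category.assoc, hz, ← res_res]⟩

/-- Every point of the target lifts locally. -/
def LocalLift {A B : FormalCoproduct.{u} C} (f : A ⟶ B) : Prop :=
  ∀ (V : C) (e : Pt V B), liftSieve f e ∈ J V

lemma localLift_of_isSRCovering {A B : FormalCoproduct.{u} C} {f : A ⟶ B}
    (hf : Hyper.IsSRCovering J f) : LocalLift J f := fun V e => by
  refine J.superset_covering ?_ (J.pullback_stable (e.φ PUnit.unit) (hf (e.f PUnit.unit)))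
  rintro W g ⟨_, a, _, ⟨k⟩, hk⟩
  refine ⟨FormalCoproduct.Hom.fromIncl k.1 a, ?_⟩
  refine FormalCoproduct.hom_ext (funext fun _ => k.2) fun j => ?_
  cases j
  exact (Category.assoc _ _ _).trans hk

lemma localLift_of_isLocallySurjective {A B : FormalCoproduct.{u} C} {f : A ⟶ B}
    (hf : Presheaf.IsLocallySurjective J (FormalCoproduct.yoneda.map f)) : LocalLift J f :=
    fun V e => by
  refine J.superset_covering ?_
    (hf.imageSieve_mem ((yonedaPtsIso.inv.app B).app (op V) e))
  rintro W g ⟨t, ht⟩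
  refine ⟨(yonedaPtsIso.hom.app A).app (op W) t, ?_⟩
  refine (ConcreteCategory.congr_hom (NatTrans.congr_app (yonedaPtsIso.hom.naturality f) (op W))
    t).symm.trans ?_
  refine (congrArg ((yonedaPtsIso.hom.app B).app (op W)) ht).trans ?_
  refine (ConcreteCategory.congr_hom ((yonedaPtsIso.hom.app B).naturality g.op) _).trans ?_
  exact congrArg (res g) (ConcreteCategory.congr_hom
    (NatTrans.congr_app (yonedaPtsIso.inv_hom_id_app B) (op V)) e)

variable (K : SimplicialObject (FormalCoproduct.{u} C))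

/-- A boundary family of points is compatible. -/
def Compat (n : ℕ) {V : C} (y : Fin (n + 2) → Pt V (K.obj (op ⦋n⦌))) : Prop :=
  ∀ (m : SimplexCategory) (i j : Fin (n + 2)) (a b : m ⟶ ⦋n⦌),
    a ≫ SimplexCategory.δ i = b ≫ SimplexCategory.δ j → y i ≫ K.map a.op = y j ≫ K.map b.op

/-- The sieve of local fillers of a boundary family. -/
def fillSieve (n : ℕ) {V : C} (y : Fin (n + 2) → Pt V (K.obj (op ⦋n⦌))) : Sieve V where
  arrows W g := ∃ z : Pt W (K.obj (op ⦋n + 1⦌)), ∀ i, z ≫ K.δ i = res g (y i)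
  downward_closed {W U g} := fun ⟨z, hz⟩ h => ⟨res h z, fun i => by
    rw [Category.assoc, hz, ← res_res]⟩

/-- The sieve of objects where there is a point in degree zero. -/
def ptSieve (V : C) : Sieve V where
  arrows W _ := Nonempty (Pt W (K.obj (op ⦋0⦌)))
  downward_closed := fun ⟨z⟩ h => ⟨res h z⟩

/-- `K` has locally points, and local fillers of compatible boundary families. -/
structure LocFill : Prop where
  zero : ∀ V, ptSieve K V ∈ J V
  fill : ∀ (n : ℕ) (V : C) (y : Fin (n + 2) → Pt V (K.obj (op ⦋n⦌))),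
    Compat K n y → fillSieve K n y ∈ J V

lemma compat_zero {V : C} (y : Fin 2 → Pt V (K.obj (op ⦋0⦌))) : Compat K 0 y := by
  intro m i j a b h
  obtain rfl : a = b := by
    ext k : 3
    exact Subsingleton.elim (α := Fin 1) _ _
  have h' := congr($(h).toOrderHom 0)
  have h'' : i.succAbove 0 = j.succAbove 0 := by
    have ha : a.toOrderHom 0 = (0 : Fin 1) := Subsingleton.elim (α := Fin 1) _ _
    simp [SimplexCategory.δ] at h'
    rwa [ha] at h'
  obtain rfl : i = j := by
    clear h h'
    revert h''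
    revert i j
    decide
  rfl

lemma compat_succ (n : ℕ) {V : C} (y : Fin (n + 3) → Pt V (K.obj (op ⦋n + 1⦌)))
    (hy : ∀ (i j : Fin (n + 2)), i ≤ j → y j.succ ≫ K.δ i = y i.castSucc ≫ K.δ j) :
    Compat K (n + 1) y := by
  suffices H : ∀ (m : SimplexCategory) (p q : Fin (n + 3)) (a b : m ⟶ ⦋n + 1⦌), p < q →
      a ≫ SimplexCategory.δ p = b ≫ SimplexCategory.δ q →
        y p ≫ K.map a.op = y q ≫ K.map b.op by
    intro m p q a b h
    rcases lt_trichotomy p q with hpq | rfl | hpq
    · exact H m p q a b hpq h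
    · rw [(cancel_mono _).1 h]
    · exact (H m q p b a hpq h.symm).symm
  intro m p q a b hpq h
  obtain ⟨i, rfl⟩ : ∃ i : Fin (n + 2), i.castSucc = p :=
    ⟨p.castPred (ne_of_lt (lt_of_lt_of_le hpq (Fin.le_last q))), Fin.castSucc_castPred _ _⟩
  obtain ⟨j, rfl⟩ : ∃ j : Fin (n + 2), j.succ = q :=
    Fin.exists_succ_eq.2 (Fin.ne_zero_of_lt hpq)
  have hij : i ≤ j := Fin.castSucc_lt_succ_iff.1 hpq
  have hb : ∀ k, b.toOrderHom k ≠ i := fun k hk => by
    have h' := congr($(h).toOrderHom k)
    simp [SimplexCategory.δ, hk] at h'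
    rw [Fin.succAbove_of_castSucc_lt _ _ (Fin.castSucc_lt_succ_iff.2 hij)] at h'
    exact Fin.succAbove_ne _ _ h'
  obtain ⟨c, rfl⟩ := SimplexCategory.eq_comp_δ_of_not_surjective' b i hb
  have ha : a = c ≫ SimplexCategory.δ j := by
    apply (cancel_mono (SimplexCategory.δ i.castSucc)).1
    rw [h, Category.assoc, Category.assoc, SimplexCategory.δ_comp_δ hij]
  subst ha
  have h3 := hy i j hij
  simp only [SimplicialObject.δ] at h3
  simp only [op_comp, K.map_comp, ← Category.assoc]
  rw [h3]

section Boundary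

variable {K} {n : ℕ} {V : C} {y : Fin (n + 2) → Pt V (K.obj (op ⦋n⦌))}

lemma exists_factor {m : SimplexCategory} (hm : m.len ≤ n) (θ : m ⟶ ⦋n + 1⦌) :
    ∃ (i : Fin (n + 2)) (a : m ⟶ ⦋n⦌), θ = a ≫ SimplexCategory.δ i :=
  SimplexCategory.eq_comp_δ_of_not_surjective θ fun h => by
    have := Fintype.card_le_of_surjective _ h
    simp at this
    omega

/-- The value of a boundary family on a simplex of the boundary. -/
noncomputable def bdVal (y : Fin (n + 2) → Pt V (K.obj (op ⦋n⦌))) {m : SimplexCategory}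
    (hm : m.len ≤ n) (θ : m ⟶ ⦋n + 1⦌) : Pt V (K.obj (op m)) :=
  y (exists_factor hm θ).choose ≫ K.map (exists_factor hm θ).choose_spec.choose.op

lemma bdVal_eq (hy : Compat K n y) {m : SimplexCategory} (hm : m.len ≤ n) (θ : m ⟶ ⦋n + 1⦌)
    (i : Fin (n + 2)) (a : m ⟶ ⦋n⦌) (h : θ = a ≫ SimplexCategory.δ i) :
    bdVal y hm θ = y i ≫ K.map a.op :=
  hy m _ _ _ _ ((exists_factor hm θ).choose_spec.choose_spec.symm.trans h)

/-- The morphism of truncated simplicial objects defined by a boundary family. -/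
noncomputable def bdHom (hy : Compat K n y) :
    (SimplicialObject.truncation n).obj (test (n + 1) V) ⟶
      (SimplicialObject.truncation n).obj K where
  app m := tdesc (m := op m.unop.obj) fun θ => bdVal y m.unop.property θ
  naturality m m' g := tι_ext (m := op m.unop.obj) fun θ => by
    obtain ⟨i, a, ha⟩ := exists_factor m.unop.property θ
    change tι θ ≫ (test (n + 1) V).map ((SimplexCategory.Truncated.inclusion n).op.map g) ≫
        tdesc (m := op m'.unop.obj) (fun θ => bdVal y m'.unop.property θ) =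
      tι θ ≫ tdesc (m := op m.unop.obj) (fun θ => bdVal y m.unop.property θ) ≫
        K.map ((SimplexCategory.Truncated.inclusion n).op.map g)
    rw [← Category.assoc, ← Category.assoc]
    refine ((congrArg (· ≫ _) (tι_map _ _)).trans (tι_tdesc _ _)).trans ?_
    refine Eq.trans ?_ (congrArg (· ≫ _) (tι_tdesc _ _)).symm
    rw [bdVal_eq hy m.unop.property θ i a ha,
      bdVal_eq hy m'.unop.property _ i
        (((SimplexCategory.Truncated.inclusion n).op.map g).unop ≫ a) (by rw [ha, Category.assoc]),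
      op_comp, K.map_comp, Category.assoc]
    rfl

variable [∀ (F : (SimplexCategory.Truncated n)ᵒᵖ ⥤ FormalCoproduct.{u} C),
  (SimplexCategory.Truncated.inclusion n).op.HasRightKanExtension F]

lemma fillSieve_mem_of_localLift
    (h : LocalLift J (((SimplicialObject.coskAdj n).unit.app K).app (op ⦋n + 1⦌)))
    (hy : Compat K n y) : fillSieve K n y ∈ J V := by
  let H := (SimplicialObject.coskAdj n).homEquiv _ _ (bdHom hy)
  refine J.superset_covering ?_ (h V (evalTest H))
  rintro W g ⟨z, hz⟩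
  have h₁ : fromTest z ≫ (SimplicialObject.coskAdj n).unit.app K = testMap (n + 1) g ≫ H := by
    apply test_hom_ext
    rw [evalTest_comp, evalTest_fromTest, evalTest_testMap_comp]
    exact hz
  have h₂ : (SimplicialObject.truncation n).map (fromTest z) =
      (SimplicialObject.truncation n).map (testMap (n + 1) g) ≫ bdHom hy := by
    apply ((SimplicialObject.coskAdj n).homEquiv _ _).injective
    refine Eq.trans ?_ (h₁.trans ((SimplicialObject.coskAdj n).homEquiv_naturality_left
      (testMap (n + 1) g) (bdHom hy)).symm)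
    rw [Adjunction.homEquiv_unit]
    exact (SimplicialObject.coskAdj n).unit_naturality (fromTest z)
  refine ⟨z, fun i => ?_⟩
  have h₃ : tι (m := op ⦋n⦌) (SimplexCategory.δ i) ≫ (fromTest z).app (op ⦋n⦌) =
      tι (m := op ⦋n⦌) (SimplexCategory.δ i) ≫ (testMap (n + 1) g).app (op ⦋n⦌) ≫
        (bdHom hy).app (op ⟨⦋n⦌, le_refl n⟩) :=
    congr(tι (m := op ⦋n⦌) (SimplexCategory.δ i) ≫ $(h₂).app (op ⟨⦋n⦌, le_refl n⟩))
  refine ((tι_fromTest z _).symm.trans h₃).trans ?_
  refine (tι_testMap_assoc g _ _).trans ?_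
  refine congrArg ((FormalCoproduct.incl.{u} C).map g ≫ ·) ((tι_tdesc _ _).trans ?_)
  rw [bdVal_eq hy (le_refl n) _ i (𝟙 _) (Category.id_comp _).symm, op_id, K.map_id]
  exact Category.comp_id _

end Boundary

end Fill

section Hypercovering

variable {J : GrothendieckTopology C}

/-- Hypercoverings of the final object have local fillers. -/
theorem locFill_of_isHypercoveringSite {K : SimplicialObject (FormalCoproduct.{u} C)}
    [∀ (n : ℕ) (F : (SimplexCategory.Truncated n)ᵒᵖ ⥤ FormalCoproduct.{u} C),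
      (SimplexCategory.Truncated.inclusion n).op.HasRightKanExtension F]
    (hK : Hyper.IsHypercoveringSite J K) : LocFill J K where
  zero V := by
    refine J.superset_covering ?_ (hK.1.imageSieve_mem
      ((terminal.from (CategoryTheory.yoneda.obj V)).app (op V) (𝟙 V)))
    rintro W g ⟨t, -⟩
    exact ⟨(yonedaPtsIso.hom.app _).app (op W) t⟩
  fill n V y hy := by
    cases n with
    | succ n =>
      exact fillSieve_mem_of_localLift J
        (localLift_of_isLocallySurjective J (hK.2.2 (n + 1) (Nat.succ_pos n))) hy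
    | zero =>
      let a (i : Fin 2) : CategoryTheory.yoneda.obj V ⟶
          FormalCoproduct.yoneda.obj (K.obj (op ⦋0⦌)) :=
        yonedaEquiv.symm ((yonedaPtsIso.inv.app _).app (op V) (y i))
      refine J.superset_covering ?_
        (hK.2.1.imageSieve_mem ((prod.lift (a 1) (a 0)).app (op V) (𝟙 V)))
      rintro W g ⟨t, ht⟩
      refine ⟨(yonedaPtsIso.hom.app _).app (op W) t, fun i => ?_⟩
      refine (ConcreteCategory.congr_hom
        (NatTrans.congr_app (yonedaPtsIso.hom.naturality (K.δ i)) (op W)) t).symm.trans ?_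
      have key : (FormalCoproduct.yoneda.map (K.δ i)).app (op W) t = (a i).app (op W) g := by
        have e : (prod.lift (a 1) (a 0)).app (op W) g =
            (FormalCoproduct.yoneda.obj (K.obj (op ⦋0⦌)) ⨯
              FormalCoproduct.yoneda.obj (K.obj (op ⦋0⦌))).map g.op
                ((prod.lift (a 1) (a 0)).app (op V) (𝟙 V)) := by
          refine Eq.trans ?_ (ConcreteCategory.congr_hom
            ((prod.lift (a 1) (a 0)).naturality g.op) (𝟙 V))
          exact congrArg ((prod.lift (a 1) (a 0)).app (op W)) (Category.comp_id g).symm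
        rw [← e] at ht
        match i with
        | 0 =>
          have h := congrArg ((prod.snd : FormalCoproduct.yoneda.obj (K.obj (op ⦋0⦌)) ⨯
            FormalCoproduct.yoneda.obj (K.obj (op ⦋0⦌)) ⟶ _).app (op W)) ht
          simpa only [← ConcreteCategory.comp_apply, ← NatTrans.comp_app, prod.lift_snd] using h
        | 1 =>
          have h := congrArg ((prod.fst : FormalCoproduct.yoneda.obj (K.obj (op ⦋0⦌)) ⨯
            FormalCoproduct.yoneda.obj (K.obj (op ⦋0⦌)) ⟶ _).app (op W)) ht
          simpa only [← ConcreteCategory.comp_apply, ← NatTrans.comp_app, prod.lift_fst] using h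
      refine (congrArg ((yonedaPtsIso.hom.app _).app (op W)) key).trans ?_
      refine (ConcreteCategory.congr_hom ((yonedaPtsIso.hom.app _).naturality g.op) _).trans ?_
      exact congrArg (res g) (ConcreteCategory.congr_hom
        (NatTrans.congr_app (yonedaPtsIso.inv_hom_id_app _) (op V)) (y i))

/-- Hypercoverings of an object have local fillers on the slice site. -/
theorem locFill_of_isHypercovering {X : C} {K : SimplicialObject (FormalCoproduct.{u} (Over X))}
    [∀ (n : ℕ) (F : (SimplexCategory.Truncated n)ᵒᵖ ⥤ FormalCoproduct.{u} (Over X)),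
      (SimplexCategory.Truncated.inclusion n).op.HasRightKanExtension F]
    (hK : Hyper.IsHypercovering J X K) : LocFill (J.over X) K where
  zero V := by
    rw [GrothendieckTopology.mem_over_iff]
    refine J.superset_covering ?_ (J.pullback_stable V.hom hK.1)
    rintro W g ⟨_, a, _, ⟨k⟩, hk⟩
    exact ⟨Over.mk (g ≫ V.hom), Over.homMk g, 𝟙 W,
      ⟨FormalCoproduct.Hom.fromIncl k (Over.homMk a hk)⟩, (Category.id_comp g).symm⟩
  fill n V y hy :=
    fillSieve_mem_of_localLift (J.over X) (localLift_of_isSRCovering (J.over X) (hK.2 n)) hy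

end Hypercovering

end Groth.Agent.SiteCoh.Hyp
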