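import Groth.Agent.SiteCoh.CompactPull
import Mathlib.CategoryTheory.Abelian.GrothendieckAxioms.Basic
import Mathlib.Algebra.Category.Grp.AB

/-!
# Cohomology of a compact relatively Hausdorff subspace from that of its neighbourhoods
-/

set_option autoImplicit false

universe u

open CategoryTheory CategoryTheory.Limits Opposite TopologicalSpace

namespace Groth.Agent.SiteCoh.Compact

open Pull

variable {X Z : TopCat.{u}} (g : Z ⟶ X)

/-- The open neighbourhoods of a subspace. -/
abbrev Nbhds : ObjectProperty (Opens X)ᵒᵖ := fun U => Set.range g ⊆ (U.unop : Set X)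

instance isFiltered_nbhds : IsFiltered (Nbhds g).FullSubcategory where
  cocone_objs A B := ⟨⟨op (A.obj.unop ⊓ B.obj.unop), Set.subset_inter A.property B.property⟩,
    ObjectProperty.homMk (homOfLE inf_le_left).op, ObjectProperty.homMk (homOfLE inf_le_right).op,
    trivial⟩
  cocone_maps _ B _ _ := ⟨B, 𝟙 B, ObjectProperty.hom_ext _ (Subsingleton.elim _ _)⟩
  nonempty := ⟨⟨op ⊤, fun _ _ => trivial⟩⟩

/-- The colimit over the neighbourhoods. -/
noncomputable abbrev nbhdColim : ((Opens X)ᵒᵖ ⥤ AddCommGrpCat.{u}) ⥤ AddCommGrpCat.{u} :=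
  (Functor.whiskeringLeft _ _ AddCommGrpCat.{u}).obj (Nbhds g).ι ⋙ colim

/-- Restriction to the subspace of sections near it. -/
noncomputable def nbhdCocone (F : CohTop.Ab X) : Cocone ((Nbhds g).ι ⋙ F.obj) where
  pt := ((CohTop.pull g).obj F).obj.obj (op ⊤)
  ι :=
    { app := fun U => restrTop g F U.obj.unop fun z => U.property ⟨z, rfl⟩
      naturality := fun U V i => by
        ext t
        exact restrTop_res F i.hom.unop _ t }

/-- The restriction map from the colimit of sections near the subspace. -/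
noncomputable def nbhdDesc (F : CohTop.Ab X) :
    (nbhdColim g).obj F.obj ⟶ ((CohTop.pull g).obj F).obj.obj (op ⊤) :=
  colimit.desc _ (nbhdCocone g F)

lemma nbhdDesc_ι (F : CohTop.Ab X) (U : (Nbhds g).FullSubcategory)
    (t : F.obj.obj U.obj) :
    nbhdDesc g F (colimit.ι ((Nbhds g).ι ⋙ F.obj) U t) =
      restrTop g F U.obj.unop (fun z => U.property ⟨z, rfl⟩) t :=
  ConcreteCategory.congr_hom (colimit.ι_desc (nbhdCocone g F) U) t

variable {g} in
lemma bijective_nbhdDesc (hg : IsCompactSub g) (F : CohTop.Ab X) :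
    Function.Bijective (nbhdDesc g F) := by
  refine ⟨(injective_iff_map_eq_zero _).2 fun a ha => ?_, fun τ => ?_⟩
  · obtain ⟨U, t, rfl⟩ := Concrete.colimit_exists_rep _ a
    replace ha := (nbhdDesc_ι g F U t).symm.trans ha
    obtain ⟨W, hW, hWz, hzero⟩ := exists_res_eq_zero F _ t ha
    let V : (Nbhds g).FullSubcategory := ⟨op W, fun _ ⟨z, hz⟩ => hz ▸ hWz z⟩
    let i : U ⟶ V := ObjectProperty.homMk (homOfLE hW).op
    refine (ConcreteCategory.congr_hom (colimit.w ((Nbhds g).ι ⋙ F.obj) i) t).symm.trans ?_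
    refine Eq.trans (congrArg (colimit.ι ((Nbhds g).ι ⋙ F.obj) V)
      (?_ : _ = (0 : F.obj.obj V.obj))) (map_zero _)
    exact hzero
  · obtain ⟨O, hO, t, rfl⟩ := exists_restrTop_eq hg F τ
    exact ⟨_, nbhdDesc_ι g F ⟨op O, fun _ ⟨z, hz⟩ => hz ▸ hO z⟩ t⟩

variable {g} in
/-- Sections near a compact subspace are the sections on it. -/
noncomputable def nbhdIso (hg : IsCompactSub g) :
    sheafToPresheaf _ AddCommGrpCat.{u} ⋙ nbhdColim g ≅
      CohTop.pull g ⋙ sectionsAt (Opens.grothendieckTopology Z) (⊤ : Opens Z) :=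
  NatIso.ofComponents
    (fun F => @asIso _ _ _ _ (nbhdDesc g F)
      ((ConcreteCategory.isIso_iff_bijective _).2 (bijective_nbhdDesc hg F)))
    (fun {F G} φ => by
      refine colimit.hom_ext fun U => ?_
      refine (colimit.ι_map_assoc (Functor.whiskerLeft (Nbhds g).ι φ.hom) U
        (nbhdDesc g G)).trans ?_
      ext t
      refine (nbhdDesc_ι g G U _).trans ?_
      refine Eq.trans ?_ (congrArg (fun s => ((CohTop.pull g).map φ).hom.app (op ⊤) s)
        (nbhdDesc_ι g F U t)).symm
      exact (restrTop_naturality φ _ t).symm)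

variable {g} in
/-- The cohomology of a compact subspace is the colimit of that of its neighbourhoods. -/
theorem nonempty_colim_iso (hg : IsCompactSub g) (F : CohTop.Ab X) (p : ℕ) :
    Nonempty ((nbhdColim g).obj
        ((Sheaf.cohomologyPresheafFunctor (Opens.grothendieckTopology X) p).obj F) ≅
      AddCommGrpCat.of (CohTop.H ((CohTop.pull g).obj F) p)) := by
  have := LH.pull_additive (a := g)
  have : (nbhdColim g).Additive := Functor.additive_of_preserves_binary_products _
  obtain ⟨e⟩ := nonempty_pull_sections_derived hg F p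
  exact ⟨(nbhdColim g).mapIso
      ((sectionsDerivedIso (Opens.grothendieckTopology X) p).app F).symm ≪≫
    ((rightDerivedCompExactIso (sheafToPresheaf _ AddCommGrpCat.{u}) (nbhdColim g) p).app F).symm ≪≫
    (rightDerivedCongr (nbhdIso hg) p).app F ≪≫ e⟩

end Groth.Agent.SiteCoh.Compact
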