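import Groth.Agent.SiteCoh.CompactPull

/-!
# Stalks of higher direct images along proper relatively Hausdorff maps
-/

set_option autoImplicit false

universe u

open CategoryTheory CategoryTheory.Limits Opposite TopologicalSpace

namespace Groth.Agent.SiteCoh.Compact

open Pull

variable {X Y : TopCat.{u}} (f : X ⟶ Y) (y : Y)

/-- The inclusion of a fibre. -/
noncomputable abbrev fibIncl : TopCat.of (f ⁻¹' {y}) ⟶ X :=
  TopCat.ofHom ⟨((↑) : f ⁻¹' {y} → X), continuous_subtype_val⟩

variable {f} in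
lemma isCompactSub_fibIncl (hf : IsProperMap f)
    (hs : ∀ x x' : X, f x = f x' → x ≠ x' →
      ∃ U V : Set X, IsOpen U ∧ IsOpen V ∧ x ∈ U ∧ x' ∈ V ∧ Disjoint U V) :
    IsCompactSub (fibIncl f y) :=
  isCompactSub_incl (hf.isCompact_preimage isCompact_singleton)
    (fun x hx x' hx' => hs x x' ((Set.mem_singleton_iff.1 hx).trans (Set.mem_singleton_iff.1 hx').symm))

lemma fib_mem {U : Opens Y} (hy : y ∈ U) (z : TopCat.of (f ⁻¹' {y})) :
    fibIncl f y z ∈ (Opens.map f).obj U := by
  change f z.1 ∈ U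
  rw [show f z.1 = y from z.2]
  exact hy

/-- The restrictions of the sections near the fibre. -/
noncomputable def fibreCocone (G : CohTop.Ab X) :
    Cocone ((OpenNhds.inclusion y).op ⋙ ((CohTop.push f).obj G).obj) where
  pt := ((CohTop.pull (fibIncl f y)).obj G).obj.obj (op ⊤)
  ι :=
    { app := fun U => restrTop (fibIncl f y) G ((Opens.map f).obj U.unop.1) (fib_mem f y U.unop.2)
      naturality := fun U V i => by
        ext t
        exact restrTop_res G ((Opens.map f).map ((OpenNhds.inclusion y).map i.unop))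
          (fib_mem f y V.unop.2) t }

/-- The restriction of the stalk of a direct image to the fibre. -/
noncomputable def stalkToFibre (G : CohTop.Ab X) :
    TopCat.Presheaf.stalk ((CohTop.push f).obj G).obj y ⟶
      ((CohTop.pull (fibIncl f y)).obj G).obj.obj (op ⊤) :=
  colimit.desc _ (fibreCocone f y G)

lemma stalkToFibre_germ (G : CohTop.Ab X) {U : Opens Y} (hy : y ∈ U)
    (t : G.obj.obj (op ((Opens.map f).obj U))) :
    stalkToFibre f y G (TopCat.Presheaf.germ ((CohTop.push f).obj G).obj U y hy t) =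
      restrTop (fibIncl f y) G ((Opens.map f).obj U) (fib_mem f y hy) t :=
  ConcreteCategory.congr_hom (colimit.ι_desc (fibreCocone f y G) (op (⟨U, hy⟩ : OpenNhds y))) t

variable {f} in
lemma exists_tube (hf : IsProperMap f) {O : Opens X} (h : f ⁻¹' {y} ⊆ O) :
    ∃ U : Opens Y, y ∈ U ∧ (Opens.map f).obj U ≤ O := by
  refine ⟨⟨(f '' (O : Set X)ᶜ)ᶜ, (hf.isClosedMap _ O.2.isClosed_compl).isOpen_compl⟩, ?_, ?_⟩
  · rintro ⟨x, hx, hxy⟩
    exact hx (h hxy)
  · intro x hx
    by_contra hxO
    exact hx ⟨x, hxO, rfl⟩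

variable {f} in
lemma bijective_stalkToFibre (hf : IsProperMap f)
    (hs : ∀ x x' : X, f x = f x' → x ≠ x' →
      ∃ U V : Set X, IsOpen U ∧ IsOpen V ∧ x ∈ U ∧ x' ∈ V ∧ Disjoint U V)
    (G : CohTop.Ab X) : Function.Bijective (stalkToFibre f y G) := by
  have hg := isCompactSub_fibIncl y hf hs
  refine ⟨(injective_iff_map_eq_zero _).2 fun a ha => ?_, fun τ => ?_⟩
  · obtain ⟨U, hy, t, rfl⟩ := TopCat.Presheaf.exists_germ_eq ((CohTop.push f).obj G).obj a
    rw [stalkToFibre_germ] at ha
    obtain ⟨W, hW, hWz, hzero⟩ := exists_res_eq_zero G (fib_mem f y hy) t ha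
    obtain ⟨V, hyV, hVW⟩ := exists_tube y hf (O := W) fun x hx => hWz ⟨x, hx⟩
    refine (TopCat.Presheaf.germ_res_apply ((CohTop.push f).obj G).obj (Opens.infLELeft U V) y
      ⟨hy, hyV⟩ t).symm.trans ?_
    refine Eq.trans (congrArg (TopCat.Presheaf.germ ((CohTop.push f).obj G).obj (U ⊓ V) y ⟨hy, hyV⟩)
      (?_ : _ = (0 : G.obj.obj (op ((Opens.map f).obj (U ⊓ V)))))) (map_zero _)
    have h' := congrArg (G.obj.map (homOfLE
      (fun x hx => hVW hx.2 : (Opens.map f).obj (U ⊓ V) ≤ W)).op) hzero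
    rw [map_zero, ← ConcreteCategory.comp_apply, ← Functor.map_comp] at h'
    exact h'
  · obtain ⟨O, hO, t, rfl⟩ := exists_restrTop_eq hg G τ
    obtain ⟨V, hyV, hVO⟩ := exists_tube y hf (O := O) fun x hx => hO ⟨x, hx⟩
    refine ⟨TopCat.Presheaf.germ ((CohTop.push f).obj G).obj V y hyV
      (G.obj.map (homOfLE hVO).op t), ?_⟩
    rw [stalkToFibre_germ]
    exact restrTop_res G (homOfLE hVO) _ t

/-- The stalk functor of sheaves. -/
noncomputable abbrev stalkSh {T : TopCat.{u}} (t : T) : CohTop.Ab T ⥤ AddCommGrpCat.{u} :=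
  TopCat.Sheaf.forget AddCommGrpCat.{u} T ⋙ TopCat.Presheaf.stalkFunctor AddCommGrpCat.{u} t

instance stalkSh_additive {T : TopCat.{u}} (t : T) : (stalkSh t).Additive :=
  inferInstanceAs (Functor.Additive
    (TopCat.Sheaf.forget AddCommGrpCat.{u} T ⋙ TopCat.Presheaf.stalkFunctor AddCommGrpCat.{u} t))

instance stalkSh_preservesFiniteLimits {T : TopCat.{u}} (t : T) :
    PreservesFiniteLimits (stalkSh t) :=
  inferInstanceAs (PreservesFiniteLimits
    (TopCat.Sheaf.forget AddCommGrpCat.{u} T ⋙ TopCat.Presheaf.stalkFunctor AddCommGrpCat.{u} t))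

instance stalkSh_preservesFiniteColimits {T : TopCat.{u}} (t : T) :
    PreservesFiniteColimits (stalkSh t) :=
  inferInstanceAs (PreservesFiniteColimits
    (TopCat.Sheaf.forget AddCommGrpCat.{u} T ⋙ TopCat.Presheaf.stalkFunctor AddCommGrpCat.{u} t))

variable {f} in
/-- Stalks of direct images are sections on fibres, naturally. -/
noncomputable def stalkPushIso (hf : IsProperMap f)
    (hs : ∀ x x' : X, f x = f x' → x ≠ x' →
      ∃ U V : Set X, IsOpen U ∧ IsOpen V ∧ x ∈ U ∧ x' ∈ V ∧ Disjoint U V) :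
    CohTop.push f ⋙ stalkSh y ≅
      CohTop.pull (fibIncl f y) ⋙ sectionsAt (Opens.grothendieckTopology (TopCat.of (f ⁻¹' {y})))
        (⊤ : Opens (TopCat.of (f ⁻¹' {y}))) :=
  NatIso.ofComponents
    (fun G => @asIso _ _ _ _ (stalkToFibre f y G)
      ((ConcreteCategory.isIso_iff_bijective _).2 (bijective_stalkToFibre y hf hs G)))
    (fun {G G'} φ => by
      refine TopCat.Presheaf.stalk_hom_ext _ fun U hU => ?_
      ext t
      change stalkToFibre f y G' ((TopCat.Presheaf.stalkFunctor AddCommGrpCat.{u} y).map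
          ((CohTop.push f).map φ).hom (TopCat.Presheaf.germ ((CohTop.push f).obj G).obj U y hU t)) =
        ((CohTop.pull (fibIncl f y)).map φ).hom.app (op ⊤)
          (stalkToFibre f y G (TopCat.Presheaf.germ ((CohTop.push f).obj G).obj U y hU t))
      rw [TopCat.Presheaf.stalkFunctor_map_germ_apply, stalkToFibre_germ, stalkToFibre_germ,
        restrTop_naturality]
      rfl)

variable {f} in
/-- The stalks of the higher direct images along a proper map are the cohomology of the fibres. -/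
theorem nonempty_stalk_rpush_iso (hf : IsProperMap f)
    (hs : ∀ x x' : X, f x = f x' → x ≠ x' →
      ∃ U V : Set X, IsOpen U ∧ IsOpen V ∧ x ∈ U ∧ x' ∈ V ∧ Disjoint U V)
    (F : CohTop.Ab X) (p : ℕ) :
    Nonempty (CohTop.stalk ((CohTop.Rpush f p).obj F) y ≅
      AddCommGrpCat.of (CohTop.H ((CohTop.pull (fibIncl f y)).obj F) p)) := by
  have := LH.pull_additive (a := fibIncl f y)
  obtain ⟨e⟩ := nonempty_pull_sections_derived (isCompactSub_fibIncl y hf hs) F p
  exact ⟨((rightDerivedCompExactIso (CohTop.push f) (stalkSh y) p).app F).symm ≪≫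
    (rightDerivedCongr (stalkPushIso y hf hs) p).app F ≪≫ e⟩

end Groth.Agent.SiteCoh.Compact
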