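import Groth.Agent.SiteCoh.CechMore
import Groth.Agent.SiteCoh.Criterion

/-!
# Cech acyclicity of flasque sheaves; push forward of injective sheaves
-/

set_option autoImplicit false

universe u

open CategoryTheory CategoryTheory.Limits Opposite TopologicalSpace

namespace Groth.Agent.SiteCoh

variable {X : TopCat.{u}}

/-- A `0`-cocycle of a sheaf is given by a section over the union. -/
lemma exists_section_of_cocycle (F : CohTop.Ab X) {ι : Type u} (V : ι → Opens X)
    (z : (Cech.cx F.obj V).X 0) (hz : (Cech.cx F.obj V).d 0 1 z = 0) :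
    ∃ t : F.obj.obj (op (iSup V)), ∀ a : Fin 1 → ι,
      Cech.ev F.obj V a z =
        F.obj.map (homOfLE ((leOfHom (Pi.π (fun k => V (a k)) 0)).trans (le_iSup V (a 0)))).op t := by
  obtain ⟨t, ht, -⟩ := existsUnique_amalgamation F (fun i => homOfLE (le_iSup V i))
    (ofArrows_mem_of_le V (le_iSup V) le_rfl)
    (fun i => Cech.val F.obj V z fun _ => ⟨i, 𝟙 (V i)⟩) fun i j Z f g _ => by
    have := Cech.val_d F.obj V z (Fin.cons ⟨j, g⟩ fun _ : Fin 1 => (⟨i, f⟩ : (i : ι) × (Z ⟶ V i)))
    rw [hz, Fin.sum_univ_two] at this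
    simp only [Fin.val_zero, pow_zero, one_zsmul, Fin.val_one, pow_one, neg_smul,
      Cech.val, map_zero] at this
    have h' := eq_of_sub_eq_zero ((sub_eq_add_neg _ _).trans this.symm)
    refine (Cech.map_val F.obj V z f _).trans (Eq.trans ?_ (Cech.map_val F.obj V z g _).symm)
    simp only [Category.comp_id]
    refine Eq.trans ?_ (h'.trans ?_)
    · exact congrArg (Cech.val F.obj V z) (funext fun k => by fin_cases k; rfl)
    · exact congrArg (Cech.val F.obj V z) (funext fun k => by fin_cases k; rfl)
  refine ⟨t, fun a => ?_⟩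
  rw [show (homOfLE ((leOfHom (Pi.π (fun k => V (a k)) 0)).trans (le_iSup V (a 0)))) =
    Pi.π (fun k => V (a k)) 0 ≫ homOfLE (le_iSup V (a 0)) from Subsingleton.elim _ _, op_comp,
    F.obj.map_comp, ConcreteCategory.comp_apply, ht, Cech.map_val, Cech.ev_eq_val_taut]
  exact congrArg (Cech.val F.obj V z) (funext fun k => by
    obtain rfl : k = 0 := Fin.fin_one_eq_zero k
    rw [Category.comp_id])

/-- Flasque sheaves are Cech acyclic. -/
lemma isZero_cechHTop_of_isFlasque (F : CohTop.Ab X) [TopCat.Sheaf.IsFlasque F] {ι : Type u}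
    (V : ι → Opens X) (p : ℕ) : IsZero (CohTop.cechH F.obj V (p + 1)) := by
  suffices ∀ (G : CohTop.Ab X), TopCat.Sheaf.IsFlasque G →
      IsZero (CohTop.cechH G.obj V (p + 1)) from this F inferInstance
  intro G hG
  have key : ∀ (G : CohTop.Ab X), TopCat.Sheaf.IsFlasque G →
      TopCat.Sheaf.IsFlasque (injEmbed G).X₃ ∧
      ∀ U, Function.Surjective ((injEmbed G).g.hom.app (op U)) := fun G hG => by
    have : TopCat.Sheaf.IsFlasque (injEmbed G).X₁ := hG
    have : TopCat.Sheaf.IsFlasque (injEmbed G).X₂ := isFlasque_of_injective (Injective.under G)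
    exact ⟨TopCat.Sheaf.IsFlasque.of_shortExact_of_isFlasque₁₂ (injEmbed_shortExact G),
      fun U => (AddCommGrpCat.epi_iff_surjective _).1
        (TopCat.Sheaf.IsFlasque.epi_of_shortExact (injEmbed_shortExact G))⟩
  induction p generalizing G with
  | zero =>
    obtain ⟨hQ, hs⟩ := key G hG
    have := (injEmbed_shortExact G).mono_f
    have hI : Injective (injEmbed G).X₂ := inferInstanceAs (Injective (Injective.under G))
    refine Cech.isZero_homology_kernel_one V (injEmbed G).f.hom (injEmbed G).g.hom
      (fun a => sections_injective (injEmbed G).f _)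
      (fun a y hy => sections_exact (injEmbed_shortExact G) _ y hy)
      (by ext Z x; exact sections_comp_eq_zero (S := injEmbed G) _ x)
      (isZero_cechHTop_of_injective _ V 0) fun z hz => ?_
    obtain ⟨t, ht⟩ := exists_section_of_cocycle (injEmbed G).X₃ V z hz
    obtain ⟨s, hs⟩ := hs (iSup V) t
    let hle : ∀ a : Fin 1 → ι, Cech.inter V a ≤ iSup V := fun a =>
      (leOfHom (Pi.π (fun k => V (a k)) 0)).trans (le_iSup V (a 0))
    refine ⟨Cech.mk _ V fun a => (injEmbed G).X₂.obj.map (homOfLE (hle a)).op s, ?_, ?_⟩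
    · refine Cech.ext _ V fun b => ?_
      rw [Cech.ev_d, Fin.sum_univ_two, Cech.ev_mk, Cech.ev_mk, ← ConcreteCategory.comp_apply,
        ← ConcreteCategory.comp_apply, ← Functor.map_comp, ← Functor.map_comp, ← op_comp,
        ← op_comp, Subsingleton.elim (Cech.face V b 1 ≫ homOfLE (hle _))
          (Cech.face V b 0 ≫ homOfLE (hle _))]
      simp
    · refine Cech.ext _ V fun a => ?_
      rw [Cech.ev_map, Cech.ev_mk, ht a, NatTrans.naturality_apply, hs]
  | succ p ih =>
    obtain ⟨hQ, hs⟩ := key G hG
    have := (injEmbed_shortExact G).mono_f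
    have hI : Injective (injEmbed G).X₂ := inferInstanceAs (Injective (Injective.under G))
    exact Cech.isZero_homology_kernel V (injEmbed G).f.hom (injEmbed G).g.hom
      (fun a => sections_injective (injEmbed G).f _) (fun a => hs _)
      (fun a y hy => sections_exact (injEmbed_shortExact G) _ y hy)
      (by ext Z x; exact sections_comp_eq_zero (S := injEmbed G) _ x) p
      (isZero_cechHTop_of_injective _ V (p + 1)) (ih _ hQ)

end Groth.Agent.SiteCoh
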