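import Groth.Agent.SiteCoh.CechMore

/-!
# Cech acyclicity of the restriction of an injective presheaf along a product preserving functor
-/

set_option autoImplicit false

universe u

open CategoryTheory CategoryTheory.Limits Opposite

namespace Groth.Agent.SiteCoh.Cech

variable {E E' : Type u} [SmallCategory E] [SmallCategory E'] [HasFiniteProducts E]
  (G : E ⥤ E') [∀ n : ℕ, PreservesLimitsOfShape (Discrete (Fin n)) G]
  (Q : E'ᵒᵖ ⥤ AddCommGrpCat.{u}) {ι : Type u} (W : ι → E)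

/-- The morphism into `G (inter W a)` with given components. -/
noncomputable def liftG {p : ℕ} (a : Fin (p + 1) → ι) {V : E'}
    (s : ∀ k, V ⟶ G.obj (W (a k))) : V ⟶ G.obj (inter W a) :=
  Fan.IsLimit.lift (isLimitOfHasProductOfPreservesLimit G fun k => W (a k)) s

lemma liftG_π {p : ℕ} (a : Fin (p + 1) → ι) {V : E'} (s : ∀ k, V ⟶ G.obj (W (a k)))
    (k : Fin (p + 1)) : liftG G W a s ≫ G.map (Pi.π (fun k => W (a k)) k) = s k :=
  Fan.IsLimit.fac (isLimitOfHasProductOfPreservesLimit G fun k => W (a k)) s k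

lemma liftG_ext {p : ℕ} (a : Fin (p + 1) → ι) {V : E'} {f g : V ⟶ G.obj (inter W a)}
    (h : ∀ k, f ≫ G.map (Pi.π (fun k => W (a k)) k) = g ≫ G.map (Pi.π (fun k => W (a k)) k)) :
    f = g :=
  Fan.IsLimit.hom_ext (isLimitOfHasProductOfPreservesLimit G fun k => W (a k)) _ _ h

/-- The value of a cochain of the restricted cofree presheaf on a tuple. -/
noncomputable def coval {p : ℕ} (x : (cx (G.op ⋙ cofree Q) W).X p) {V : E'}
    (s : Fin (p + 1) → (i : ι) × (V ⟶ G.obj (W i))) : Q.obj (op V) :=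
  ev (G.op ⋙ cofree Q) W (fun k => (s k).1) x ⟨V, liftG G W (fun k => (s k).1) fun k => (s k).2⟩

lemma ev_eq_coval {p : ℕ} (x : (cx (G.op ⋙ cofree Q) W).X p) (a : Fin (p + 1) → ι) {V : E'}
    (φ : V ⟶ G.obj (inter W a)) :
    ev (G.op ⋙ cofree Q) W a x ⟨V, φ⟩ =
      coval G Q W x (fun k => ⟨a k, φ ≫ G.map (Pi.π (fun k => W (a k)) k)⟩) := by
  exact congrArg (β := Q.obj (op V)) (fun m : V ⟶ G.obj (inter W a) => ev (G.op ⋙ cofree Q) W a x ⟨V, m⟩)
    (liftG_ext G W a (f := φ) (g := liftG G W a fun k => φ ≫ G.map (Pi.π (fun k => W (a k)) k))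
      fun k => (liftG_π G W a (fun k => φ ≫ G.map (Pi.π (fun k => W (a k)) k)) k).symm)

lemma ev_d_apply {p : ℕ} (x : (cx (G.op ⋙ cofree Q) W).X p) (a : Fin (p + 2) → ι) {V : E'}
    (φ : V ⟶ G.obj (inter W a)) :
    ev (G.op ⋙ cofree Q) W a ((cx (G.op ⋙ cofree Q) W).d p (p + 1) x) ⟨V, φ⟩ =
      ∑ j : Fin (p + 2), (-1 : ℤ) ^ (j : ℕ) •
        coval G Q W x (fun k => ⟨a (j.succAbove k),
          φ ≫ G.map (Pi.π (fun k => W (a k)) (j.succAbove k))⟩) := by
  let evf : (cofree Q).obj (op (G.obj (inter W a))) →+ Q.obj (op V) :=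
    AddMonoidHom.mk' (fun ψ => ψ ⟨V, φ⟩) fun _ _ => rfl
  refine (congrArg evf (ev_d (G.op ⋙ cofree Q) W x a)).trans ?_
  refine (map_sum evf (fun j : Fin (p + 2) => (-1 : ℤ) ^ (j : ℕ) •
    (G.op ⋙ cofree Q).map (face W a j).op (ev (G.op ⋙ cofree Q) W (a ∘ j.succAbove) x))
    Finset.univ).trans ?_
  refine Finset.sum_congr rfl fun j _ => ?_
  refine (map_zsmul evf _ _).trans (congrArg (fun z => (-1 : ℤ) ^ (j : ℕ) • z) ?_)
  change ev (G.op ⋙ cofree Q) W (a ∘ j.succAbove) x ⟨V, φ ≫ G.map (face W a j)⟩ = _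
  rw [ev_eq_coval]
  refine congrArg (coval G Q W x) (funext fun k => ?_)
  rw [Category.assoc, ← G.map_comp]
  exact congrArg (fun m => (⟨a (j.succAbove k), φ ≫ G.map m⟩ : (i : ι) × (V ⟶ G.obj (W i))))
    (Pi.lift_π _ _)

lemma coval_d {p : ℕ} (x : (cx (G.op ⋙ cofree Q) W).X p) {V : E'}
    (s : Fin (p + 2) → (i : ι) × (V ⟶ G.obj (W i))) :
    coval G Q W ((cx (G.op ⋙ cofree Q) W).d p (p + 1) x) s =
      ∑ j : Fin (p + 2), (-1 : ℤ) ^ (j : ℕ) • coval G Q W x (s ∘ j.succAbove) := by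
  refine (ev_d_apply G Q W x (fun k => (s k).1) _).trans (Finset.sum_congr rfl fun j _ => ?_)
  refine congrArg (fun t => (-1 : ℤ) ^ (j : ℕ) • coval G Q W x t) (funext fun k => ?_)
  exact Sigma.ext rfl (heq_of_eq (liftG_π G W (fun k => (s k).1) _ _))

/-- The Cech cohomology of a restricted cofree presheaf vanishes in positive degrees. -/
lemma isZero_homology_comp_cofree (p : ℕ) :
    IsZero ((cx (G.op ⋙ cofree Q) W).homology (p + 1)) := by
  classical
  rw [isZero_homology_succ_iff]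
  intro x hx
  let pick (V : E') (s : Fin (p + 1) → (i : ι) × (V ⟶ G.obj (W i))) :
      (i : ι) × (V ⟶ G.obj (W i)) :=
    @Classical.choice _ (⟨s 0⟩ : Nonempty ((i : ι) × (V ⟶ G.obj (W i))))
  refine ⟨mk _ W fun b (f : (V : E') × (V ⟶ G.obj (inter W b))) =>
    let s : Fin (p + 1) → (i : ι) × (f.1 ⟶ G.obj (W i)) :=
      fun k => ⟨b k, f.2 ≫ G.map (Pi.π (fun k => W (b k)) k)⟩
    coval G Q W x (Fin.cons (pick f.1 s) s), ?_⟩
  refine ext _ W fun a => funext fun ⟨V, φ⟩ => ?_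
  let s : Fin (p + 2) → (i : ι) × (V ⟶ G.obj (W i)) :=
    fun k => ⟨a k, φ ≫ G.map (Pi.π (fun k => W (a k)) k)⟩
  let s₀ : (i : ι) × (V ⟶ G.obj (W i)) :=
    @Classical.choice _ (⟨s 0⟩ : Nonempty ((i : ι) × (V ⟶ G.obj (W i))))
  have h₀ := coval_d G Q W x (Fin.cons s₀ s : Fin (p + 3) → (i : ι) × (V ⟶ G.obj (W i)))
  rw [hx, Fin.sum_univ_succ] at h₀
  have hz : coval G Q W (0 : (cx (G.op ⋙ cofree Q) W).X (p + 2))
      (Fin.cons s₀ s : Fin (p + 3) → (i : ι) × (V ⟶ G.obj (W i))) = 0 := by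
    rw [coval, map_zero]; rfl
  have e₀ : (Fin.cons s₀ s : Fin (p + 3) → (i : ι) × (V ⟶ G.obj (W i))) ∘
      (0 : Fin (p + 3)).succAbove = s := funext fun k => by simp
  rw [hz, e₀, Fin.val_zero, pow_zero, one_zsmul] at h₀
  rw [ev_d_apply, ev_eq_coval]
  change _ = coval G Q W x s
  rw [eq_neg_of_add_eq_zero_left h₀.symm, ← Finset.sum_neg_distrib]
  refine Finset.sum_congr rfl fun j _ => ?_
  have e₂ : (Fin.cons s₀ s : Fin (p + 3) → (i : ι) × (V ⟶ G.obj (W i))) ∘ j.succ.succAbove =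
      Fin.cons s₀ (s ∘ j.succAbove) := funext fun k => by
    cases k using Fin.cases <;> simp
  rw [e₂, Fin.val_succ, pow_succ', neg_one_mul, neg_smul, neg_neg]
  refine congrArg (fun z => (-1 : ℤ) ^ (j : ℕ) • z) ?_
  let lft := liftG G W (a ∘ j.succAbove) (V := V) fun k => (s (j.succAbove k)).2
  change (ev (G.op ⋙ cofree Q) W (a ∘ j.succAbove) (mk _ W _)) ⟨V, lft⟩ = _
  erw [ev_mk]
  have e₃ : (fun k => (⟨a (j.succAbove k), lft ≫ G.map (Pi.π (fun k => W (a (j.succAbove k))) k)⟩ :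
      (i : ι) × (V ⟶ G.obj (W i)))) = s ∘ j.succAbove :=
    funext fun k => Sigma.ext rfl (heq_of_eq (liftG_π G W (a ∘ j.succAbove) _ k))
  exact congrArg (fun t => coval G Q W x (Fin.cons s₀ t)) e₃

/-- The restriction of an injective presheaf along a product preserving functor has no higher
Cech cohomology. -/
lemma isZero_homology_comp_of_injective [Injective Q] (p : ℕ) :
    IsZero ((cx (G.op ⋙ Q) W).homology (p + 1)) :=
  isZero_homology_of_retract W (Functor.whiskerLeft G.op (toCofree Q))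
    (Functor.whiskerLeft G.op (Injective.factorThru (𝟙 Q) (toCofree Q)))
    (by rw [← Functor.whiskerLeft_comp, Injective.comp_factorThru, Functor.whiskerLeft_id']) p
    (isZero_homology_comp_cofree G Q W p)

end Groth.Agent.SiteCoh.Cech
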