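import Groth.Agent.SiteCoh.CechFlasque
import Groth.Agent.SiteCoh.CechTransfer
import Mathlib.CategoryTheory.Limits.Constructions.Over.Products
import Mathlib.CategoryTheory.Limits.Constructions.Over.Connected

/-!
# Push forward of injective sheaves along a cover preserving functor
-/

set_option autoImplicit false

universe u

open CategoryTheory CategoryTheory.Limits Opposite

namespace Groth.Agent.SiteCoh

set_option linter.unusedSectionVars false

variable {C D : Type u} [SmallCategory C] [SmallCategory D] [HasPullbacks C]
  (u : C ⥤ D) [PreservesLimitsOfShape WalkingCospan u]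

/-- `Over.post u` preserves binary products. -/
lemma post_preserves_binary (U : C) :
    PreservesLimitsOfShape (Discrete WalkingPair) (Over.post (X := U) u) := by
  have : ∀ (a b : Over U), PreservesLimit (pair a b) (Over.post (X := U) u) := fun a b =>
    preservesLimit_of_preserves_limit_cone
      (IsLimit.pullbackConeEquivBinaryFanFunctor (pullback.isLimit a.hom b.hom))
      (by
        refine (isLimitMapConeBinaryFanEquiv _ _ _).symm ?_
        exact IsLimit.ofIsoLimit (IsLimit.pullbackConeEquivBinaryFanFunctor
            (isLimitOfHasPullbackOfPreservesLimit u a.hom b.hom))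
          (BinaryFan.ext (Over.isoMk (Iso.refl _) ((Category.id_comp _).trans (u.map_comp _ _)))
            (Over.OverMorphism.ext (Category.id_comp _).symm)
            (Over.OverMorphism.ext (Category.id_comp _).symm)))
  exact ⟨fun {K} => preservesLimit_of_iso_diagram _ (diagramIsoPair K).symm⟩

instance post_preservesFiniteProducts (U : C) :
    PreservesFiniteProducts (Over.post (X := U) u) := by
  have := post_preserves_binary u U
  have : PreservesLimit (Functor.empty.{0} (Over U)) (Over.post (X := U) u) :=
    preservesTerminal_of_iso _
      ((Over.post u).mapIso (terminalIsTerminal.uniqueUpToIso Over.mkIdTerminal) ≪≫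
        (Over.isoMk (Iso.refl (u.obj U)) ((Category.id_comp _).trans (u.map_id U).symm) :
          (Over.post u).obj (Over.mk (𝟙 U)) ≅ Over.mk (𝟙 (u.obj U))) ≪≫
        Over.mkIdTerminal.uniqueUpToIso terminalIsTerminal)
  have : PreservesLimitsOfShape (Discrete PEmpty.{1}) (Over.post (X := U) u) :=
    ⟨fun {K} => preservesLimit_of_iso_diagram _ (Functor.emptyExt (Functor.empty _) K)⟩
  exact .of_preserves_binary_and_terminal _

/-- The push forward of an injective sheaf is acyclic. -/
theorem subsingleton_HU_push_injective (J : GrothendieckTopology C) (K : GrothendieckTopology D)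
    [u.IsContinuous J K] (I : Sheaf K AddCommGrpCat.{u}) [Injective I] (U : C) (p : ℕ) :
    Subsingleton (CohSite.HU ((CohSite.push K J u).obj I) (p + 1) U) := by
  refine subsingleton_HU_of_cech (J := J) Set.univ
    (fun V ι Y => Sieve.ofArrows (fun i => (Y i).left) (fun i => (Y i).hom) ∈ J V)
    (fun V ι Y h => ⟨trivial, h, fun _ _ => trivial⟩)
    (fun V _ T hT => ⟨(W : C) × {f : W ⟶ V // T.arrows f}, fun f => Over.mk f.2.1,
      J.superset_covering (fun W f hf =>
        Sieve.ofArrows_mk (fun f : (W : C) × {f : W ⟶ V // T.arrows f} => f.1)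
          (fun f => f.2.1) ⟨W, f, hf⟩) hT, fun f => f.2.2⟩)
    _ (fun V ι Y _ q => ?_) U trivial p
  have : Injective ((K.overPullback AddCommGrpCat.{u} (u.obj V)).obj I) :=
    (K.overPullback AddCommGrpCat.{u} (u.obj V)).injective_obj_of_injective ‹_›
  have : Injective ((Over.forget (u.obj V)).op ⋙ I.obj) :=
    inferInstanceAs (Injective ((K.overPullback AddCommGrpCat.{u} (u.obj V)).obj I).obj)
  exact Cech.isZero_homology_comp_of_injective (Over.post u)
    ((Over.forget (u.obj V)).op ⋙ I.obj) Y q

end Groth.Agent.SiteCoh
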