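import Groth.Agent.SiteCoh.HyperCech
import Groth.Agent.SiteCoh.Restrict
import Groth.Agent.SiteCoh.Basics
import Groth.Agent.SiteCoh.SheafTools
import Groth.Agent.SpecSeq.CochainFunctor
import Mathlib.Algebra.Homology.HomologySequence

/-!
# Hypercoverings of an object: Cech cohomology of injective and of acyclic sheaves
-/

set_option autoImplicit false

universe u

open CategoryTheory CategoryTheory.Limits Opposite CategoryTheory.Abelian
open scoped Simplicial

namespace Groth.Agent.SiteCoh.Hyp

variable {C : Type u} [SmallCategory C] {J : GrothendieckTopology C} {X : C}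
variable (K : SimplicialObject (FormalCoproduct.{u} (Over X)))

/-- Global sections on the slice site are sections on the object. -/
noncomputable def limitOverIso (F : Sheaf J AddCommGrpCat.{u}) :
    limit (F.over X).obj ≅ F.obj.obj (op X) :=
  limit.isoLimitCone ⟨_, limitOfDiagramInitial
    (initialOpOfTerminal (Over.mkIdTerminal (X := X))) (F.over X).obj⟩

variable {K}

/-- `Ȟ^0(K, F) = F(X)`. -/
noncomputable def cechHZeroOverIso (hK : LocFill (J.over X) K) (F : Sheaf J AddCommGrpCat.{u}) :
    Hyper.cechH X K F.obj 0 ≅ F.obj.obj (op X) :=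
  (show (Hyper.cechCxSite K (F.over X).obj).homology 0 ≅ globalHom (F.over X) from
    cechHZeroIso _ hK) ≪≫ globalHomLimitIso _ ≪≫ limitOverIso F

/-- Injective sheaves are acyclic for hypercoverings of objects. -/
theorem isZero_cechH_of_injective (hK : LocFill (J.over X) K) (I : Sheaf J AddCommGrpCat.{u})
    [Injective I] (p : ℕ) : IsZero (Hyper.cechH X K I.obj (p + 1)) := by
  haveI : Injective (I.over X) :=
    (J.overPullback AddCommGrpCat.{u} X).injective_obj_of_injective ‹Injective I›
  exact isZero_homology_cechCxSite (I.over X) hK p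

/-- Cocycles in degree zero come from sections on `X`. -/
lemma exists_section_of_d_zero (hK : LocFill (J.over X) K) (F : Sheaf J AddCommGrpCat.{u})
    (x : (Hyper.cechCx X K F.obj).X 0) (hx : (Hyper.cechCx X K F.obj).d 0 1 x = 0) :
    ∃ s : F.obj.obj (op X), ∀ i : (K.obj (op ⦋0⦌)).I,
      Pi.π (vals (F.over X) (K.obj (op ⦋0⦌))) i x =
        F.obj.map ((K.obj (op ⦋0⦌)).obj i).hom.op s := by
  obtain ⟨η, hη⟩ := exists_gen_eq_of_d_zero (F.over X) hK x hx
  refine ⟨gen (F.over X) η (op (Over.mk (𝟙 X))), fun i => (hη i).trans ?_⟩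
  exact (map_gen (F.over X) η (Over.homMk ((K.obj (op ⦋0⦌)).obj i).hom (Category.comp_id _) :
    (K.obj (op ⦋0⦌)).obj i ⟶ Over.mk (𝟙 X)).op).symm

/-- The functor from presheaves to Cech complexes. -/
noncomputable abbrev cxFun (X : C) (K : SimplicialObject (FormalCoproduct.{u} (Over X))) :
    (Cᵒᵖ ⥤ AddCommGrpCat.{u}) ⥤ CochainComplex AddCommGrpCat.{u} ℕ :=
  (Functor.whiskeringLeft _ _ _).obj (Over.forget X).op ⋙
    FormalCoproduct.cochainComplexFunctor K

/-- A short exact sequence of sheaves is short exact on presheaves if the first is acyclic. -/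
lemma shortExact_presheaf {S : ShortComplex (Sheaf J AddCommGrpCat.{u})} (hS : S.ShortExact)
    (h : ∀ U : C, Subsingleton (CohSite.HU S.X₁ 1 U)) :
    (S.map (sheafToPresheaf J AddCommGrpCat.{u})).ShortExact where
  exact := Nerve.exact_of_eval fun V => (ShortComplex.ab_exact_iff _).2
    fun y hy => sections_exact hS V.unop y hy
  mono_f :=
    haveI : ∀ V, Mono ((S.map (sheafToPresheaf J AddCommGrpCat.{u})).f.app V) := fun V =>
      (AddCommGrpCat.mono_iff_injective _).2 (haveI := hS.mono_f; sections_injective S.f V.unop)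
    NatTrans.mono_of_mono_app _
  epi_g :=
    haveI : ∀ V, Epi ((S.map (sheafToPresheaf J AddCommGrpCat.{u})).g.app V) := fun V =>
      (AddCommGrpCat.epi_iff_surjective _).2
        (surjective_sections_of_subsingleton hS V.unop (h V.unop))
    NatTrans.epi_of_epi_app _

/-- Sheaves without higher cohomology are acyclic for hypercoverings of objects. -/
theorem isZero_cechH_of_acyclic (hK : LocFill (J.over X) K) (p : ℕ) :
    ∀ F : Sheaf J AddCommGrpCat.{u},
      (∀ (U : C) (q : ℕ), Subsingleton (CohSite.HU F (q + 1) U)) →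
        IsZero (Hyper.cechH X K F.obj (p + 1)) := by
  induction p using Nat.strong_induction_on with
  | _ p ih =>
  intro F hF
  let S := injEmbed F
  have hS : S.ShortExact := injEmbed_shortExact F
  haveI : Injective S.X₂ := inferInstanceAs (Injective (Injective.under F))
  haveI : PreservesFiniteLimits (cxFun X K) := comp_preservesFiniteLimits _ _
  haveI : PreservesFiniteColimits (cxFun X K) := comp_preservesFiniteColimits _ _
  haveI : (cxFun X K).Additive := Functor.additive_of_preserves_binary_products _
  have hT := (shortExact_presheaf hS fun U => hF U 0).map_of_exact (cxFun X K)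
  have h2 : IsZero (Hyper.cechH X K S.X₂.obj (p + 1)) := isZero_cechH_of_injective hK _ p
  refine ShortComplex.Exact.isZero_of_both_zeros
    (hT.homology_exact₁ p (p + 1) rfl) ?_ (h2.eq_of_tgt _ _)
  change hT.δ p (p + 1) rfl = 0
  cases p with
  | succ p =>
    refine IsZero.eq_of_src ?_ _ _
    exact ih p (Nat.lt_succ_self p) S.X₃ fun U q => subsingleton_ext_X₃ hS (q + 1)
      ⟨fun a b => (Ext.eq_zero_of_injective a).trans (Ext.eq_zero_of_injective b).symm⟩
      (hF U (q + 1))
  | zero =>
    haveI : Epi (HomologicalComplex.homologyMap ((cxFun X K).map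
        (S.map (sheafToPresheaf J AddCommGrpCat.{u})).g) 0) := by
      refine (AddCommGrpCat.epi_iff_surjective _).2 fun c => ?_
      obtain ⟨z, rfl⟩ := (AddCommGrpCat.epi_iff_surjective
        (((cxFun X K).obj S.X₃.obj).homologyπ 0)).1 inferInstance c
      let x := ((cxFun X K).obj S.X₃.obj).iCycles 0 z
      obtain ⟨s, hs⟩ := exists_section_of_d_zero hK S.X₃ x
        (ConcreteCategory.congr_hom (((cxFun X K).obj S.X₃.obj).iCycles_d 0 1) z)
      obtain ⟨t, rfl⟩ := surjective_sections_of_subsingleton hS X (hF X 0) s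
      let y : (Hyper.cechCx X K S.X₂.obj).X 0 :=
        Cech.prodMk (vals (S.X₂.over X) (K.obj (op ⦋0⦌)))
          fun i => S.X₂.obj.map ((K.obj (op ⦋0⦌)).obj i).hom.op t
      have hy : cochainEquiv K (S.X₂.over X) 0 (shAug (J := J.over X) K ≫
          (shHom (S.X₂.over X) _).symm
            { app := fun V => AddCommGrpCat.ofHom (FreeAbelianGroup.lift fun _ =>
                S.X₂.obj.map V.unop.hom.op t)
              naturality := fun V W g => AddCommGrpCat.hom_ext
                (FreeAbelianGroup.lift_ext _ _ fun _ => by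
                  refine (FreeAbelianGroup.lift_apply_of _ _).trans ?_
                  refine Eq.trans ?_ (congrArg ((S.X₂.over X).obj.map g)
                    (FreeAbelianGroup.lift_apply_of _ _)).symm
                  refine Eq.trans ?_ (ConcreteCategory.congr_hom
                    (S.X₂.obj.map_comp V.unop.hom.op g.unop.left.op) t)
                  exact congrArg (fun f => S.X₂.obj.map f t)
                    (congrArg Quiver.Hom.op (Over.w g.unop)).symm) }) = y := by
        refine Cech.prod_ext fun i => ?_
        refine (π_secEquiv _ (K.obj (op ⦋0⦌)) _ i).trans ?_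
        refine (congrArg (fun m : freePts (K.obj (op ⦋0⦌)) ⟶ (S.X₂.over X).obj =>
          m.app _ (FreeAbelianGroup.of (ptι (K.obj (op ⦋0⦌)) i)))
            ((shHom_map_comp _ (preAug K) _).trans
              (congrArg (preAug K ≫ ·) ((shHom (S.X₂.over X) _).apply_symm_apply _)))).trans ?_
        refine ((congrArg (FreeAbelianGroup.lift _) (FreeAbelianGroup.map_of_apply _)).trans
          (FreeAbelianGroup.lift_apply_of _ _)).trans ?_
        exact (Cech.π_prodMk (vals (S.X₂.over X) (K.obj (op ⦋0⦌))) (fun i => S.X₂.obj.map ((K.obj (op ⦋0⦌)).obj i).hom.op t) i).symm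
      have hd : (Hyper.cechCx X K S.X₂.obj).d 0 1 y = 0 := by
        rw [← hy]
        exact ConcreteCategory.congr_hom (cechAug₀_d (K := K) (S.X₂.over X)) _
      obtain ⟨w, hw⟩ := (ShortComplex.ab_exact_iff _).1
        (ShortComplex.exact_of_f_is_kernel
          (ShortComplex.mk _ _ (((cxFun X K).obj S.X₂.obj).iCycles_d 0 1))
          (((cxFun X K).obj S.X₂.obj).cyclesIsKernel 0 1 (by simp))) y hd
      refine ⟨((cxFun X K).obj S.X₂.obj).homologyπ 0 w, ?_⟩
      refine (ConcreteCategory.congr_hom (HomologicalComplex.homologyπ_naturality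
        ((cxFun X K).map (S.map (sheafToPresheaf J AddCommGrpCat.{u})).g) 0) w).trans ?_
      refine congrArg (((cxFun X K).obj S.X₃.obj).homologyπ 0) ?_
      apply (AddCommGrpCat.mono_iff_injective (((cxFun X K).obj S.X₃.obj).iCycles 0)).1 inferInstance
      refine (ConcreteCategory.congr_hom (HomologicalComplex.cyclesMap_i
        ((cxFun X K).map (S.map (sheafToPresheaf J AddCommGrpCat.{u})).g) 0) w).trans ?_
      refine (congrArg (((cxFun X K).map (S.map (sheafToPresheaf J AddCommGrpCat.{u})).g).f 0)
        hw).trans ?_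
      refine Cech.prod_ext fun i => ?_
      refine (ConcreteCategory.congr_hom (Pi.map_π _ i) y).trans ?_
      refine Eq.trans ?_ (hs i).symm
      refine (congrArg (S.g.hom.app (op ((K.obj (op ⦋0⦌)).obj i).left))
        (Cech.π_prodMk _ _ i)).trans ?_
      exact ConcreteCategory.congr_hom (S.g.hom.naturality ((K.obj (op ⦋0⦌)).obj i).hom.op) t
    exact (cancel_epi (HomologicalComplex.homologyMap ((cxFun X K).map
      (S.map (sheafToPresheaf J AddCommGrpCat.{u})).g) 0)).1 ((hT.comp_δ 0 1 rfl).trans comp_zero.symm)

end Groth.Agent.SiteCoh.Hyp
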