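import Groth.Agent.SiteCoh.HyperCone
import Groth.Agent.SiteCoh.Cech

/-!
# The Cech complex of a hypercovering with values in a sheaf

The Cech complex of a sheaf `F` is the complex of morphisms from the free chain complex to `F`.
Hence it is acyclic in positive degrees for injective `F`, and its cohomology in degree zero is the
group of global sections.
-/

set_option autoImplicit false

universe u

open CategoryTheory CategoryTheory.Limits Opposite AlgebraicTopology
open scoped Simplicial

namespace Groth.Agent.SiteCoh.Hyp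

variable {C : Type u} [SmallCategory C] {J : GrothendieckTopology C}
variable (K : SimplicialObject (FormalCoproduct.{u} C))

section Iso

variable (J)

/-- The sheafified free chain complex. -/
noncomputable abbrev shCx : ChainComplex (Sheaf J AddCommGrpCat.{u}) ℕ :=
  ((presheafToSheaf J AddCommGrpCat.{u}).mapHomologicalComplex _).obj (preCx K)

/-- The free simplicial sheaf, through points. -/
noncomputable def freeSimpIso :
    Hyper.freeSimplicialSheaf J K ≅ preSimp K ⋙ presheafToSheaf J AddCommGrpCat.{u} :=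
  Functor.isoWhiskerRight (Functor.isoWhiskerRight (Functor.isoWhiskerLeft K yonedaPtsIso)
    ((Functor.whiskeringRight _ _ _).obj AddCommGrpCat.free.{u}))
    (presheafToSheaf J AddCommGrpCat.{u})

/-- The free chain complex, through points. -/
noncomputable def freeCxIso : Hyper.freeChainCx J K ≅ shCx J K :=
  (alternatingFaceMapComplex _).mapIso (freeSimpIso J K) ≪≫
    (eqToIso (Functor.congr_obj
      (map_alternatingFaceMapComplex (presheafToSheaf J AddCommGrpCat.{u})) (preSimp K))).symm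

variable {J K}

lemma exactAt_shCx_succ (hK : LocFill J K) (n : ℕ) : (shCx J K).ExactAt (n + 1) :=
  (HomologicalComplex.exactAt_iff' _ (n + 2) (n + 1) n (by simp) (by simp)).2 (exact_sh_succ hK n)

lemma isZero_homology_freeChainCx (hK : LocFill J K) (n : ℕ) :
    IsZero ((Hyper.freeChainCx J K).homology (n + 1)) :=
  (exactAt_shCx_succ hK n).isZero_homology.of_iso
    ((HomologicalComplex.homologyFunctor _ _ (n + 1)).mapIso (freeCxIso J K))

lemma d_shAug : (shCx J K).d 1 0 ≫ shAug (J := J) K = 0 :=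
  ((presheafToSheaf J AddCommGrpCat.{u}).map_comp _ _).symm.trans
    ((congrArg _ (d_preAug K)).trans ((presheafToSheaf J AddCommGrpCat.{u}).map_zero _ _))

/-- The augmentation is the cokernel of the first differential. -/
noncomputable def shAugIsCokernel (hK : LocFill J K) :
    IsColimit (CokernelCofork.ofπ (shAug (J := J) K) d_shAug) :=
  haveI : Epi (ShortComplex.mk _ _ (d_shAug (J := J) (K := K))).g := epi_shAug (J := J) hK
  (show (ShortComplex.mk _ _ d_shAug).Exact from exact_sh_zero hK).gIsCokernel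

/-- The degree zero homology of the free chain complex is the constant sheaf. -/
noncomputable def homologyZeroIso (hK : LocFill J K) :
    (Hyper.freeChainCx J K).homology 0 ≅
      (constantSheaf J AddCommGrpCat.{u}).obj (AddCommGrpCat.free.{u}.obj PUnit.{u + 1}) :=
  (HomologicalComplex.homologyFunctor _ _ 0).mapIso (freeCxIso J K) ≪≫
    (shCx J K).isoHomologyι 0 0 (by simp) (by simp) ≪≫
    ((shCx J K).opcyclesIsCokernel 1 0 (by simp)).coconePointUniqueUpToIso (shAugIsCokernel hK)

/-- Free abelian groups on a point are the integers. -/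
noncomputable def freePUnitIso :
    AddCommGrpCat.free.{u}.obj PUnit.{u + 1} ≅ AddCommGrpCat.of (ULift.{u} ℤ) :=
  AddEquiv.toAddCommGrpIso ((FreeAbelianGroup.uniqueEquiv PUnit.{u + 1}).trans AddEquiv.ulift.symm)

end Iso

section Cochains

variable (F : Sheaf J AddCommGrpCat.{u})

/-- Maps out of a sheafification. -/
noncomputable def shHom (Q : Cᵒᵖ ⥤ AddCommGrpCat.{u}) :
    ((presheafToSheaf J AddCommGrpCat.{u}).obj Q ⟶ F) ≃+ (Q ⟶ F.obj) :=
  { (sheafificationAdjunction J AddCommGrpCat.{u}).homEquiv Q F with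
    map_add' := fun a b => by
      simp only [Equiv.toFun_as_coe, Adjunction.homEquiv_unit]
      exact Preadditive.comp_add _ _ _ _ _ _ }

lemma shHom_map_comp {Q Q' : Cᵒᵖ ⥤ AddCommGrpCat.{u}} (g : Q ⟶ Q')
    (φ : (presheafToSheaf J AddCommGrpCat.{u}).obj Q' ⟶ F) :
    shHom F Q ((presheafToSheaf J AddCommGrpCat.{u}).map g ≫ φ) = g ≫ shHom F Q' φ :=
  (sheafificationAdjunction J AddCommGrpCat.{u}).homEquiv_naturality_left g φ

/-- The free presheaf on the points of a formal coproduct. -/
noncomputable abbrev freePts (Y : FormalCoproduct.{u} C) : Cᵒᵖ ⥤ AddCommGrpCat.{u} :=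
  pts.obj Y ⋙ AddCommGrpCat.free.{u}

/-- The values of `F` on the components. -/
noncomputable abbrev vals (Y : FormalCoproduct.{u} C) (i : Y.I) : AddCommGrpCat.{u} :=
  F.obj.obj (op (Y.obj i))

/-- The components of a morphism out of the free presheaf of points. -/
noncomputable def evalPts (Y : FormalCoproduct.{u} C) :
    (freePts Y ⟶ F.obj) →+ (∏ᶜ vals F Y : AddCommGrpCat.{u}) :=
  AddMonoidHom.mk'
    (fun ψ => Cech.prodMk (vals F Y) fun i => ψ.app _ (FreeAbelianGroup.of (ptι Y i)))
    fun ψ ψ' => Cech.prod_ext fun i => by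
      rw [map_add, Cech.π_prodMk, Cech.π_prodMk, Cech.π_prodMk]
      rfl

lemma π_evalPts (Y : FormalCoproduct.{u} C) (ψ : freePts Y ⟶ F.obj) (i : Y.I) :
    Pi.π (vals F Y) i (evalPts F Y ψ) = ψ.app _ (FreeAbelianGroup.of (ptι Y i)) :=
  Cech.π_prodMk _ _ i

lemma app_of_eq {Y : FormalCoproduct.{u} C} (ψ : freePts Y ⟶ F.obj) {V : C} (y : Pt V Y) :
    ψ.app (op V) (FreeAbelianGroup.of y) =
      F.obj.map (y.φ PUnit.unit).op (Pi.π (vals F Y) (y.f PUnit.unit) (evalPts F Y ψ)) := by
  rw [π_evalPts]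
  refine Eq.trans ?_ (ConcreteCategory.congr_hom (ψ.naturality (y.φ PUnit.unit).op)
    (FreeAbelianGroup.of (ptι Y (y.f PUnit.unit))))
  refine congrArg (ψ.app (op V)) ?_
  exact (congrArg FreeAbelianGroup.of (res_ptι y)).symm.trans
    (FreeAbelianGroup.map_of_apply _).symm

lemma evalPts_bijective (Y : FormalCoproduct.{u} C) : Function.Bijective (evalPts F Y) := by
  constructor
  · intro ψ ψ' h
    ext V : 2
    refine AddCommGrpCat.hom_ext (FreeAbelianGroup.lift_ext _ _ fun y => ?_)
    exact (app_of_eq F ψ y).trans ((congrArg (fun t => F.obj.map (y.φ PUnit.unit).op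
      (Pi.π (vals F Y) (y.f PUnit.unit) t)) h).trans (app_of_eq F ψ' y).symm)
  · intro x
    let ψ : freePts Y ⟶ F.obj :=
      { app := fun V => AddCommGrpCat.ofHom (FreeAbelianGroup.lift fun y : Pt V.unop Y =>
          F.obj.map (y.φ PUnit.unit).op (Pi.π (vals F Y) (y.f PUnit.unit) x))
        naturality := fun V W g => AddCommGrpCat.hom_ext (FreeAbelianGroup.lift_ext _ _ fun y => by
          change FreeAbelianGroup.lift _ (FreeAbelianGroup.map _ (FreeAbelianGroup.of y)) =
            F.obj.map g (FreeAbelianGroup.lift _ (FreeAbelianGroup.of y))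
          rw [FreeAbelianGroup.map_of_apply]
          exact (FreeAbelianGroup.lift_apply_of _ _).trans
            ((ConcreteCategory.congr_hom (F.obj.map_comp (y.φ PUnit.unit).op g) _).trans
              (congrArg (F.obj.map g) (FreeAbelianGroup.lift_apply_of _ _)).symm)) }
    refine ⟨ψ, Cech.prod_ext fun i => ?_⟩
    rw [π_evalPts]
    refine (FreeAbelianGroup.lift_apply_of _ _).trans ?_
    exact ConcreteCategory.congr_hom (F.obj.map_id _) _

/-- Sections on a formal coproduct as morphisms out of the free sheaf. -/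
noncomputable def secEquiv (Y : FormalCoproduct.{u} C) :
    ((presheafToSheaf J AddCommGrpCat.{u}).obj (freePts Y) ⟶ F) ≃+
      (∏ᶜ vals F Y : AddCommGrpCat.{u}) :=
  (shHom F (freePts Y)).trans (AddEquiv.ofBijective (evalPts F Y) (evalPts_bijective F Y))

lemma π_secEquiv (Y : FormalCoproduct.{u} C)
    (φ : (presheafToSheaf J AddCommGrpCat.{u}).obj (freePts Y) ⟶ F) (i : Y.I) :
    Pi.π (vals F Y) i (secEquiv F Y φ) =
      (shHom F (freePts Y) φ).app _ (FreeAbelianGroup.of (ptι Y i)) :=
  π_evalPts F Y _ i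

lemma secEquiv_map {X Y : FormalCoproduct.{u} C} (g : X ⟶ Y)
    (φ : (presheafToSheaf J AddCommGrpCat.{u}).obj (freePts Y) ⟶ F) :
    secEquiv F X ((presheafToSheaf J AddCommGrpCat.{u}).map
        (Functor.whiskerRight (pts.map g) AddCommGrpCat.free.{u}) ≫ φ) =
      ((FormalCoproduct.evalOp.{u} C AddCommGrpCat.{u}).obj F.obj).map g.op (secEquiv F Y φ) := by
  refine Cech.prod_ext fun i => ?_
  rw [π_secEquiv, shHom_map_comp]
  refine Eq.trans ?_ (ConcreteCategory.congr_hom (Pi.lift_π
    (fun i : X.I => Pi.π (vals F Y) (g.f i) ≫ F.obj.map (g.φ i).op) i) (secEquiv F Y φ)).symm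
  refine (congrArg ((shHom F (freePts Y) φ).app _) (FreeAbelianGroup.map_of_apply _)).trans ?_
  refine (app_of_eq F _ _).trans ?_
  have : (ptι X i ≫ g).φ PUnit.unit = g.φ i := Category.id_comp _
  exact congrArg (fun t => F.obj.map t.op (Pi.π (vals F Y) (g.f i) (secEquiv F Y φ))) this

/-- Cochains as morphisms out of the free chain complex. -/
noncomputable def cochainEquiv (n : ℕ) :
    ((shCx J K).X n ⟶ F) ≃+ (Hyper.cechCxSite K F.obj).X n :=
  secEquiv F (K.obj (op ⦋n⦌))

variable {K}

lemma cochainEquiv_d {n : ℕ} (φ : (shCx J K).X n ⟶ F) :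
    cochainEquiv K F (n + 1) ((shCx J K).d (n + 1) n ≫ φ) =
      (Hyper.cechCxSite K F.obj).d n (n + 1) (cochainEquiv K F n φ) := by
  have e₁ : (shCx J K).d (n + 1) n = ∑ i : Fin (n + 2), (-1 : ℤ) ^ (i : ℕ) •
      (presheafToSheaf J AddCommGrpCat.{u}).map
        (Functor.whiskerRight (pts.map (K.δ i)) AddCommGrpCat.free.{u}) := by
    change (presheafToSheaf J AddCommGrpCat.{u}).map ((preCx K).d (n + 1) n) = _
    rw [AlternatingFaceMapComplex.obj_d_eq]
    erw [(presheafToSheaf J AddCommGrpCat.{u}).map_sum]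
    refine Finset.sum_congr rfl fun i _ => ?_
    erw [(presheafToSheaf J AddCommGrpCat.{u}).map_zsmul]
    rfl
  have e₂ : (Hyper.cechCxSite K F.obj).d n (n + 1) = ∑ i : Fin (n + 2), (-1 : ℤ) ^ (i : ℕ) •
      ((FormalCoproduct.evalOp.{u} C AddCommGrpCat.{u}).obj F.obj).map (K.δ i).op := by
    show (AlternatingCofaceMapComplex.obj
      ((FormalCoproduct.cosimplicialObjectFunctor K).obj F.obj)).d n (n + 1) = _
    dsimp only [AlternatingCofaceMapComplex.obj]
    rw [CochainComplex.of_d]
    rfl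
  let Ψ : ((shCx J K).X (n + 1) ⟶ (shCx J K).X n) →+
      (Hyper.cechCxSite K F.obj).X (n + 1) :=
    AddMonoidHom.mk' (fun f => cochainEquiv K F (n + 1) (f ≫ φ)) fun f g =>
      (congrArg (cochainEquiv K F (n + 1)) (Preadditive.add_comp _ _ _ f g φ)).trans (map_add _ _ _)
  let Φ : ((Hyper.cechCxSite K F.obj).X n ⟶ (Hyper.cechCxSite K F.obj).X (n + 1)) →+
      (Hyper.cechCxSite K F.obj).X (n + 1) :=
    AddMonoidHom.mk' (fun f => f (cochainEquiv K F n φ)) fun _ _ => rfl
  change Ψ _ = Φ _
  rw [e₁, e₂]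
  erw [map_sum Φ, map_sum Ψ]
  refine Finset.sum_congr rfl fun i _ => ?_
  erw [map_zsmul Φ, map_zsmul Ψ]
  exact congrArg ((-1 : ℤ) ^ (i : ℕ) • ·) (secEquiv_map F (K.δ i) φ)

/-- Injective sheaves are Cech acyclic. -/
theorem isZero_homology_cechCxSite [Injective F] (hK : LocFill J K) (p : ℕ) :
    IsZero ((Hyper.cechCxSite K F.obj).homology (p + 1)) := by
  refine HomologicalComplex.ExactAt.isZero_homology ?_
  rw [HomologicalComplex.exactAt_iff' _ p (p + 1) (p + 2) (by simp) (by simp),
    ShortComplex.ab_exact_iff]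
  intro (x : (Hyper.cechCxSite K F.obj).X (p + 1)) hx
  have hx' : (shCx J K).d (p + 2) (p + 1) ≫ (cochainEquiv K F (p + 1)).symm x = 0 :=
    (cochainEquiv K F (p + 2)).injective (by
      rw [map_zero]
      exact (cochainEquiv_d F _).trans
        ((congrArg _ ((cochainEquiv K F (p + 1)).apply_symm_apply x)).trans hx))
  have hex : (ShortComplex.mk _ _ ((shCx J K).d_comp_d (p + 2) (p + 1) p)).Exact :=
    exact_sh_succ hK p
  refine ⟨cochainEquiv K F p (hex.descToInjective _ hx'), ?_⟩
  refine ((cochainEquiv_d F _).symm.trans ?_)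
  rw [hex.comp_descToInjective]
  exact (cochainEquiv K F (p + 1)).apply_symm_apply x

/-- Global sections. -/
noncomputable abbrev globalHom : AddCommGrpCat.{u} :=
  AddCommGrpCat.of ((constantSheaf J AddCommGrpCat.{u}).obj
    (AddCommGrpCat.free.{u}.obj PUnit.{u + 1}) ⟶ F)

/-- Global sections give cocycles. -/
noncomputable def cechAug₀ : globalHom F ⟶ (Hyper.cechCxSite K F.obj).X 0 :=
  AddCommGrpCat.ofHom ((cochainEquiv K F 0).toAddMonoidHom.comp
    (Preadditive.leftComp F (shAug (J := J) K)))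

lemma cechAug₀_d : cechAug₀ (K := K) F ≫ (Hyper.cechCxSite K F.obj).d 0 1 = 0 := by
  refine AddCommGrpCat.hom_ext (AddMonoidHom.ext fun χ => ?_)
  change (Hyper.cechCxSite K F.obj).d 0 1 (cochainEquiv K F 0 (shAug K ≫ χ)) = 0
  exact (cochainEquiv_d F _).symm.trans ((congrArg (cochainEquiv K F 1)
    ((Category.assoc _ _ _).symm.trans ((congrArg (· ≫ χ) d_shAug).trans zero_comp))).trans
    (map_zero _))

lemma exact_cechAug₀ (hK : LocFill J K) :
    (ShortComplex.mk _ _ (cechAug₀_d (K := K) F)).Exact := by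
  rw [ShortComplex.ab_exact_iff]
  intro (x : (Hyper.cechCxSite K F.obj).X 0) hx
  have hx' : (shCx J K).d 1 0 ≫ (cochainEquiv K F 0).symm x = 0 :=
    (cochainEquiv K F 1).injective (by
      rw [map_zero]
      exact (cochainEquiv_d F _).trans
        ((congrArg _ ((cochainEquiv K F 0).apply_symm_apply x)).trans hx))
  refine ⟨(shAugIsCokernel hK).desc (CokernelCofork.ofπ _ hx'), ?_⟩
  refine Eq.trans (congrArg (cochainEquiv K F 0) ?_) ((cochainEquiv K F 0).apply_symm_apply x)
  exact Cofork.IsColimit.π_desc (shAugIsCokernel hK)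

lemma mono_cechAug₀ (hK : LocFill J K) : Mono (cechAug₀ (K := K) F) :=
  (AddCommGrpCat.mono_iff_injective _).2 fun _ _ h =>
    haveI : Epi (shAug (J := J) K) := epi_shAug (J := J) hK
    (cancel_epi (shAug (J := J) K)).1 ((cochainEquiv K F 0).injective h)

/-- Cech cohomology in degree zero. -/
noncomputable def cechHZeroIso (hK : LocFill J K) :
    (Hyper.cechCxSite K F.obj).homology 0 ≅ globalHom F :=
  haveI := mono_cechAug₀ F hK
  (Hyper.cechCxSite K F.obj).isoHomologyπ₀.symm ≪≫
    ((Hyper.cechCxSite K F.obj).cyclesIsKernel 0 1 (by simp)).conePointUniqueUpToIso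
      (exact_cechAug₀ F hK).fIsKernel

/-- Morphisms from the constant presheaf evaluated at the generator. -/
noncomputable def gen (F : Sheaf J AddCommGrpCat.{u})
    (η : (Functor.const Cᵒᵖ).obj (AddCommGrpCat.free.{u}.obj PUnit.{u + 1}) ⟶ F.obj) (V : Cᵒᵖ) :
    F.obj.obj V :=
  η.app V (FreeAbelianGroup.of PUnit.unit)

lemma map_gen (η : (Functor.const Cᵒᵖ).obj (AddCommGrpCat.free.{u}.obj PUnit.{u + 1}) ⟶ F.obj)
    {V W : Cᵒᵖ} (g : V ⟶ W) : F.obj.map g (gen F η V) = gen F η W :=
  (ConcreteCategory.congr_hom (η.naturality g) (FreeAbelianGroup.of PUnit.unit)).symm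

/-- Cocycles in degree zero come from compatible families of sections. -/
lemma exists_gen_eq_of_d_zero (hK : LocFill J K) (x : (Hyper.cechCxSite K F.obj).X 0)
    (hx : (Hyper.cechCxSite K F.obj).d 0 1 x = 0) :
    ∃ η : (Functor.const Cᵒᵖ).obj (AddCommGrpCat.free.{u}.obj PUnit.{u + 1}) ⟶ F.obj,
      ∀ i : (K.obj (op ⦋0⦌)).I,
        Pi.π (vals F (K.obj (op ⦋0⦌))) i x = gen F η (op ((K.obj (op ⦋0⦌)).obj i)) := by
  obtain ⟨χ, hχ⟩ := (ShortComplex.ab_exact_iff _).1 (exact_cechAug₀ F hK) x hx
  refine ⟨shHom F _ χ, fun i => ?_⟩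
  rw [← hχ]
  refine (π_secEquiv F (K.obj (op ⦋0⦌)) (shAug K ≫ χ) i).trans ?_
  refine (congrArg (fun m : freePts (K.obj (op ⦋0⦌)) ⟶ F.obj =>
    m.app _ (FreeAbelianGroup.of (ptι (K.obj (op ⦋0⦌)) i)))
      (shHom_map_comp F (preAug K) χ)).trans ?_
  exact congrArg ((shHom F _ χ).app _) (FreeAbelianGroup.map_of_apply _)

lemma π_lift_apply
    (η : (Functor.const Cᵒᵖ).obj (AddCommGrpCat.free.{u}.obj PUnit.{u + 1}) ⟶ F.obj) (V : Cᵒᵖ) :
    limit.π F.obj V ((limit.lift F.obj ⟨AddCommGrpCat.free.{u}.obj PUnit.{u + 1}, η⟩)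
      (FreeAbelianGroup.of PUnit.unit)) = gen F η V :=
  ConcreteCategory.congr_hom
    (limit.lift_π ⟨AddCommGrpCat.free.{u}.obj PUnit.{u + 1}, η⟩ V) (FreeAbelianGroup.of PUnit.unit)

/-- Global sections are the limit. -/
noncomputable def globalHomLimitIso : globalHom F ≅ limit F.obj :=
  AddEquiv.toAddCommGrpIso <| (shHom F _).trans <| AddEquiv.ofBijective
    (AddMonoidHom.mk'
      (fun η => (limit.lift F.obj ⟨AddCommGrpCat.free.{u}.obj PUnit.{u + 1}, η⟩)
        (FreeAbelianGroup.of PUnit.unit) :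
        ((Functor.const Cᵒᵖ).obj (AddCommGrpCat.free.{u}.obj PUnit.{u + 1}) ⟶ F.obj) →
          (limit F.obj : AddCommGrpCat.{u}))
      fun η η' => Concrete.limit_ext _ _ _ fun V => by
        rw [map_add]
        exact (π_lift_apply F _ V).trans
          (congrArg₂ (· + ·) (π_lift_apply F η V) (π_lift_apply F η' V)).symm)
    ⟨fun η η' h => by
      ext V : 2
      refine AddCommGrpCat.hom_ext (FreeAbelianGroup.lift_ext _ _ fun _ => ?_)
      exact (π_lift_apply F η V).symm.trans
        ((congrArg (limit.π F.obj V) h).trans (π_lift_apply F η' V)),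
    fun x => ⟨
      { app := fun V => AddCommGrpCat.ofHom (FreeAbelianGroup.lift fun _ => limit.π F.obj V x)
        naturality := fun V W g => AddCommGrpCat.hom_ext (FreeAbelianGroup.lift_ext _ _ fun _ => by
          refine (FreeAbelianGroup.lift_apply_of _ _).trans ?_
          refine Eq.trans ?_ (congrArg (F.obj.map g) (FreeAbelianGroup.lift_apply_of _ _)).symm
          exact (ConcreteCategory.congr_hom (limit.w F.obj g) x).symm) },
      Concrete.limit_ext _ _ _ fun V =>
        (π_lift_apply F _ V).trans (FreeAbelianGroup.lift_apply_of _ _)⟩⟩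

end Cochains

end Groth.Agent.SiteCoh.Hyp
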