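import Groth.Agent.SiteCoh.HyperCech
import Groth.Agent.SpecSeq.HomSS
import Groth.Agent.SpecSeq.HZero
import Groth.Agent.SpecSeq.CochainFunctor

/-!
# The degree zero Cech cohomology of a hypercovering as a functor of the sheaf
-/

set_option autoImplicit false

universe u

open CategoryTheory CategoryTheory.Limits Opposite
open scoped Simplicial

namespace Groth.Agent.SiteCoh.Hyp

variable {C : Type u} [SmallCategory C] {J : GrothendieckTopology C}
variable {K : SimplicialObject (FormalCoproduct.{u} C)}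

lemma cochainEquiv_naturality {F F' : Sheaf J AddCommGrpCat.{u}} (g : F ⟶ F') (n : ℕ)
    (φ : (shCx J K).X n ⟶ F) :
    ((FormalCoproduct.cochainComplexFunctor K).map g.hom).f n (cochainEquiv K F n φ) =
      cochainEquiv K F' n (φ ≫ g) := by
  refine Cech.prod_ext fun i => ?_
  refine Eq.trans ?_ (π_secEquiv F' (K.obj (op ⦋n⦌)) (φ ≫ g) i).symm
  refine (ConcreteCategory.congr_hom (Limits.Pi.map_π
    (fun i => g.hom.app (op ((K.obj (op ⦋n⦌)).obj i))) i) (cochainEquiv K F n φ)).trans ?_
  refine (congrArg (g.hom.app _) (π_secEquiv F (K.obj (op ⦋n⦌)) φ i)).trans ?_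
  exact (congrArg (fun m : freePts (K.obj (op ⦋n⦌)) ⟶ F'.obj =>
    m.app _ (FreeAbelianGroup.of (ptι (K.obj (op ⦋n⦌)) i)))
      ((sheafificationAdjunction J AddCommGrpCat.{u}).homEquiv_naturality_right φ g)).symm

lemma cechHZeroIso_inv_ι (hK : LocFill J K) (F : Sheaf J AddCommGrpCat.{u}) :
    (cechHZeroIso F hK).inv ≫ (Hyper.cechCxSite K F.obj).isoHomologyπ₀.inv ≫
      (Hyper.cechCxSite K F.obj).iCycles 0 = cechAug₀ F := by
  have := mono_cechAug₀ F hK
  rw [cechHZeroIso, Iso.trans_inv, Iso.symm_inv, Category.assoc, Iso.hom_inv_id_assoc]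
  exact IsLimit.conePointUniqueUpToIso_inv_comp _ _ WalkingParallelPair.zero

lemma homologyMap_isoHomologyπ₀_inv_ι {A B : CochainComplex AddCommGrpCat.{u} ℕ} (φ : A ⟶ B) :
    HomologicalComplex.homologyMap φ 0 ≫ B.isoHomologyπ₀.inv ≫ B.iCycles 0 =
      (A.isoHomologyπ₀.inv ≫ A.iCycles 0) ≫ φ.f 0 := by
  rw [CochainComplex.isoHomologyπ₀_inv_naturality_assoc, HomologicalComplex.cyclesMap_i,
    Category.assoc]

/-- Changing the presentation of the constant sheaf. -/
noncomputable def constIso : (constantSheaf J AddCommGrpCat.{u}).obj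
      (AddCommGrpCat.free.{u}.obj PUnit.{u + 1}) ≅
    (constantSheaf J AddCommGrpCat.{u}).obj (AddCommGrpCat.of (ULift.{u} ℤ)) :=
  (constantSheaf J AddCommGrpCat.{u}).mapIso freePUnitIso

/-- Global sections are the zeroth Cech cohomology, naturally. -/
noncomputable def hZeroIsoHom (hK : LocFill J K) :
    SpecSeq.homFrom ((constantSheaf J AddCommGrpCat.{u}).obj
        (AddCommGrpCat.of (ULift.{u} ℤ))) ≅
      (sheafToPresheaf J AddCommGrpCat.{u} ⋙
        FormalCoproduct.cochainComplexFunctor K) ⋙ SpecSeq.hZero AddCommGrpCat.{u} :=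
  NatIso.ofComponents
    (fun F => ((preadditiveYoneda.obj F).mapIso constIso.op ≪≫
      (cechHZeroIso F hK).symm : _))
    (fun {F F'} g => by
      ext (f : (constantSheaf J AddCommGrpCat.{u}).obj (AddCommGrpCat.of (ULift.{u} ℤ)) ⟶ F)
      apply (AddCommGrpCat.mono_iff_injective ((Hyper.cechCxSite K F'.obj).isoHomologyπ₀.inv ≫
        (Hyper.cechCxSite K F'.obj).iCycles 0)).1 inferInstance
      let a : globalHom F := constIso.hom ≫ f
      let a' : globalHom F' := constIso.hom ≫ (f ≫ g)
      refine (ConcreteCategory.congr_hom (cechHZeroIso_inv_ι hK F') a').trans ?_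
      refine Eq.trans ?_ (ConcreteCategory.congr_hom
        (homologyMap_isoHomologyπ₀_inv_ι
          ((FormalCoproduct.cochainComplexFunctor K).map g.hom))
        ((cechHZeroIso F hK).inv a)).symm
      refine Eq.trans ?_ (congrArg (((FormalCoproduct.cochainComplexFunctor K).map g.hom).f 0)
        (ConcreteCategory.congr_hom (cechHZeroIso_inv_ι hK F) a)).symm
      refine Eq.trans ?_ (cochainEquiv_naturality g 0 _).symm
      exact congrArg (cochainEquiv K F' 0)
        ((congrArg (shAug (J := J) K ≫ ·) (Category.assoc _ f g).symm).trans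
          (Category.assoc _ _ _).symm))

end Groth.Agent.SiteCoh.Hyp
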