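import Groth.Agent.SiteCoh.ClosedResolution
import Groth.Agent.SiteCoh.ExtResolution
import Mathlib.CategoryTheory.Limits.Shapes.Products
import Mathlib.GroupTheory.QuotientGroup.Basic

/-!
# Cohomology of products of sheaves supported on a locally finite family of closed subsets
-/

set_option autoImplicit false

universe u

open CategoryTheory CategoryTheory.Limits Opposite TopologicalSpace TopCat CategoryTheory.Abelian

namespace Groth.Agent.SiteCoh.Closed

variable {X : TopCat.{u}} {T : Type u} {Z : T → Set X}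

/-- Direct image from a member of the family. -/
noncomputable abbrev pushIncl (Z : T → Set X) (t : T) : CohTop.Ab (TopCat.of (Z t)) ⥤ CohTop.Ab X :=
  CohTop.push (incl (Z t))

lemma push_preservesFiniteLimits' {Y : TopCat.{u}} (f : Y ⟶ X) :
    PreservesFiniteLimits (CohTop.push f) := inferInstance

lemma push_map_mono' {Y : TopCat.{u}} (f : Y ⟶ X) {F G : CohTop.Ab Y} (g : F ⟶ G) (h : Mono g) :
    Mono ((CohTop.push f).map g) := inferInstance

lemma push_map_shortExact' {Y : TopCat.{u}} (f : Y ⟶ X) (hf : Topology.IsClosedEmbedding f)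
    {S : ShortComplex (CohTop.Ab Y)} (hS : S.ShortExact) : (S.map (CohTop.push f)).ShortExact := by
  have := preservesEpimorphisms_push_of_isClosedEmbedding f hf
  have : Mono S.f := hS.mono_f
  have : Epi S.g := hS.epi_g
  exact
    { exact := hS.exact.map_of_mono_of_preservesKernel _ hS.mono_f inferInstance
      mono_f := inferInstanceAs (Mono ((CohTop.push f).map S.f))
      epi_g := inferInstanceAs (Epi ((CohTop.push f).map S.g)) }

instance pushIncl_additive (Z : T → Set X) (t : T) : (pushIncl Z t).Additive :=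
  CohTop.instAdditiveAbPush (incl (Z t))

/-- The product of sheaves supported on the members. -/
noncomputable abbrev prodPush (M : ∀ t, CohTop.Ab (TopCat.of (Z t))) : CohTop.Ab X :=
  ∏ᶜ fun t => (pushIncl Z t).obj (M t)

/-- The map of products. -/
noncomputable abbrev prodPushMap {M N : ∀ t, CohTop.Ab (TopCat.of (Z t))} (f : ∀ t, M t ⟶ N t) :
    prodPush M ⟶ prodPush N :=
  Limits.Pi.map fun t => (pushIncl Z t).map (f t)

variable (M : ∀ t, CohTop.Ab (TopCat.of (Z t)))

/-- The components. -/
noncomputable def pcomp {V : Opens X} (t : T) :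
    (prodPush M).obj.obj (op V) →+ ((pushIncl Z t).obj (M t)).obj.obj (op V) :=
  ((Pi.π (fun t => (pushIncl Z t).obj (M t)) t).hom.app (op V)).hom

lemma pcomp_map {V W : Opens X} (i : W ⟶ V) (t : T) (c : (prodPush M).obj.obj (op V)) :
    pcomp M t ((prodPush M).obj.map i.op c) =
      ((pushIncl Z t).obj (M t)).obj.map i.op (pcomp M t c) :=
  ConcreteCategory.congr_hom ((Pi.π (fun t => (pushIncl Z t).obj (M t)) t).hom.naturality i.op) c

lemma pcomp_prodPushMap {N : ∀ t, CohTop.Ab (TopCat.of (Z t))} (f : ∀ t, M t ⟶ N t) {V : Opens X}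
    (t : T) (c : (prodPush M).obj.obj (op V)) :
    pcomp N t ((prodPushMap f).hom.app (op V) c) =
      ((pushIncl Z t).map (f t)).hom.app (op V) (pcomp M t c) :=
  ConcreteCategory.congr_hom (NatTrans.congr_app (congrArg InducedCategory.Hom.hom
    (Limits.Pi.map_π (fun t => (pushIncl Z t).map (f t)) t)) (op V)) c

/-- An open adapted to a point: it only meets the members through the point. -/
def Adapted (Z : T → Set X) (x : X) (V : Opens X) : Prop := ∀ t, x ∉ Z t → ∀ y ∈ V, y ∉ Z t

lemma eq_zero_push {t : T} {V : Opens X} (hV : ∀ y ∈ V, y ∉ Z t)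
    (s : ((pushIncl Z t).obj (M t)).obj.obj (op V)) : s = 0 :=
  TopCat.Presheaf.section_ext (M t) ((Opens.map (incl (Z t))).obj V) s 0 fun z hz =>
    absurd z.2 (hV _ hz)

lemma pcomp_ext {x : X} {V : Opens X} (hV : Adapted Z x V) {c c' : (prodPush M).obj.obj (op V)}
    (h : ∀ t, x ∈ Z t → pcomp M t c = pcomp M t c') : c = c' :=
  Concrete.isLimit_ext _ (isLimitOfPreserves (sectionsAt (Opens.grothendieckTopology X) V)
    (productIsProduct fun t => (pushIncl Z t).obj (M t))) c c' fun ⟨t⟩ => by
      by_cases ht : x ∈ Z t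
      · exact h t ht
      · exact (eq_zero_push M (hV t ht) (pcomp M t c)).trans
          (eq_zero_push M (hV t ht) (pcomp M t c')).symm

open scoped Classical in
lemma exists_pcomp {x : X} (hfin : {t | x ∈ Z t}.Finite) {V : Opens X}
    (a : ∀ t, x ∈ Z t → ((pushIncl Z t).obj (M t)).obj.obj (op V)) :
    ∃ y : (prodPush M).obj.obj (op V), ∀ t (h : x ∈ Z t), pcomp M t y = a t h := by
  let S := hfin.toFinset
  let single (t : T) : (pushIncl Z t).obj (M t) ⟶ prodPush M :=
    Pi.lift fun s => if h : t = s then eqToHom (congrArg (fun r => (pushIncl Z r).obj (M r)) h) else 0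
  have hsingle (t s : T) (b : ((pushIncl Z t).obj (M t)).obj.obj (op V)) :
      pcomp M s ((single t).hom.app (op V) b) =
        if h : t = s then
          (eqToHom (congrArg (fun r => (pushIncl Z r).obj (M r)) h)).hom.app (op V) b else 0 := by
    refine (ConcreteCategory.congr_hom (NatTrans.congr_app (congrArg InducedCategory.Hom.hom
      (Pi.lift_π (f := fun r => (pushIncl Z r).obj (M r)) (fun s => if h : t = s then
        eqToHom (congrArg (fun r => (pushIncl Z r).obj (M r)) h) else 0) s)) (op V)) b).trans ?_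
    split_ifs <;> rfl
  refine ⟨∑ t : S, (single t.1).hom.app (op V) (a t.1 (hfin.mem_toFinset.1 t.2)), fun s hs => ?_⟩
  rw [map_sum, Finset.sum_eq_single (⟨s, hfin.mem_toFinset.2 hs⟩ : S)]
  · rw [hsingle, dif_pos rfl]
    rfl
  · intro t _ hne
    rw [hsingle, dif_neg (fun e => hne (Subtype.ext e))]
  · exact fun h => absurd (Finset.mem_univ _) h

variable (hZ : ∀ t, IsClosed (Z t)) (hlf : LocallyFinite Z)

include hZ hlf in
lemma shortExact_prodPush {S : ∀ t, ShortComplex (CohTop.Ab (TopCat.of (Z t)))}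
    (hS : ∀ t, (S t).ShortExact) (w : prodPushMap (fun t => (S t).f) ≫
      prodPushMap (fun t => (S t).g) = 0) :
    (ShortComplex.mk _ _ w).ShortExact := by
  have hP (t : T) : ((S t).map (pushIncl Z t)).ShortExact :=
    push_map_shortExact' (incl (Z t)) (hZ t).isClosedEmbedding_subtypeVal (hS t)
  refine
    { exact := exact_of_local _ fun V c hc x hx => ?_
      mono_f := ?_
      epi_g := ?_ }
  · obtain ⟨V', hx', hle, hV⟩ := exists_adapted hZ hlf hx
    let c' := (prodPush fun t => (S t).X₂).obj.map (homOfLE hle).op c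
    have hc' : ∀ t, ((S t).map (pushIncl Z t)).g.hom.app (op V') (pcomp _ t c') = 0 := fun t => by
      refine (pcomp_prodPushMap _ (fun t => (S t).g) t c').symm.trans ?_
      refine (congrArg (pcomp _ t) ((ConcreteCategory.congr_hom
        ((prodPushMap fun t => (S t).g).hom.naturality (homOfLE hle).op) c).trans
        ((congrArg _ hc).trans (map_zero ((prodPush fun t => (S t).X₃).obj.map (homOfLE hle).op).hom)))).trans (map_zero _)
    choose a ha using fun t => sections_exact (hP t) V' (pcomp _ t c') (hc' t)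
    obtain ⟨y, hy⟩ := exists_pcomp (fun t => (S t).X₁) (hlf.point_finite x) (V := V') fun t _ => a t
    refine ⟨V', homOfLE hle, hx', y, pcomp_ext _ hV fun t ht => ?_⟩
    refine (pcomp_prodPushMap _ (fun t => (S t).f) t y).trans ?_
    rw [hy t ht]
    exact ha t
  · have (t : T) : Mono ((pushIncl Z t).map (S t).f) := (hP t).mono_f
    exact ⟨fun a b h => Pi.hom_ext _ _ fun t => (cancel_mono ((pushIncl Z t).map (S t).f)).1 <| by
      rw [Category.assoc, Category.assoc, ← Limits.Pi.map_π (fun t => (pushIncl Z t).map (S t).f),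
        ← Category.assoc, ← Category.assoc]
      exact congrArg (· ≫ _) h⟩
  · refine (Sheaf.isLocallySurjective_iff_epi' (A := AddCommGrpCat.{u}) _).1 ⟨fun {V} c => ?_⟩
    intro x hx
    obtain ⟨V', hx', hle, hV⟩ := exists_adapted hZ hlf hx
    let c' := (prodPush fun t => (S t).X₃).obj.map (homOfLE hle).op c
    have key : ∀ t : {t // x ∈ Z t}, ∃ (W : Opens X) (i : W ⟶ V'), x ∈ W ∧
        ∃ a, ((S t.1).map (pushIncl Z t.1)).g.hom.app (op W) a =
          ((pushIncl Z t.1).obj (S t.1).X₃).obj.map i.op (pcomp _ t.1 c') := by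
      intro t
      have := (hP t.1).epi_g
      obtain ⟨R, hR, hR'⟩ := exists_local_lift ((S t.1).map (pushIncl Z t.1)).g
        (U := V') (pcomp _ t.1 c')
      obtain ⟨W, i, hi, hxW⟩ := hR x hx'
      exact ⟨W, i, hxW, hR' i hi⟩
    choose W i hW a ha using key
    have : Finite {t // x ∈ Z t} := (hlf.point_finite x).to_subtype
    obtain ⟨W', h₁, h₂, h₃⟩ := exists_nhd Set.finite_univ hx' W fun t _ => hW t
    obtain ⟨y, hy⟩ := exists_pcomp (fun t => (S t).X₂) (hlf.point_finite x) (V := W') fun t ht =>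
      ((pushIncl Z t).obj (S t).X₂).obj.map (homOfLE (h₃ ⟨t, ht⟩ (Set.mem_univ _))).op (a ⟨t, ht⟩)
    refine ⟨W', homOfLE (h₂.trans hle), ⟨y, ?_⟩, h₁⟩
    refine pcomp_ext _ (fun t ht z hz => hV t ht z (h₂ hz)) fun t ht => ?_
    refine (pcomp_prodPushMap _ (fun t => (S t).g) t y).trans ?_
    rw [hy t ht, pcomp_map]
    refine (ConcreteCategory.congr_hom (((S t).map (pushIncl Z t)).g.hom.naturality
      (homOfLE (h₃ ⟨t, ht⟩ (Set.mem_univ _))).op) (a ⟨t, ht⟩)).trans ?_
    refine (congrArg _ (ha ⟨t, ht⟩)).trans ?_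
    have e : (homOfLE (h₂.trans hle) : W' ⟶ V) =
        homOfLE (h₃ ⟨t, ht⟩ (Set.mem_univ _)) ≫ i ⟨t, ht⟩ ≫ homOfLE hle := rfl
    rw [e, pcomp_map, op_comp, op_comp, Functor.map_comp, Functor.map_comp]
    rfl

section Ext

variable {A : Type*} [Category.{u} A] [Abelian A] [HasExt.{u} A]

/-- The connecting map of a short exact sequence is bijective in positive degrees when the middle
term is injective. -/
noncomputable def shiftEquiv (P : A) {S : ShortComplex A} (hS : S.ShortExact) [Injective S.X₂]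
    (q : ℕ) : Ext P S.X₃ (q + 1) ≃+ Ext P S.X₁ (q + 2) :=
  AddEquiv.ofBijective (hS.extClass.postcomp P rfl)
    ⟨(injective_iff_map_eq_zero _).2 fun x hx => by
      obtain ⟨x₂, rfl⟩ := Ext.covariant_sequence_exact₃ P hS x rfl hx
      rw [Ext.eq_zero_of_injective x₂, Ext.zero_comp],
    fun y => Ext.covariant_sequence_exact₁ P hS y (Ext.eq_zero_of_injective _) rfl⟩

/-- The connecting map in degree zero. -/
noncomputable def shiftZero (P : A) {S : ShortComplex A} (hS : S.ShortExact) :
    (P ⟶ S.X₃) →+ Ext P S.X₁ 1 :=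
  (hS.extClass.postcomp P rfl).comp Ext.addEquiv₀.symm.toAddMonoidHom

lemma shiftZero_surjective (P : A) {S : ShortComplex A} (hS : S.ShortExact) [Injective S.X₂] :
    Function.Surjective (shiftZero P hS) := fun y => by
  obtain ⟨x, hx⟩ := Ext.covariant_sequence_exact₁ P hS y (Ext.eq_zero_of_injective _) (n₀ := 0) rfl
  exact ⟨Ext.addEquiv₀ x, (congrArg (hS.extClass.postcomp P rfl)
    (Ext.addEquiv₀.symm_apply_apply x)).trans hx⟩

lemma shiftZero_eq_zero_iff (P : A) {S : ShortComplex A} (hS : S.ShortExact) (f : P ⟶ S.X₃) :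
    shiftZero P hS f = 0 ↔ ∃ g : P ⟶ S.X₂, g ≫ S.g = f := by
  constructor
  · intro h
    obtain ⟨x₂, hx₂⟩ := Ext.covariant_sequence_exact₃ P hS (Ext.mk₀ f) rfl h
    obtain ⟨g, rfl⟩ := (Ext.mk₀_bijective _ _).2 x₂
    exact ⟨g, (Ext.mk₀_bijective _ _).1 ((Ext.mk₀_comp_mk₀ g S.g).symm.trans hx₂)⟩
  · rintro ⟨g, rfl⟩
    change (Ext.mk₀ (g ≫ S.g)).comp hS.extClass rfl = 0
    rw [← Ext.mk₀_comp_mk₀, Ext.comp_assoc_of_second_deg_zero, hS.comp_extClass, Ext.comp_zero]

/-- `Ext^1` into a product, in terms of short exact sequences with injective middle terms. -/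
theorem nonempty_ext_one_pi {T : Type u} (P : A) (S : T → ShortComplex A)
    [HasProduct fun t => (S t).X₁] [HasProduct fun t => (S t).X₂] [HasProduct fun t => (S t).X₃]
    (hS : ∀ t, (S t).ShortExact) [∀ t, Injective (S t).X₂]
    (w : Limits.Pi.map (fun t => (S t).f) ≫ Limits.Pi.map (fun t => (S t).g) = 0)
    (hT : (ShortComplex.mk _ _ w).ShortExact) [Injective (∏ᶜ fun t => (S t).X₂)] :
    Nonempty (Ext P (∏ᶜ fun t => (S t).X₁) 1 ≃+ ∀ t, Ext P (S t).X₁ 1) := by
  have : Injective (ShortComplex.mk _ _ w).X₂ := inferInstanceAs (Injective (∏ᶜ fun t => (S t).X₂))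
  let f₁ := shiftZero P hT
  let f₂ : (P ⟶ ∏ᶜ fun t => (S t).X₃) →+ ∀ t, Ext P (S t).X₁ 1 :=
    AddMonoidHom.mk' (fun a t => shiftZero P (hS t) (a ≫ Pi.π _ t)) fun a b => funext fun t =>
      (congrArg (shiftZero P (hS t)) (Preadditive.add_comp _ _ _ _ _ _)).trans (map_add _ _ _)
  have h₂ : Function.Surjective f₂ := fun y => by
    choose a ha using fun t => shiftZero_surjective P (hS t) (y t)
    exact ⟨Pi.lift a, funext fun t => (congrArg (shiftZero P (hS t)) (Pi.lift_π a t)).trans (ha t)⟩
  have hker : f₁.ker = f₂.ker := by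
    ext a
    rw [AddMonoidHom.mem_ker, AddMonoidHom.mem_ker, shiftZero_eq_zero_iff]
    constructor
    · rintro ⟨g, rfl⟩
      funext t
      exact (shiftZero_eq_zero_iff P (hS t) _).2 ⟨g ≫ Pi.π _ t,
        (Category.assoc _ _ _).trans ((congrArg (g ≫ ·) (Limits.Pi.map_π (fun t => (S t).g) t).symm).trans
          (Category.assoc _ _ _).symm)⟩
    · intro h
      choose g hg using fun t => (shiftZero_eq_zero_iff P (hS t) _).1 (congrFun h t)
      refine ⟨Pi.lift g, Pi.hom_ext _ _ fun t => ?_⟩
      rw [Category.assoc]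
      refine (congrArg (Pi.lift g ≫ ·) (Limits.Pi.map_π (fun t => (S t).g) t)).trans ?_
      rw [← Category.assoc, Pi.lift_π]
      exact hg t
  exact ⟨((QuotientAddGroup.quotientKerEquivOfSurjective f₁
    (shiftZero_surjective P hT)).symm.trans (QuotientAddGroup.quotientAddEquivOfEq hker)).trans
      (QuotientAddGroup.quotientKerEquivOfSurjective f₂ h₂)⟩

end Ext

include hZ hlf in
/-- Ext into the product is the product of the Ext groups. -/
theorem nonempty_ext_prodPush (P : CohTop.Ab X) (q : ℕ) :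
    ∀ M : ∀ t, CohTop.Ab (TopCat.of (Z t)),
      Nonempty (Ext P (prodPush M) q ≃+ ∀ t, Ext P ((pushIncl Z t).obj (M t)) q) := by
  induction q with
  | zero =>
    intro M
    let e : (P ⟶ prodPush M) ≃+ ∀ t, P ⟶ (pushIncl Z t).obj (M t) :=
      { toFun := fun f t => f ≫ Pi.π _ t
        invFun := fun g => Pi.lift g
        left_inv := fun f => Pi.hom_ext _ _ fun t => by simp
        right_inv := fun g => funext fun t => Pi.lift_π g t
        map_add' := fun f g => funext fun t => Preadditive.add_comp _ _ _ _ _ _ }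
    exact ⟨Ext.addEquiv₀.trans (e.trans (AddEquiv.piCongrRight fun t => Ext.addEquiv₀.symm))⟩
  | succ q ih =>
    intro M
    let S (t : T) := injEmbed (M t)
    have hS (t : T) : (S t).ShortExact := injEmbed_shortExact (M t)
    have w : prodPushMap (fun t => (S t).f) ≫ prodPushMap (fun t => (S t).g) = 0 :=
      Pi.hom_ext _ _ fun t => by
        simp only [Category.assoc, Limits.Pi.map_π, Limits.Pi.map_π_assoc, zero_comp]
        rw [← Functor.map_comp, (S t).zero, Functor.map_zero, comp_zero]
    have hT := shortExact_prodPush hZ hlf hS w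
    have hI (t : T) : Injective ((pushIncl Z t).obj (S t).X₂) :=
      haveI : Injective (S t).X₂ := inferInstanceAs (Injective (Injective.under (M t)))
      haveI := pushTop_preservesInjectiveObjects (incl (Z t))
      (pushIncl Z t).injective_obj_of_injective inferInstance
    haveI : Injective (ShortComplex.mk _ _ w).X₂ :=
      inferInstanceAs (Injective (∏ᶜ fun t => (pushIncl Z t).obj (S t).X₂))
    have hP (t : T) : ((S t).map (pushIncl Z t)).ShortExact :=
      push_map_shortExact' (incl (Z t)) (hZ t).isClosedEmbedding_subtypeVal (hS t)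
    haveI (t : T) : Injective ((S t).map (pushIncl Z t)).X₂ := hI t
    cases q with
    | succ q =>
      obtain ⟨e⟩ := ih fun t => (S t).X₃
      exact ⟨((shiftEquiv P hT q).symm.trans e).trans
        (AddEquiv.piCongrRight fun t => shiftEquiv P (hP t) q)⟩
    | zero => exact nonempty_ext_one_pi P (fun t => (S t).map (pushIncl Z t)) hP w hT

end Groth.Agent.SiteCoh.Closed
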