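import Groth.Agent.SiteCoh.LocalHomeo
import Groth.Agent.SiteCoh.SheafTools
import Groth.Agent.SpecSeq.CompExact

/-!
# Cohomology of inverse images along local homeomorphisms, fibre powers of local homeomorphisms
-/

set_option autoImplicit false

universe u

open CategoryTheory CategoryTheory.Limits CategoryTheory.Abelian Opposite TopologicalSpace

namespace Groth.Agent.SiteCoh.LH

variable {Y S : TopCat.{u}} {a : Y ⟶ S}

/-- Right derived functors of sections are cohomology. -/
noncomputable def sectionsAtDerivedIso (U : Opens Y) (F : CohTop.Ab Y) (q : ℕ) :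
    ((sectionsAt (Opens.grothendieckTopology Y) U).rightDerived q).obj F ≅
      AddCommGrpCat.of (CohTop.HU F q U) :=
  (rightDerivedCompExactIso (sheafToPresheaf _ AddCommGrpCat.{u})
      ((evaluation _ AddCommGrpCat.{u}).obj (op U)) q).app F ≪≫
    ((evaluation _ AddCommGrpCat.{u}).obj (op U)).mapIso
      ((sectionsDerivedIso (Opens.grothendieckTopology Y) q).app F)

instance pull_additive : (CohTop.pull a).Additive :=
  haveI : (TopCat.Sheaf.pushforward AddCommGrpCat.{u} a).Additive :=
    inferInstanceAs (CohTop.push a).Additive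
  (TopCat.Sheaf.pullbackPushforwardAdjunction AddCommGrpCat.{u} a).left_adjoint_additive

lemma pull_preservesFiniteColimits : PreservesFiniteColimits (CohTop.pull a) :=
  ⟨fun _ _ _ =>
    (TopCat.Sheaf.pullbackPushforwardAdjunction AddCommGrpCat.{u}
      a).leftAdjoint_preservesColimits.preservesColimitsOfShape⟩

/-- The cohomology of the inverse image along a local homeomorphism is that of the sheaf with
respect to the sheaf of sections. -/
theorem nonempty_h_pull_iso (ha : IsLocalHomeomorph a) (F : CohTop.Ab S) (q : ℕ) :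
    Nonempty (AddCommGrpCat.of (CohTop.H ((CohTop.pull a).obj F) q) ≅
      ((SpecSeq.homFrom ((Sheaf.composeAndSheafify _ AddCommGrpCat.free.{u}).obj
        (secSheaf a ⊤))).rightDerived q).obj F) := by
  have := pull_preservesFiniteColimits (a := a)
  let G := sectionsAt (Opens.grothendieckTopology Y) (⊤ : Opens Y)
  let e : CohTop.pull a ⋙ G ≅
      SpecSeq.homFrom ((Sheaf.composeAndSheafify _ AddCommGrpCat.free.{u}).obj (secSheaf a ⊤)) :=
    Functor.isoWhiskerRight (pullIso ha) G ≪≫ secIso ha ⊤
  obtain ⟨e'⟩ := SpecSeq.nonempty_rightDerived_exactComp (CohTop.pull a) G (fun Q hQ p hp => by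
    obtain ⟨k, rfl⟩ := Nat.exists_eq_succ_of_ne_zero hp.ne'
    have := isFlasque_aStar ha Q
    have := subsingleton_HU_of_isFlasque ((aStar ha).obj Q) ⊤ k
    exact ((AddCommGrpCat.isZero_of_subsingleton
      (AddCommGrpCat.of (CohTop.HU ((aStar ha).obj Q) (k + 1) ⊤))).of_iso
        (sectionsAtDerivedIso ⊤ _ _)).of_iso ((G.rightDerived _).mapIso ((pullIso ha).app Q))) F q
  exact ⟨(hUTopEquiv _ q).symm.toAddCommGrpIso ≪≫ (sectionsAtDerivedIso ⊤ _ q).symm ≪≫
    e'.symm ≪≫ (rightDerivedCongr e q).app F⟩

/-- A section as a continuous map. -/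
def sfun {W : Opens Y} {U : Opens S} (s : (secSheaf a W).obj.obj (op U)) : TopCat.of U ⟶ Y :=
  TopCat.ofHom ⟨sval s, continuous_sval s⟩

lemma sfun_comp {W : Opens Y} {U : Opens S} (s : (secSheaf a W).obj.obj (op U)) :
    sfun s ≫ a = Opens.inclusion' U := by
  ext x
  exact app_sval s x

variable {X : TopCat.{u}} (f : X ⟶ S) (n : ℕ)

/-- The base of a fibre power. -/
noncomputable abbrev powBase :
    widePullback S (fun _ : Fin (n + 1) => X) (fun _ => f) ⟶ S :=
  WidePullback.base (fun _ : Fin (n + 1) => f)

variable {f n} in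
lemma pow_ext {x y : (widePullback S (fun _ : Fin (n + 1) => X) (fun _ => f) : TopCat.{u})}
    (h : ∀ i, WidePullback.π (fun _ : Fin (n + 1) => f) i x =
      WidePullback.π (fun _ : Fin (n + 1) => f) i y) : x = y :=
  Concrete.widePullback_ext' (fun _ : Fin (n + 1) => f) x y h

lemma app_pow (i : Fin (n + 1))
    (x : (widePullback S (fun _ : Fin (n + 1) => X) (fun _ => f) : TopCat.{u})) :
    f (WidePullback.π (fun _ : Fin (n + 1) => f) i x) = powBase f n x :=
  ConcreteCategory.congr_hom (WidePullback.π_arrow (fun _ : Fin (n + 1) => f) i) x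

variable {f} in
/-- Fibre powers of a local homeomorphism are local homeomorphisms. -/
lemma isLocalHomeomorph_powBase (hf : IsLocalHomeomorph f) : IsLocalHomeomorph (powBase f n) := by
  refine IsLocalHomeomorph.mk _ fun x => ?_
  choose e hex he using fun i => hf (WidePullback.π (fun _ : Fin (n + 1) => f) i x)
  have htgt : IsOpen (⋂ i, (e i).target) := isOpen_iInter_of_finite fun i => (e i).open_target
  let U : Opens S := ⟨⋂ i, (e i).target, htgt⟩
  let l : ∀ i, TopCat.of U ⟶ X := fun i => TopCat.ofHom ⟨fun z => (e i).symm z.1,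
    continuousOn_iff_continuous_domRestrict.1
      ((e i).continuousOn_invFun.mono (Set.iInter_subset _ i))⟩
  let s : TopCat.of U ⟶ widePullback S (fun _ : Fin (n + 1) => X) (fun _ => f) :=
    WidePullback.lift (Opens.inclusion' U) l fun i => by
      ext z
      exact (congrFun (he i) _).trans ((e i).right_inv (Set.mem_iInter.1 z.2 i))
  have hs : ∀ z, powBase f n (s z) = z.1 := fun z =>
    ConcreteCategory.congr_hom (WidePullback.lift_base _ _ _ _) z
  have hsπ : ∀ i z, WidePullback.π (fun _ : Fin (n + 1) => f) i (s z) = (e i).symm z.1 :=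
    fun i z => ConcreteCategory.congr_hom (WidePullback.lift_π _ _ _ _ i) z
  let V : Set (widePullback S (fun _ : Fin (n + 1) => X) (fun _ => f) : TopCat.{u}) :=
    powBase f n ⁻¹' U ∩ ⋂ i, WidePullback.π (fun _ : Fin (n + 1) => f) i ⁻¹' (e i).source
  have hV : IsOpen V := (U.2.preimage (powBase f n).hom.continuous).inter
    (isOpen_iInter_of_finite fun i =>
      (e i).open_source.preimage (WidePullback.π (fun _ : Fin (n + 1) => f) i).hom.continuous)
  have hVs : ∀ (y) (hy : y ∈ V), s ⟨powBase f n y, hy.1⟩ = y := fun y hy =>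
    pow_ext fun i => by
      refine (hsπ i _).trans ?_
      change (e i).symm (powBase f n y) = _
      rw [← app_pow f n i y]
      exact (congrArg (e i).symm (congrFun (he i) _)).trans
        ((e i).left_inv (Set.mem_iInter.1 hy.2 i))
  classical
  refine ⟨{
    toFun := powBase f n
    invFun := fun z => if h : z ∈ U then s ⟨z, h⟩ else x
    source := V
    target := U
    map_source' := fun y hy => hy.1
    map_target' := fun z hz => by
      rw [dif_pos (show z ∈ U from hz)]
      refine ⟨Set.mem_preimage.2 (by rw [hs]; exact hz), Set.mem_iInter.2 fun i => ?_⟩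
      rw [Set.mem_preimage, hsπ]
      exact (e i).map_target (Set.mem_iInter.1 hz i)
    left_inv' := fun y hy => by
      rw [dif_pos (show powBase f n y ∈ U from hy.1)]
      exact hVs y hy
    right_inv' := fun z hz => by rw [dif_pos (show z ∈ U from hz)]; exact hs ⟨z, hz⟩
    open_source := hV
    open_target := U.2
    continuousOn_toFun := (powBase f n).hom.continuous.continuousOn
    continuousOn_invFun := by
      rw [continuousOn_iff_continuous_domRestrict]
      refine (s.hom.continuous).congr fun z => ?_
      change s z = dite (z.1 ∈ U) _ _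
      rw [dif_pos (show z.1 ∈ U from z.2)] }, ⟨Set.mem_preimage.2 (Set.mem_iInter.2 fun i => ?_),
        Set.mem_iInter.2 fun i => hex i⟩, fun _ _ => rfl⟩
  rw [← app_pow f n i x, congrFun (he i) _]
  exact (e i).map_source (hex i)

end Groth.Agent.SiteCoh.LH
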