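import Groth.Agent.SiteCoh.GlueCompact
import Groth.Agent.SiteCoh.LocalHomeoCoh
import Mathlib.Topology.Sheaves.Abelian
import Mathlib.CategoryTheory.Filtered.Basic

/-!
# Restriction to a compact relatively Hausdorff subspace
-/

set_option autoImplicit false

universe u

open CategoryTheory CategoryTheory.Limits Opposite TopologicalSpace

namespace Groth.Agent.SiteCoh.Compact

open Pull

variable {X Z : TopCat.{u}}

/-- A compact relatively Hausdorff subspace. -/
structure IsCompactSub (g : Z ⟶ X) : Prop where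
  emb : Topology.IsEmbedding g
  compact : CompactSpace Z
  sep : Sep (Set.range g)

variable {g : Z ⟶ X}

lemma IsCompactSub.isCompact_range (hg : IsCompactSub g) : IsCompact (Set.range g) :=
  haveI := hg.compact
  _root_.isCompact_range g.hom.continuous

lemma IsCompactSub.t2Space (hg : IsCompactSub g) : T2Space Z :=
  haveI := hg.sep.t2Space
  T2Space.of_injective_continuous (f := fun z => (⟨g z, z, rfl⟩ : Set.range g))
    (fun _ _ e => hg.emb.injective (congrArg Subtype.val e))
    (g.hom.continuous.subtype_mk _)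

lemma IsCompactSub.exists_preimage (hg : IsCompactSub g) (W : Opens Z) :
    ∃ O : Opens X, ∀ z : Z, z ∈ W ↔ g z ∈ O := by
  obtain ⟨O, hO, e⟩ := hg.emb.isInducing.isOpen_iff.1 W.2
  exact ⟨⟨O, hO⟩, fun z => (Set.ext_iff.1 e z).symm⟩

lemma isCompactSub_incl {A : Set X} (hA : IsCompact A) (hsep : Sep A) :
    IsCompactSub (TopCat.ofHom ⟨((↑) : A → X), continuous_subtype_val⟩ : TopCat.of A ⟶ X) where
  emb := Topology.IsEmbedding.subtypeVal
  compact := isCompact_iff_compactSpace.1 hA
  sep := by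
    have h : Set.range (Subtype.val : A → X) = A := Subtype.range_val
    intro x hx y hy hne
    exact hsep x (h ▸ hx) y (h ▸ hy) hne

/-- Restriction of a section to the subspace. -/
noncomputable def restrTop (g : Z ⟶ X) (F : CohTop.Ab X) (O : Opens X) (h : ∀ z : Z, g z ∈ O) :
    F.obj.obj (op O) ⟶ ((CohTop.pull g).obj F).obj.obj (op (⊤ : Opens Z)) :=
  (unit g F).hom.app (op O) ≫
    ((CohTop.pull g).obj F).obj.map (homOfLE (fun z _ => h z : (⊤ : Opens Z) ≤ (Opens.map g).obj O)).op

lemma germ_restrTop (F : CohTop.Ab X) {O : Opens X} (h : ∀ z : Z, g z ∈ O)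
    (t : F.obj.obj (op O)) (z : Z) :
    germ ((CohTop.pull g).obj F) (U := ⊤) trivial (restrTop g F O h t) =
      germMap g F z (germ F (h z) t) := by
  rw [germMap_germ]
  exact TopCat.Presheaf.germ_res_apply _ (homOfLE _) z _ _

lemma restrTop_res (F : CohTop.Ab X) {O O' : Opens X} (i : O' ⟶ O) (h : ∀ z : Z, g z ∈ O')
    (t : F.obj.obj (op O)) :
    restrTop g F O' h (F.obj.map i.op t) = restrTop g F O (fun z => i.le (h z)) t := by
  refine TopCat.Presheaf.section_ext ((CohTop.pull g).obj F) ⊤ _ _ fun z _ => ?_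
  refine (germ_restrTop F h _ z).trans (Eq.trans ?_ (germ_restrTop F _ t z).symm)
  exact congrArg (germMap g F z) (TopCat.Presheaf.germ_res_apply F.obj i (g z) (h z) t)

lemma restrTop_naturality {F G : CohTop.Ab X} (φ : F ⟶ G) {O : Opens X} (h : ∀ z : Z, g z ∈ O)
    (t : F.obj.obj (op O)) :
    ((CohTop.pull g).map φ).hom.app (op ⊤) (restrTop g F O h t) =
      restrTop g G O h (φ.hom.app (op O) t) := by
  have hu : φ ≫ unit g G = unit g F ≫ (CohTop.push g).map ((CohTop.pull g).map φ) :=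
    (TopCat.Sheaf.pullbackPushforwardAdjunction AddCommGrpCat.{u} g).unit.naturality φ
  refine (NatTrans.naturality_apply ((CohTop.pull g).map φ).hom _ _).trans ?_
  exact congrArg (((CohTop.pull g).obj G).obj.map _)
    (ConcreteCategory.congr_hom (NatTrans.congr_app (congrArg InducedCategory.Hom.hom hu) (op O)) t).symm

/-- Sections on the subspace come from a neighbourhood. -/
theorem exists_restrTop_eq (hg : IsCompactSub g) (F : CohTop.Ab X)
    (τ : ((CohTop.pull g).obj F).obj.obj (op (⊤ : Opens Z))) :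
    ∃ (O : Opens X) (h : ∀ z : Z, g z ∈ O) (t : F.obj.obj (op O)), restrTop g F O h t = τ := by
  choose pre hpre using fun (x : X) (hx : x ∈ Set.range g) => hx
  let inv : ∀ z, stk ((CohTop.pull g).obj F) z → stk F (g z) := fun z =>
    (Equiv.ofBijective _ (bijective_germMap g F z)).symm
  have hinv : ∀ z (c : stk F (g z)) (d), germMap g F z c = d → c = inv z d := fun z c d e =>
    ((Equiv.ofBijective _ (bijective_germMap g F z)).eq_symm_apply).2 e
  let σ : ∀ x ∈ Set.range g, stk F x := fun x hx =>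
    (hpre x hx) ▸ inv (pre x hx) (germ ((CohTop.pull g).obj F) (U := ⊤) trivial τ)
  have hσ : ∀ z : Z, σ (g z) ⟨z, rfl⟩ = inv z (germ ((CohTop.pull g).obj F) (U := ⊤) trivial τ) := by
    intro z
    have : ∀ (w : Z) (hw : g w = g z),
        hw ▸ inv w (germ ((CohTop.pull g).obj F) (U := ⊤) trivial τ) =
          inv z (germ ((CohTop.pull g).obj F) (U := ⊤) trivial τ) := by
      intro w hw
      obtain rfl : w = z := hg.emb.injective hw
      rfl
    exact this _ _
  obtain ⟨O, t, h, ht⟩ := exists_section_of_germs hg.isCompact_range hg.sep σ (by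
    rintro _ ⟨z, rfl⟩
    obtain ⟨U, W', _, hW'U, t, hzW', e⟩ := exists_local g F τ (z := z) trivial
    obtain ⟨O, hO⟩ := hg.exists_preimage W'
    refine ⟨U ⊓ O, ⟨hW'U hzW', (hO z).1 hzW'⟩, F.obj.map (homOfLE inf_le_left).op t, ?_⟩
    rintro _ hw ⟨w, rfl⟩
    refine Eq.trans ?_ (hσ w).symm
    refine hinv w _ _ ?_
    have hwW : w ∈ W' := (hO w).2 hw.2
    rw [show germ F hw (F.obj.map (homOfLE inf_le_left).op t) = germ F hw.1 t from
      TopCat.Presheaf.germ_res_apply F.obj _ _ _ t, germMap_germ]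
    have e' := congrArg (TopCat.Presheaf.germ ((CohTop.pull g).obj F).obj W' w hwW) e
    exact ((TopCat.Presheaf.germ_res_apply _ (homOfLE _) w hwW _).symm.trans
      (e'.symm.trans (TopCat.Presheaf.germ_res_apply _ (homOfLE _) w hwW τ))))
  refine ⟨O, fun z => h ⟨z, rfl⟩, t, TopCat.Presheaf.section_ext _ _ _ _ fun z _ => ?_⟩
  refine (germ_restrTop F _ t z).trans ?_
  rw [show germ F (h ⟨z, rfl⟩) t = σ (g z) ⟨z, rfl⟩ from ht (g z) ⟨z, rfl⟩, hσ]
  exact (Equiv.ofBijective _ (bijective_germMap g F z)).apply_symm_apply _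

/-- A section vanishing on the subspace vanishes near it. -/
theorem exists_res_eq_zero (F : CohTop.Ab X) {O : Opens X} (h : ∀ z : Z, g z ∈ O)
    (t : F.obj.obj (op O)) (ht : restrTop g F O h t = 0) :
    ∃ (W : Opens X) (hW : W ≤ O), (∀ z : Z, g z ∈ W) ∧ F.obj.map (homOfLE hW).op t = 0 := by
  obtain ⟨W, hW, _, hK, e⟩ := exists_open_of_germ_eq t (0 : F.obj.obj (op O))
    (K := Set.range g) (fun _ ⟨z, hz⟩ => hz ▸ h z) (fun _ ⟨z, hz⟩ => hz ▸ h z) (by
      rintro _ ⟨z, rfl⟩
      refine Eq.trans ?_ (map_zero _).symm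
      refine (bijective_germMap g F z).1 ?_
      rw [← germ_restrTop F h t z, ht, map_zero]
      exact map_zero _)
  exact ⟨W, hW, fun z => hK ⟨z, rfl⟩, e.trans (map_zero _)⟩

/-- The restriction of a flasque sheaf is soft. -/
theorem soft_pull (hg : IsCompactSub g) (F : CohTop.Ab X) [TopCat.Sheaf.IsFlasque F] :
    Soft ((CohTop.pull g).obj F) := by
  intro K hK O hKO τ
  have := hg.compact
  have hA : IsCompact (g '' K) := hK.isCompact.image g.hom.continuous
  have hAr : g '' K ⊆ Set.range g := Set.image_subset_range _ _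
  obtain ⟨O', t, h, ht⟩ := exists_section_near (F := F) hA (hg.sep.mono hAr)
    (fun x c => ∀ (z : Z) (hz : g z = x) (hzO : z ∈ O),
      germMap g F z (hz ▸ c) = germ ((CohTop.pull g).obj F) hzO τ)
    (by
      rintro _ ⟨z, hz, rfl⟩
      obtain ⟨U, W', hW'O, hW'U, t, hzW', e⟩ := exists_local g F τ (hKO hz)
      obtain ⟨Q, hQ⟩ := hg.exists_preimage W'
      refine ⟨U ⊓ Q, ⟨hW'U hzW', (hQ z).1 hzW'⟩, F.obj.map (homOfLE inf_le_left).op t, ?_⟩
      intro x hx _ w hwx hwO
      subst hwx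
      have hwW : w ∈ W' := (hQ w).2 hx.2
      change germMap g F w (germ F hx (F.obj.map _ t)) = _
      rw [show germ F hx (F.obj.map (homOfLE inf_le_left).op t) = germ F hx.1 t from
        TopCat.Presheaf.germ_res_apply F.obj _ _ _ t, germMap_germ]
      have e' := congrArg (TopCat.Presheaf.germ ((CohTop.pull g).obj F).obj W' w hwW) e
      exact ((TopCat.Presheaf.germ_res_apply _ (homOfLE _) w hwW _).symm.trans
        (e'.symm.trans (TopCat.Presheaf.germ_res_apply _ (homOfLE _) w hwW τ))))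
    (fun B₁ B₂ _ _ hB₁ _ O₁ O₂ t₁ t₂ h₁ h₂ g₁ g₂ => ⟨O₂, t₂, h₂, g₂, fun x hx₁ hx₂ => by
      obtain ⟨z, hz, rfl⟩ := hB₁ hx₁
      exact (bijective_germMap g F z).1
        ((g₁ _ hx₁ z rfl (hKO hz)).trans (g₂ _ hx₂ z rfl (hKO hz)).symm)⟩)
  obtain ⟨T, rfl⟩ := (AddCommGrpCat.epi_iff_surjective _).1
    ((inferInstance : TopCat.Sheaf.IsFlasque F).epi (homOfLE (le_top : O' ≤ ⊤)).op) t
  refine ⟨restrTop g F ⊤ (fun _ => trivial) T, fun z hz => ?_⟩
  refine (germ_restrTop F _ T z).trans (Eq.trans ?_ (ht (g z) ⟨z, hz, rfl⟩ z rfl (hKO hz)))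
  exact congrArg (germMap g F z) (TopCat.Presheaf.germ_res_apply F.obj (homOfLE _) (g z) _ T).symm

/-- The restriction of a flasque sheaf is acyclic. -/
theorem subsingleton_HU_pull (hg : IsCompactSub g) (F : CohTop.Ab X) [TopCat.Sheaf.IsFlasque F]
    (n : ℕ) : Subsingleton (CohTop.HU ((CohTop.pull g).obj F) (n + 1) (⊤ : Opens Z)) :=
  haveI := hg.compact
  haveI := hg.t2Space
  subsingleton_HU_top_of_soft (soft_pull hg F) n

/-- The right derived functors of global sections of the restriction. -/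
theorem nonempty_pull_sections_derived (hg : IsCompactSub g) (F : CohTop.Ab X) (q : ℕ) :
    Nonempty (((CohTop.pull g ⋙ sectionsAt (Opens.grothendieckTopology Z) (⊤ : Opens Z)).rightDerived
        q).obj F ≅ AddCommGrpCat.of (CohTop.H ((CohTop.pull g).obj F) q)) := by
  have := LH.pull_preservesFiniteColimits (a := g)
  let G := sectionsAt (Opens.grothendieckTopology Z) (⊤ : Opens Z)
  obtain ⟨e⟩ := SpecSeq.nonempty_rightDerived_exactComp (CohTop.pull g) G (fun Q hQ p hp => by
    obtain ⟨k, rfl⟩ := Nat.exists_eq_succ_of_ne_zero hp.ne'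
    have := isFlasque_of_injective Q
    have := subsingleton_HU_pull hg Q k
    exact (AddCommGrpCat.isZero_of_subsingleton
      (AddCommGrpCat.of (CohTop.HU ((CohTop.pull g).obj Q) (k + 1) ⊤))).of_iso
        (LH.sectionsAtDerivedIso ⊤ _ _)) F q
  exact ⟨e ≪≫ LH.sectionsAtDerivedIso ⊤ _ q ≪≫ (hUTopEquiv _ q).toAddCommGrpIso⟩

end Groth.Agent.SiteCoh.Compact
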