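import Groth.Agent.SiteCoh.ProperRho

/-!
# Descent along a proper surjective map
-/

set_option autoImplicit false

universe u

open CategoryTheory CategoryTheory.Limits Opposite TopologicalSpace
open scoped Simplicial

namespace Groth.Agent.SiteCoh.PFam

open Groth.Agent.SiteCoh.Fam Groth.Agent.SiteCoh.LH Groth.Agent.SiteCoh.Compact

variable {X S : TopCat.{u}} {f : X ⟶ S}



section Adapters

/-! The following lemmas are only specialisations to the category of sheaves on the family, with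
arbitrary functors, of general lemmas. -/

/-- A natural transformation is a quasi-isomorphism on a complex (kept as a structure, so that it
is never unfolded for concrete functors). -/
structure ResQis {P Q : BigSh f ⥤ AddCommGrpCat.{u}} [P.Additive] [Q.Additive] (η : P ⟶ Q)
    (J' : CochainComplex (BigSh f) ℕ) : Prop where
  quasiIso : QuasiIso ((NatTrans.mapHomologicalComplex η (ComplexShape.up ℕ)).app J')

variable {J' : CochainComplex (BigSh f) ℕ}

lemma cyc_qis {T T' : BigSh f ⥤ CochainComplex AddCommGrpCat.{u} ℕ} [T.Additive] [T'.Additive]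
    (τ : T ⟶ T') (hJ : ∀ q r : ℕ, IsZero ((T.obj (J'.X q)).homology (r + 1)))
    (hJ' : ∀ q r : ℕ, IsZero ((T'.obj (J'.X q)).homology (r + 1)))
    (hτ : ∀ p, QuasiIso ((NatTrans.mapHomologicalComplex (SpecSeq.degMap τ p) (ComplexShape.up ℕ)).app J')) :
    QuasiIso ((NatTrans.mapHomologicalComplex (SpecSeq.cycMap τ 0) (ComplexShape.up ℕ)).app J') :=
  SpecSeq.quasiIso_cycMap τ hJ hJ' hτ

/-- The augmentation is a quasi-isomorphism on a stalk as soon as the restrictions to the fibre
are. -/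
lemma square_qis {P : BigSh f ⥤ CohTop.Ab S} [P.Additive] {T : BigSh f ⥤ CochainComplex (CohTop.Ab S) ℕ}
    [T.Additive] (η : P ⟶ SpecSeq.cycComp T 0) {L : CohTop.Ab S ⥤ AddCommGrpCat.{u}} [L.Additive]
    [PreservesFiniteLimits L] {T' : BigSh f ⥤ CochainComplex AddCommGrpCat.{u} ℕ} [T'.Additive]
    (τ : T ⋙ L.mapHomologicalComplex _ ⟶ T') {P' : BigSh f ⥤ AddCommGrpCat.{u}} [P'.Additive]
    (ρ : P ⋙ L ⟶ P') (ε : P' ⟶ SpecSeq.cycComp T' 0)
    (w : ∀ G, L.map (η.app G) ≫ (SpecSeq.cycLift T L 0).app G ≫ (SpecSeq.cycMap τ 0).app G =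
      ρ.app G ≫ ε.app G)
    (hc : QuasiIso ((NatTrans.mapHomologicalComplex (SpecSeq.cycMap τ 0) (ComplexShape.up ℕ)).app J'))
    (hr : QuasiIso ((NatTrans.mapHomologicalComplex ρ (ComplexShape.up ℕ)).app J'))
    (he : ∀ i, IsIso (ε.app (J'.X i))) :
    ResQis (Functor.whiskerRight η L) J' :=
  ⟨SpecSeq.quasiIso_of_natSquare (Functor.whiskerRight η L) (SpecSeq.cycMapIso T L 0)
    (SpecSeq.cycMap τ 0) ρ ε J' w hc hr he⟩

lemma quasiIso_of_stalk {K L : CochainComplex (CohTop.Ab S) ℕ} (φ : K ⟶ L)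
    (h : ∀ s, QuasiIso (((stalkSh s).mapHomologicalComplex _).map φ)) : QuasiIso φ := by
  rw [quasiIso_iff]
  intro n
  rw [quasiIsoAt_iff_isIso_homologyMap]
  have : ∀ s : S, IsIso ((TopCat.Presheaf.stalkFunctor AddCommGrpCat.{u} s).map
      (HomologicalComplex.homologyMap φ n).hom) := fun s => by
    have := h s
    have hn := ShortComplex.mapHomologyIso_hom_naturality
      ((HomologicalComplex.shortComplexFunctor _ (ComplexShape.up ℕ) n).map φ) (stalkSh s)
    have hi : IsIso (HomologicalComplex.homologyMap (((stalkSh s).mapHomologicalComplex _).map φ) n) :=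
      inferInstance
    have h2 : IsIso (((K.sc n).mapHomologyIso (stalkSh s)).hom ≫
        (stalkSh s).map (HomologicalComplex.homologyMap φ n)) := hn ▸ IsIso.comp_isIso' hi inferInstance
    exact IsIso.of_isIso_comp_left ((K.sc n).mapHomologyIso (stalkSh s)).hom
      ((stalkSh s).map (HomologicalComplex.homologyMap φ n))
  exact TopCat.Presheaf.isIso_of_stalkFunctor_map_iso _

/-- Sections of a stalkwise quasi-isomorphism of flasque resolutions. -/
theorem nonempty_sections_derived_congr {A K : BigSh f ⥤ CohTop.Ab S} [A.Additive] [K.Additive]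
    (η : A ⟶ K) {M : BigSh f} (R : InjectiveResolution M) (U : Opens S)
    (hη : ∀ s, ResQis (Functor.whiskerRight η (stalkSh s)) R.cocomplex)
    (hA : ∀ i, TopCat.Sheaf.IsFlasque (A.obj (R.cocomplex.X i)))
    (hK : ∀ i, TopCat.Sheaf.IsFlasque (K.obj (R.cocomplex.X i))) (n : ℕ) :
    Nonempty (((K ⋙ sectionsAt (Opens.grothendieckTopology S) U).rightDerived n).obj M ≅
      ((A ⋙ sectionsAt (Opens.grothendieckTopology S) U).rightDerived n).obj M) := by
  let Γ := sectionsAt (Opens.grothendieckTopology S) U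
  let Φ := (NatTrans.mapHomologicalComplex η (ComplexShape.up ℕ)).app R.cocomplex
  have hΦ : QuasiIso Φ := quasiIso_of_stalk Φ fun s => (hη s).quasiIso
  have hac : ∀ (G : CohTop.Ab S), TopCat.Sheaf.IsFlasque G → ∀ q, 0 < q → IsZero ((Γ.rightDerived q).obj G) := by
    intro G hG q hq
    obtain ⟨j, rfl⟩ := Nat.exists_eq_succ_of_ne_zero hq.ne'
    have := subsingleton_HU_of_isFlasque G U j
    exact (AddCommGrpCat.isZero_of_subsingleton (AddCommGrpCat.of (CohTop.HU G (j + 1) U))).of_iso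
      (LH.sectionsAtDerivedIso U _ _)
  have hΓ : QuasiIso ((Γ.mapHomologicalComplex _).map Φ) :=
    SpecSeq.quasiIso_map_of_acyclic Γ _ (fun i => hac _ (hA i)) (fun i => hac _ (hK i))
  exact ⟨R.isoRightDerivedObj (K ⋙ Γ) n ≪≫
    (@asIso _ _ _ _ (HomologicalComplex.homologyMap ((Γ.mapHomologicalComplex _).map Φ) n) inferInstance).symm ≪≫
    (R.isoRightDerivedObj (A ⋙ Γ) n).symm⟩

lemma congr_derived {A B : BigSh f ⥤ AddCommGrpCat.{u}} [A.Additive] [B.Additive] (e : A ≅ B)
    {M : BigSh f} {n : ℕ} {Z : AddCommGrpCat.{u}} (h : Nonempty ((B.rightDerived n).obj M ≅ Z)) :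
    Nonempty ((A.rightDerived n).obj M ≅ Z) :=
  h.map fun h => (rightDerivedCongr e n).app M ≪≫ h

lemma hZero_derived {T : BigSh f ⥤ CochainComplex (CohTop.Ab S) ℕ} [T.Additive]
    {U : BigSh f ⥤ CochainComplex AddCommGrpCat.{u} ℕ} [U.Additive]
    (Γ : CohTop.Ab S ⥤ AddCommGrpCat.{u}) [Γ.Additive] [PreservesFiniteLimits Γ]
    (e : T ⋙ Γ.mapHomologicalComplex _ ≅ U) {M : BigSh f} {n : ℕ} {Z : AddCommGrpCat.{u}}
    (h : Nonempty (((SpecSeq.cycComp T 0 ⋙ Γ).rightDerived n).obj M ≅ Z)) :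
    Nonempty (((U ⋙ SpecSeq.hZero AddCommGrpCat.{u}).rightDerived n).obj M ≅ Z) :=
  congr_derived (SpecSeq.hZeroCycIso _ ≪≫ Functor.isoWhiskerRight e.symm _ ≪≫
    (SpecSeq.cycMapIso T Γ 0).symm) h

lemma pageOne {U : BigSh f ⥤ CochainComplex AddCommGrpCat.{u} ℕ} [U.Additive]
    (hU : ∀ Q : BigSh f, Injective Q → ∀ q : ℕ, IsZero ((U.obj Q).homology (q + 1)))
    (M : BigSh f) {H : ℤ → AddCommGrpCat.{u}} {E1 : ℤ → ℤ → AddCommGrpCat.{u}}
    (eH : ∀ n : ℕ, Nonempty (((U ⋙ SpecSeq.hZero AddCommGrpCat.{u}).rightDerived n).obj M ≅ H n))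
    (zH : ∀ n : ℤ, n < 0 → IsZero (H n))
    (eX : ∀ p q : ℕ, Nonempty (((SpecSeq.degComp U p).rightDerived q).obj M ≅ E1 p q))
    (zX : ∀ p q : ℤ, ¬ (0 ≤ p ∧ 0 ≤ q) → IsZero (E1 p q)) :
    ∃ (E : CohomologicalSpectralSequence AddCommGrpCat.{u} 1) (a : SpSeq.Abutment E H),
      (∀ n, a.IsFinite n) ∧ SpSeq.IsBounded E ∧
      ∀ p q : ℤ, Nonempty ((E.page 1 le_rfl).X (p, q) ≅ E1 p q) :=
  SpecSeq.exists_complexFunctor_pageOne U hU M eH zH eX zX

lemma trans_nonempty {A B C : AddCommGrpCat.{u}} (h : Nonempty (A ≅ B)) (h' : Nonempty (B ≅ C)) :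
    Nonempty (A ≅ C) := h.elim fun e => h'.map fun e' => e ≪≫ e'

end Adapters

lemma isFlasque_pushMem (k : Option (Option ℕ)) (Q : BigSh f) [Injective Q] :
    TopCat.Sheaf.IsFlasque ((pushMem f k).obj Q) where
  epi {V W} j := by
    have := isFlasque_restr (a := withBaseMap (pY f) (pa f)) (mem k) Q
    exact this.epi ((Opens.map (ta f k)).map j.unop).op

lemma isFlasque_cycComp (Q : BigSh f) [Injective Q] :
    TopCat.Sheaf.IsFlasque ((SpecSeq.cycComp (cxSheaf f) 0).obj Q) where
  epi {V W} j := by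
    rw [AddCommGrpCat.epi_iff_surjective]
    intro z
    obtain ⟨t, rfl⟩ := surjective_augCyc f Q W.unop z
    obtain ⟨t', rfl⟩ := (AddCommGrpCat.epi_iff_surjective _).1 ((isFlasque_pushMem none Q).epi j) t
    exact ⟨((augCyc f).app Q).hom.app V t', (NatTrans.naturality_apply ((augCyc f).app Q).hom j t').symm⟩

variable (hf : IsProperSep f) {F : CohTop.Ab S} (R : InjectiveResolution ((big (pY f) (pa f)).obj F))

include hf in
lemma resQis_augCyc (hsurj : Function.Surjective f) (s : S) :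
    ResQis (Functor.whiskerRight (augCyc f) (stalkSh s)) R.cocomplex :=
  square_qis (augCyc f) (tau f s) (rho f s none) (augFib f s) (augCyc_stalk f s)
    (cyc_qis (tau f s)
      (fun q r => @isZero_cxStalk_homology _ _ f s (R.cocomplex.X q) (R.injective q) r)
      (fun q r => @isZero_nerveCx_homology_of_injective _ _ _ _ _ _ (R.cocomplex.X q) (R.injective q) r)
      (quasiIso_degMap_tau hf R s))
    (quasiIso_rho hf R s none) (fun i => isIso_augFib f hsurj s (R.cocomplex.X i))


/-- The cycle complex of the nerve of the family has the sections of the augmentation, once the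
augmentation is a stalkwise quasi-isomorphism of flasque complexes. -/
lemma nonempty_cycComp_of {M : BigSh f} {R : InjectiveResolution M}
    (h : ∀ s, ResQis (Functor.whiskerRight (augCyc f) (stalkSh s)) R.cocomplex) (n : ℕ) :
    Nonempty (((SpecSeq.cycComp (cxSheaf f) 0 ⋙
        sectionsAt (Opens.grothendieckTopology S) (⊤ : Opens S)).rightDerived n).obj M ≅
      ((pushMem f none ⋙ sectionsAt (Opens.grothendieckTopology S) (⊤ : Opens S)).rightDerived n).obj M) :=
  nonempty_sections_derived_congr (augCyc f) R ⊤ h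
    (fun i => @isFlasque_pushMem _ _ f none (R.cocomplex.X i) (R.injective i))
    (fun i => @isFlasque_cycComp _ _ f (R.cocomplex.X i) (R.injective i)) n

include hf in
lemma nonempty_cycComp_derived (hsurj : Function.Surjective f) (F : CohTop.Ab S) (n : ℕ) :
    Nonempty (((SpecSeq.cycComp (cxSheaf f) 0 ⋙
        sectionsAt (Opens.grothendieckTopology S) (⊤ : Opens S)).rightDerived n).obj ((big (pY f) (pa f)).obj F) ≅
      ((pushMem f none ⋙ sectionsAt (Opens.grothendieckTopology S) (⊤ : Opens S)).rightDerived n).obj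
        ((big (pY f) (pa f)).obj F)) :=
  nonempty_cycComp_of (resQis_augCyc hf (injectiveResolution ((big (pY f) (pa f)).obj F)) hsurj) n

/-- The member of the family indexed by the base is the base. -/
lemma nonempty_H_base (F : CohTop.Ab S) (n : ℕ) :
    Nonempty (AddCommGrpCat.of (CohTop.H ((CohTop.pull (withBaseMap (pY f) (pa f) (mem none))).obj F) n) ≅
      AddCommGrpCat.of (CohTop.H F n)) :=
  let Γ := sectionsAt (Opens.grothendieckTopology S) (⊤ : Opens S)
  ⟨(hUTopEquiv _ n).symm.toAddCommGrpIso ≪≫ (LH.sectionsAtDerivedIso ⊤ _ n).symm ≪≫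
      (Γ.rightDerived n).mapIso (LH.pullIdIso.app F) ≪≫ LH.sectionsAtDerivedIso ⊤ _ n ≪≫
      (hUTopEquiv _ n).toAddCommGrpIso⟩

include hf in
/-- The descent spectral sequence of a proper surjective map. -/
theorem exists_descent (hsurj : Function.Surjective f) (F : CohTop.Ab S) {H : ℤ → AddCommGrpCat.{u}}
    {E1 : ℤ → ℤ → AddCommGrpCat.{u}}
    (eH : ∀ n : ℕ, Nonempty (AddCommGrpCat.of (CohTop.H F n) ≅ H n))
    (zH : ∀ n : ℤ, n < 0 → IsZero (H n))
    (eX : ∀ p q : ℕ,
      Nonempty (AddCommGrpCat.of (CohTop.H ((CohTop.pull (LH.powBase f p)).obj F) q) ≅ E1 p q))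
    (zX : ∀ p q : ℤ, ¬ (0 ≤ p ∧ 0 ≤ q) → IsZero (E1 p q)) :
    ∃ (E : CohomologicalSpectralSequence AddCommGrpCat.{u} 1) (a : SpSeq.Abutment E H),
      (∀ n, a.IsFinite n) ∧ SpSeq.IsBounded E ∧
      ∀ p q : ℤ, Nonempty ((E.page 1 le_rfl).X (p, q) ≅ E1 p q) := by
  refine pageOne (U := nerveCxFunctor (srcArr f ⊤))
    (fun Q hQ q => isZero_nerveCx_homology_of_injective _ Q q) ((big (pY f) (pa f)).obj F) (fun n => ?_) zH
    (fun p q => ?_) zX
  · refine hZero_derived (T := cxSheaf f) (sectionsAt (Opens.grothendieckTopology S) (⊤ : Opens S))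
      (cxSheafSectionsIso f ⊤) ?_
    let eA : pushMem f none ⋙ sectionsAt (Opens.grothendieckTopology S) (⊤ : Opens S) ≅
        sectionsAt (J (pY f) (pa f)) (top (withBaseMap (pY f) (pa f)) (mem none)) :=
      NatIso.ofComponents (fun _ => Iso.refl _) fun _ => (Category.comp_id _).trans (Category.id_comp _).symm
    exact trans_nonempty (nonempty_cycComp_derived hf hsurj F n)
      (congr_derived eA (trans_nonempty (nonempty_sections_derived_big (pY f) (pa f) (mem none) F n)
        (trans_nonempty (nonempty_H_base F n) (eH n))))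
  · obtain ⟨e⟩ := nonempty_sections_derived_big (pY f) (pa f) (mem (some (some p))) F q
    obtain ⟨e'⟩ := eX p q
    exact congr_derived (powDegIso (isPow_mem f ⊤ p)) ⟨e ≪≫ e'⟩

end Groth.Agent.SiteCoh.PFam
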