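import Groth.Agent.SiteCoh.SpaceFamilyPull
import Groth.Agent.SiteCoh.LocalHomeoDescent

/-!
# Descent along a map of spaces which is a covering in the site of a family of spaces
-/

set_option autoImplicit false

universe u

open CategoryTheory CategoryTheory.Limits Opposite TopologicalSpace AlgebraicTopology
open scoped Simplicial

namespace Groth.Agent.SiteCoh.Fam

variable {S : TopCat.{u}}

/-- The top open of a member. -/
abbrev top {ι : Type u} {Y : ι → TopCat.{u}} (a : ∀ i, Y i ⟶ S) (i : ι) : Obj a := ⟨i, ⊤⟩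

/-- A morphism of tops. -/
def topHom {ι : Type u} {Y : ι → TopCat.{u}} {a : ∀ i, Y i ⟶ S} {i j : ι} (p : Y i ⟶ Y j)
    (h : p ≫ a j = a i) : top a i ⟶ top a j :=
  ⟨⟨fun x => ⟨p x.1, trivial⟩, Continuous.subtype_mk (p.hom.continuous.comp continuous_subtype_val) _⟩,
    fun x => ConcreteCategory.congr_hom h x.1⟩

/-- Morphisms out of the free sheaf on a represented sheaf are sections. -/
noncomputable def homFromRepIso {ι : Type u} {Y : ι → TopCat.{u}} {a : ∀ i, Y i ⟶ S} (o : Obj a) :
    SpecSeq.homFrom ((Nerve.freeSh (topology a)).obj (rep o)) ≅ sectionsAt (topology a) o :=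
  NatIso.ofComponents (fun F => (homEquiv o F).toAddCommGrpIso) fun {F G} φ => by
    ext x
    exact homEquiv_postcomp (x : CohCx.freeSheaf (topology a) o ⟶ F) φ

/-- The cohomology of a member of the family. -/
theorem nonempty_sections_derived_big {ι : Type u} (Z : ι → TopCat.{u}) (b : ∀ i, Z i ⟶ S)
    (i : Option ι) (F : CohTop.Ab S) (q : ℕ) :
    Nonempty (((sectionsAt (J Z b) (top (withBaseMap Z b) i)).rightDerived q).obj ((big Z b).obj F) ≅
      AddCommGrpCat.of (CohTop.H ((CohTop.pull (withBaseMap Z b i)).obj F) q)) := by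
  let R := restr (withBaseMap Z b) i
  let G := sectionsAt (Opens.grothendieckTopology (withBase (S := S) Z i))
    (⊤ : Opens (withBase (S := S) Z i))
  let e : R ⋙ G ≅ sectionsAt (J Z b) (top (withBaseMap Z b) i) :=
    NatIso.ofComponents (fun _ => Iso.refl _) fun _ => rfl
  obtain ⟨e'⟩ := SpecSeq.nonempty_rightDerived_exactComp R G (fun Q hQ p hp => by
    obtain ⟨k, rfl⟩ := Nat.exists_eq_succ_of_ne_zero hp.ne'
    have := isFlasque_restr i Q
    have := subsingleton_HU_of_isFlasque (R.obj Q) ⊤ k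
    exact (AddCommGrpCat.isZero_of_subsingleton
      (AddCommGrpCat.of (CohTop.HU (R.obj Q) (k + 1) ⊤))).of_iso
        (LH.sectionsAtDerivedIso ⊤ _ _)) ((big Z b).obj F) q
  exact ⟨(rightDerivedCongr e q).symm.app _ ≪≫ e' ≪≫
    (G.rightDerived q).mapIso ((bigRestrIso Z b i).app F) ≪≫
    LH.sectionsAtDerivedIso ⊤ _ q ≪≫ (hUTopEquiv _ q).toAddCommGrpIso⟩

variable {X : TopCat.{u}} (f : X ⟶ S)

/-- The source and its fibre powers. -/
@[reducible]
noncomputable def powFam : ULift.{u} (Option ℕ) → TopCat.{u}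
  | ⟨none⟩ => X
  | ⟨some n⟩ => widePullback S (fun _ : Fin (n + 1) => X) (fun _ => f)

/-- Their maps to the base. -/
@[reducible]
noncomputable def powFamMap : ∀ i, powFam f i ⟶ S
  | ⟨none⟩ => f
  | ⟨some n⟩ => LH.powBase f n

/-- The index of the source. -/
abbrev iSrc : Option (ULift.{u} (Option ℕ)) := some ⟨none⟩

/-- The index of the base. -/
abbrev iBase : Option (ULift.{u} (Option ℕ)) := none

/-- The index of a fibre power. -/
abbrev iPow (n : ℕ) : Option (ULift.{u} (Option ℕ)) := some ⟨some n⟩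

/-- The object of the source. -/
noncomputable abbrev srcObj : Site (powFam f) (powFamMap f) := top _ iSrc

/-- The object of the base. -/
noncomputable abbrev baseObj : Site (powFam f) (powFamMap f) := top _ iBase

/-- The object of a fibre power. -/
noncomputable abbrev powObj (n : ℕ) : Site (powFam f) (powFamMap f) := top _ (iPow n)

/-- The structure morphism of a fibre power. -/
noncomputable def powHom (n : ℕ) : powObj f n ⟶ baseObj f :=
  topHom (a := withBaseMap (powFam f) (powFamMap f)) (i := iPow n) (j := iBase)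
    (LH.powBase f n) (Category.comp_id _)

/-- Maps of represented sheaves. -/
noncomputable def repMap {ι : Type u} {Y : ι → TopCat.{u}} {a : ∀ i, Y i ⟶ S} {o o' : Obj a}
    (g : o ⟶ o') : rep o ⟶ rep o' :=
  ⟨yoneda.map g⟩

/-- The structure morphism. -/
noncomputable def srcMor : rep (srcObj f) ⟶ rep (baseObj f) :=
  repMap (topHom (a := withBaseMap (powFam f) (powFamMap f)) (i := iSrc) (j := iBase) f (Category.comp_id f))

/-- The projections. -/
noncomputable def projHom (n : ℕ) (k : Fin (n + 1)) : powObj f n ⟶ srcObj f :=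
  topHom (a := withBaseMap (powFam f) (powFamMap f)) (i := iPow n) (j := iSrc) (WidePullback.π (fun _ : Fin (n + 1) => f) k)
    (WidePullback.π_arrow (fun _ : Fin (n + 1) => f) k)

/-- A fibre power as a point of the Cech nerve. -/
noncomputable def toNerve (n : ℕ) :
    rep (powObj f n) ⟶ (Arrow.mk (srcMor f)).cechNerve.obj (op ⦋n⦌) :=
  WidePullback.lift (repMap (powHom f n))
    (fun k => repMap (projHom f n k))
    fun k => by
      ext o g
      exact hom_ext fun x => Subtype.ext (LH.app_pow f n k _)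

lemma proj_toNerve (n : ℕ) (V : (Site (powFam f) (powFamMap f))ᵒᵖ)
    (g : (rep (powObj f n)).obj.obj V) (k : Fin (n + 1)) :
    Nerve.proj (srcMor f) V k ((toNerve f n).hom.app V g) = g ≫ projHom f n k :=
  ConcreteCategory.congr_hom (NatTrans.congr_app (congrArg InducedCategory.Hom.hom
    (WidePullback.lift_π (fun _ : Fin (n + 1) => srcMor f)
      (repMap (powHom f n))
      (fun k => repMap (projHom f n k))
      (fun k => by ext o g; exact hom_ext fun x => Subtype.ext (LH.app_pow f n k _)) k)) V) g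

lemma bijective_toNerve (n : ℕ) (V : (Site (powFam f) (powFamMap f))ᵒᵖ) :
    Function.Bijective ((toNerve f n).hom.app V) := by
  refine ⟨fun g g' h => hom_ext fun x => Subtype.ext (LH.pow_ext fun k => ?_), fun y => ?_⟩
  · have h' := congrArg (Nerve.proj (srcMor f) V k) h
    rw [proj_toNerve, proj_toNerve] at h'
    exact congrArg (fun m : V.unop ⟶ srcObj f => (m.1 x).1) h'
  · let c : ∀ _ : Fin (n + 1), V.unop ⟶ srcObj f := fun k => Nerve.proj (srcMor f) V k y
    let b₀ : TopCat.of V.unop.opn ⟶ S :=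
      TopCat.ofHom ⟨fun x => withBaseMap (powFam f) (powFamMap f) V.unop.idx x.1,
        (withBaseMap (powFam f) (powFamMap f) V.unop.idx).hom.continuous.comp continuous_subtype_val⟩
    let l : TopCat.of V.unop.opn ⟶ widePullback S (fun _ : Fin (n + 1) => X) (fun _ => f) :=
      WidePullback.lift b₀
        (fun k => TopCat.ofHom ⟨fun x => ((c k).1 x).1, continuous_subtype_val.comp (c k).1.continuous⟩)
        fun k => by ext x; exact (c k).2 x
    refine ⟨⟨⟨fun x => ⟨l x, trivial⟩, Continuous.subtype_mk l.hom.continuous _⟩, fun x => ?_⟩,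
      Nerve.ext' _ _ fun k => ?_⟩
    · exact ConcreteCategory.congr_hom (WidePullback.lift_base (fun _ : Fin (n + 1) => f) b₀ _ _) x
    · refine (proj_toNerve f n V _ k).trans (hom_ext fun x => Subtype.ext ?_)
      exact ConcreteCategory.congr_hom (WidePullback.lift_π (fun _ : Fin (n + 1) => f) b₀ _ _ k) x

/-- The terms of the Cech nerve are represented by the fibre powers. -/
noncomputable def nerveIso (n : ℕ) :
    rep (powObj f n) ≅ (Arrow.mk (srcMor f)).cechNerve.obj (op ⦋n⦌) :=
  haveI : IsIso (toNerve f n) := by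
    have : ∀ V, IsIso (((sheafToPresheaf _ _).map (toNerve f n)).app V) := fun V =>
      (isIso_iff_bijective _).2 (bijective_toNerve f n V)
    have : IsIso ((sheafToPresheaf _ _).map (toNerve f n)) := NatIso.isIso_of_isIso_app _
    exact isIso_of_reflects_iso (toNerve f n) (sheafToPresheaf _ _)
  asIso (toNerve f n)

variable {f}

lemma epi_srcMor_of_section (s : S ⟶ X) (hs : s ≫ f = 𝟙 S) : Epi (srcMor f) :=
  have : IsSplitEpi (srcMor f) := IsSplitEpi.mk'
    ⟨repMap (topHom (a := withBaseMap (powFam f) (powFamMap f)) (i := iBase) (j := iSrc) s hs), by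
      ext o g
      exact hom_ext fun x => Subtype.ext (ConcreteCategory.congr_hom hs (g.1 x).1)⟩
  inferInstance

/-- The descent spectral sequence of a map which is a covering in the site of its fibre powers. -/
theorem exists_descent [Epi (srcMor f)] (F : CohTop.Ab S) {H : ℤ → AddCommGrpCat.{u}}
    {E1 : ℤ → ℤ → AddCommGrpCat.{u}}
    (eH : ∀ n : ℕ, Nonempty (AddCommGrpCat.of (CohTop.H F n) ≅ H n))
    (zH : ∀ n : ℤ, n < 0 → IsZero (H n))
    (eX : ∀ p q : ℕ,
      Nonempty (AddCommGrpCat.of (CohTop.H ((CohTop.pull (LH.powBase f p)).obj F) q) ≅ E1 p q))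
    (zX : ∀ p q : ℤ, ¬ (0 ≤ p ∧ 0 ≤ q) → IsZero (E1 p q)) :
    ∃ (E : CohomologicalSpectralSequence AddCommGrpCat.{u} 1) (a : SpSeq.Abutment E H),
      (∀ n, a.IsFinite n) ∧ SpSeq.IsBounded E ∧
      ∀ p q : ℤ, Nonempty ((E.page 1 le_rfl).X (p, q) ≅ E1 p q) := by
  refine SpecSeq.exists_complexFunctor_pageOne (nerveCxFunctor (srcMor f))
    (fun Q hQ q => isZero_nerveCxFunctor_homology (srcMor f) Q q) ((big _ _).obj F) (fun n => ?_) zH
    (fun p q => ?_) zX
  · obtain ⟨e⟩ := nonempty_sections_derived_big (powFam f) (powFamMap f) none F n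
    obtain ⟨e'⟩ := eH n
    exact ⟨(rightDerivedCongr (nerveCxHZeroIso (srcMor f) ≪≫ homFromRepIso (baseObj f)) n).app _ ≪≫
      e ≪≫ (hUTopEquiv _ n).symm.toAddCommGrpIso ≪≫ (LH.sectionsAtDerivedIso ⊤ _ n).symm ≪≫
      ((sectionsAt (Opens.grothendieckTopology S) (⊤ : Opens S)).rightDerived n).mapIso
        (LH.pullIdIso.app F) ≪≫ LH.sectionsAtDerivedIso ⊤ _ n ≪≫
      (hUTopEquiv _ n).toAddCommGrpIso ≪≫ e'⟩
  · obtain ⟨e⟩ := nonempty_sections_derived_big (powFam f) (powFamMap f) (iPow p) F q
    obtain ⟨e'⟩ := eX p q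
    exact ⟨(rightDerivedCongr (nerveCxDegIso (srcMor f) p ≪≫
      homFromCongr ((Nerve.freeSh _).mapIso (nerveIso f p).symm) ≪≫
        homFromRepIso (powObj f p)) q).app _ ≪≫ e ≪≫ e'⟩

end Groth.Agent.SiteCoh.Fam
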