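import Groth.Agent.SiteCoh.Cech
import Groth.Agent.SiteCoh.SheafTools
import Groth.Agent.SiteCoh.Restrict

/-!
# Cech cohomology of sheaves: gluing with vanishing `H^1`, the Cartan criterion
-/

set_option autoImplicit false

universe u

open CategoryTheory CategoryTheory.Limits Opposite

namespace Groth.Agent.SiteCoh

variable {C : Type u} [SmallCategory C] {J : GrothendieckTopology C}
variable {E : Type u} [SmallCategory E] [HasFiniteProducts E] (G : E ⥤ C)

/-- The presheaf on `E` of a sheaf on `C`. -/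
noncomputable abbrev pullPsh (F : Sheaf J AddCommGrpCat.{u}) : Eᵒᵖ ⥤ AddCommGrpCat.{u} :=
  G.op ⋙ F.obj

variable {S : ShortComplex (Sheaf J AddCommGrpCat.{u})}

/-- Sections lift to a cover with vanishing first Cech cohomology, then globally. -/
lemma exists_lift_of_cech (hS : S.ShortExact) {U : C} {ι : Type u} (W : ι → E)
    (π : ∀ i, G.obj (W i) ⟶ U) (hcov : Sieve.ofArrows (fun i => G.obj (W i)) π ∈ J U)
    (hcomm : ∀ (Z : E) i j (f : Z ⟶ W i) (g : Z ⟶ W j), G.map f ≫ π i = G.map g ≫ π j)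
    (hpair : ∀ (Z : C) i j (f : Z ⟶ G.obj (W i)) (g : Z ⟶ G.obj (W j)), f ≫ π i = g ≫ π j →
      ∃ (Z' : E) (e : Z ⟶ G.obj Z') (f' : Z' ⟶ W i) (g' : Z' ⟶ W j),
        e ≫ G.map f' = f ∧ e ≫ G.map g' = g)
    (hH : IsZero ((Cech.cx (pullPsh G S.X₁) W).homology 1))
    (x : S.X₃.obj.obj (op U))
    (hlift : ∀ i, ∃ y : S.X₂.obj.obj (op (G.obj (W i))),
      S.g.hom.app (op (G.obj (W i))) y = S.X₃.obj.map (π i).op x) :
    ∃ t : S.X₂.obj.obj (op U), S.g.hom.app (op U) t = x := by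
  choose s hs using hlift
  let φ : pullPsh G S.X₁ ⟶ pullPsh G S.X₂ := Functor.whiskerLeft G.op S.f.hom
  let ψ : pullPsh G S.X₂ ⟶ pullPsh G S.X₃ := Functor.whiskerLeft G.op S.g.hom
  let c : (Cech.cx (pullPsh G S.X₂) W).X 0 := Cech.mk _ W fun a =>
    S.X₂.obj.map (G.map (Pi.π (fun k => W (a k)) 0)).op (s (a 0))
  have hvalc : ∀ (Z : E) (t : Fin 1 → (i : ι) × (Z ⟶ W i)),
      Cech.val (pullPsh G S.X₂) W c t = S.X₂.obj.map (G.map (t 0).2).op (s (t 0).1) := by
    intro Z t
    rw [Cech.val, Cech.ev_mk]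
    change S.X₂.obj.map (G.map _).op (S.X₂.obj.map _ _) = _
    rw [← ConcreteCategory.comp_apply, ← S.X₂.obj.map_comp, ← op_comp, ← G.map_comp, Quiver.Hom.unop_op]
    exact congrArg (fun m => S.X₂.obj.map (G.map m).op (s (t 0).1)) (Pi.lift_π _ _)
  have hψc : ∀ (Z : E) (t : Fin 1 → (i : ι) × (Z ⟶ W i)),
      S.g.hom.app (op (G.obj Z)) (Cech.val (pullPsh G S.X₂) W c t) =
        S.X₃.obj.map (G.map (t 0).2 ≫ π (t 0).1).op x := by
    intro Z t
    rw [hvalc, NatTrans.naturality_apply, hs, ← ConcreteCategory.comp_apply,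
      ← S.X₃.obj.map_comp, ← op_comp]
  choose e he using fun a : Fin 2 → ι => sections_exact hS (G.obj (Cech.inter W a))
    (Cech.ev (pullPsh G S.X₂) W a ((Cech.cx (pullPsh G S.X₂) W).d 0 1 c)) (by
      rw [Cech.ev_eq_val_taut, Cech.val_d, map_sum, Fin.sum_univ_two]
      rw [map_zsmul, map_zsmul, hψc, hψc]
      simp only [Fin.val_zero, pow_zero, one_zsmul, Fin.val_one, pow_one, neg_smul]
      rw [hcomm (Cech.inter W a) _ _ ((Cech.taut W a ∘ (0 : Fin 2).succAbove) 0).2
        ((Cech.taut W a ∘ (1 : Fin 2).succAbove) 0).2, add_neg_cancel])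
  have hinj : ∀ {p : ℕ} (a : Fin (p + 1) → ι),
      Function.Injective (φ.app (op (Cech.inter W a))) := fun a =>
    haveI := hS.mono_f
    sections_injective S.f (G.obj (Cech.inter W a))
  have he' : Cech.map W φ (Cech.mk _ W e) = (Cech.cx (pullPsh G S.X₂) W).d 0 1 c :=
    Cech.ext _ W fun a => by rw [Cech.ev_map, Cech.ev_mk]; exact he a
  obtain ⟨b, hb⟩ := (Cech.isZero_homology_succ_iff _ W 0).1 hH (Cech.mk _ W e)
    (Cech.map_injective W φ hinj (by
      rw [Cech.map_d, he', Cech.map_eq_zero, ← ConcreteCategory.comp_apply,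
        HomologicalComplex.d_comp_d]
      rfl))
  let c' := c - Cech.map W φ b
  have hc' : (Cech.cx (pullPsh G S.X₂) W).d 0 1 c' = 0 := by
    rw [map_sub, ← Cech.map_d, hb, he', sub_self]
  let s' : ∀ i, S.X₂.obj.obj (op (G.obj (W i))) := fun i =>
    Cech.val (pullPsh G S.X₂) W c' (fun _ => ⟨i, 𝟙 (W i)⟩)
  have hs' : ∀ i, S.g.hom.app (op (G.obj (W i))) (s' i) = S.X₃.obj.map (π i).op x := by
    intro i
    have h₁ : S.g.hom.app (op (G.obj (W i)))
        (Cech.val (pullPsh G S.X₂) W c (fun _ => ⟨i, 𝟙 (W i)⟩)) = S.X₃.obj.map (π i).op x := by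
      rw [hψc, G.map_id, Category.id_comp]
    have h₂ : S.g.hom.app (op (G.obj (W i)))
        (Cech.val (pullPsh G S.X₂) W (Cech.map W φ b) (fun _ => ⟨i, 𝟙 (W i)⟩)) = 0 := by
      rw [Cech.val, Cech.ev_map]
      change S.g.hom.app _ (S.X₂.obj.map _ (S.f.hom.app _ _)) = _
      rw [NatTrans.naturality_apply, sections_comp_eq_zero, map_zero]
    change S.g.hom.app _ ((pullPsh G S.X₂).map _ (Cech.ev _ W _ (c - _))) = _
    rw [map_sub, map_sub, map_sub]
    exact (congrArg₂ (· - ·) h₁ h₂).trans (sub_zero _)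
  obtain ⟨t, ht, -⟩ := existsUnique_amalgamation S.X₂ π hcov s' fun i j Z f g hfg => by
    obtain ⟨Z', z, f', g', rfl, rfl⟩ := hpair Z i j f g hfg
    have := Cech.val_d (pullPsh G S.X₂) W c'
      (Fin.cons ⟨j, g'⟩ fun _ : Fin 1 => (⟨i, f'⟩ : (i : ι) × (Z' ⟶ W i)))
    rw [hc', Fin.sum_univ_two] at this
    simp only [Fin.val_zero, pow_zero, one_zsmul, Fin.val_one, pow_one, neg_smul,
      Cech.val, map_zero] at this
    have h' := eq_of_sub_eq_zero ((sub_eq_add_neg _ _).trans this.symm)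
    rw [op_comp, S.X₂.obj.map_comp, ConcreteCategory.comp_apply, op_comp, S.X₂.obj.map_comp,
      ConcreteCategory.comp_apply]
    refine congrArg (S.X₂.obj.map z.op) ?_
    refine (Cech.map_val (pullPsh G S.X₂) W c' f' _).trans
      (Eq.trans ?_ (Cech.map_val (pullPsh G S.X₂) W c' g' _).symm)
    simp only [Category.comp_id]
    refine Eq.trans ?_ (h'.trans ?_)
    · exact congrArg (Cech.val (pullPsh G S.X₂) W c') (funext fun k => by fin_cases k; rfl)
    · exact congrArg (Cech.val (pullPsh G S.X₂) W c') (funext fun k => by fin_cases k; rfl)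
  refine ⟨t, ext_of_cover S.X₃ π hcov fun i => ?_⟩
  rw [← NatTrans.naturality_apply, ht, hs']

/-- The Cech cohomology of a quotient, for a short exact sequence of sheaves surjective on the
intersections. -/
lemma isZero_cech_X₃ (hS : S.ShortExact) {ι : Type u} (W : ι → E)
    (hsurj : ∀ {p : ℕ} (a : Fin (p + 1) → ι),
      Function.Surjective (S.g.hom.app (op (G.obj (Cech.inter W a)))))
    (p : ℕ) (h₂ : IsZero ((Cech.cx (pullPsh G S.X₂) W).homology (p + 1)))
    (h₁ : IsZero ((Cech.cx (pullPsh G S.X₁) W).homology (p + 2))) :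
    IsZero ((Cech.cx (pullPsh G S.X₃) W).homology (p + 1)) :=
  haveI := hS.mono_f
  Cech.isZero_homology_of_exact W (Functor.whiskerLeft G.op S.f.hom)
    (Functor.whiskerLeft G.op S.g.hom) (fun a => sections_injective S.f _) hsurj
    (fun a y hy => sections_exact hS _ y hy)
    (by ext Z x; exact sections_comp_eq_zero _ x) p h₂ h₁

end Groth.Agent.SiteCoh
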