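import Groth.Agent.SiteCoh.LocalHomeoDescent

/-!
# The Cech complex of a morphism of sheaves of sets as a functor of the morphism

No epimorphism is assumed: on injective sheaves the Cech complexes are exact in positive degrees
and the augmentation to their `H^0` is surjective.
-/

set_option autoImplicit false

universe u

open CategoryTheory CategoryTheory.Limits Opposite AlgebraicTopology
open scoped Simplicial

namespace Groth.Agent.SiteCoh

open Nerve

variable {C : Type u} [SmallCategory C] {J : GrothendieckTopology C}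

variable {K' K L' L M' M : Sheaf J (Type u)} (f : K' ⟶ K) {g : L' ⟶ L} {h : M' ⟶ M}

/-- The maps of free nerves. -/
noncomputable abbrev freeNerveMap (α : Arrow.mk g ⟶ Arrow.mk f) (n : ℕ) :
    (freeCx g).X n ⟶ (freeCx f).X n :=
  (freeSh J).map ((Arrow.mapCechNerve α).app (op ⦋n⦌))

/-- The map of Cech complexes of a map of morphisms. -/
noncomputable def nerveCxMap (α : Arrow.mk g ⟶ Arrow.mk f) :
    nerveCxFunctor f ⟶ nerveCxFunctor g where
  app F := (alternatingCofaceMapComplex AddCommGrpCat.{u}).map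
    (Functor.whiskerRight (NatTrans.rightOp (Arrow.mapCechNerve α))
      ((freeSh J).op ⋙ preadditiveYoneda.obj F))
  naturality F G φ := by
    ext n x
    exact (Category.assoc (freeNerveMap f α n) (x : (freeCx f).X n ⟶ F) φ).symm

lemma nerveCxMap_f_apply (α : Arrow.mk g ⟶ Arrow.mk f) (F : Sheaf J AddCommGrpCat.{u}) (n : ℕ)
    (x : (freeCx f).X n ⟶ F) :
    ((nerveCxMap f α).app F).f n x = freeNerveMap f α n ≫ x := rfl

lemma mapCechNerve_id (n : SimplexCategoryᵒᵖ) :
    (Arrow.mapCechNerve (𝟙 (Arrow.mk f))).app n = 𝟙 _ :=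
  NatTrans.congr_app ((SimplicialObject.cechNerve (C := Sheaf J (Type u))).map_id (Arrow.mk f)) n

lemma mapCechNerve_comp (β : Arrow.mk h ⟶ Arrow.mk g) (α : Arrow.mk g ⟶ Arrow.mk f)
    (n : SimplexCategoryᵒᵖ) : (Arrow.mapCechNerve (β ≫ α)).app n =
      (Arrow.mapCechNerve β).app n ≫ (Arrow.mapCechNerve α).app n :=
  NatTrans.congr_app ((SimplicialObject.cechNerve (C := Sheaf J (Type u))).map_comp β α) n

lemma freeNerveMap_id (n : ℕ) : freeNerveMap f (𝟙 (Arrow.mk f)) n = 𝟙 ((freeCx f).X n) :=
  (congrArg (fun m => (freeSh J).map m) (mapCechNerve_id f _)).trans ((freeSh J).map_id _)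

lemma freeNerveMap_comp (β : Arrow.mk h ⟶ Arrow.mk g) (α : Arrow.mk g ⟶ Arrow.mk f) (n : ℕ) :
    freeNerveMap f (β ≫ α) n = freeNerveMap g β n ≫ freeNerveMap f α n :=
  (congrArg (fun m => (freeSh J).map m) (mapCechNerve_comp f β α _)).trans ((freeSh J).map_comp _ _)

lemma nerveCxMap_id : nerveCxMap f (𝟙 (Arrow.mk f)) = 𝟙 _ := by
  refine NatTrans.ext (funext fun F => HomologicalComplex.hom_ext _ _ fun n => ?_)
  refine AddCommGrpCat.hom_ext (AddMonoidHom.ext fun (x : (freeCx f).X n ⟶ F) => ?_)
  refine (nerveCxMap_f_apply f _ F n x).trans ?_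
  rw [freeNerveMap_id]
  exact Category.id_comp x

lemma nerveCxMap_comp (β : Arrow.mk h ⟶ Arrow.mk g) (α : Arrow.mk g ⟶ Arrow.mk f) :
    nerveCxMap f (β ≫ α) = nerveCxMap f α ≫ nerveCxMap g β := by
  refine NatTrans.ext (funext fun F => HomologicalComplex.hom_ext _ _ fun n => ?_)
  refine AddCommGrpCat.hom_ext (AddMonoidHom.ext fun (x : (freeCx f).X n ⟶ F) => ?_)
  refine (nerveCxMap_f_apply f _ F n x).trans ?_
  rw [freeNerveMap_comp]
  exact Category.assoc _ _ x

lemma exists_d_comp_eq (Q : Sheaf J AddCommGrpCat.{u}) [Injective Q] (q : ℕ)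
    (x : (freeCx f).X (q + 1) ⟶ Q) (hx : (freeCx f).d (q + 2) (q + 1) ≫ x = 0) :
    ∃ y : (freeCx f).X q ⟶ Q, (freeCx f).d (q + 1) q ≫ y = x :=
  ⟨(exact_succ f q).descToInjective x hx, (exact_succ f q).comp_descToInjective x hx⟩

/-- The Cech complexes of an injective sheaf are exact in positive degrees. -/
theorem isZero_nerveCx_homology_of_injective (Q : Sheaf J AddCommGrpCat.{u}) [Injective Q] (q : ℕ) :
    IsZero (((nerveCxFunctor f).obj Q).homology (q + 1)) :=
  (isZero_cechNerveCx_iff f Q q).2 (exists_d_comp_eq f Q q)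

/-- The augmentation to `H^0` of the Cech complex. -/
noncomputable def augHZero :
    SpecSeq.homFrom ((freeSh J).obj K) ⟶ nerveCxFunctor f ⋙ SpecSeq.hZero AddCommGrpCat.{u} where
  app F := ((nerveCxFunctor f).obj F).liftCycles (augApp f F) 1 (by simp) (augApp_d f F) ≫
    ((nerveCxFunctor f).obj F).homologyπ 0
  naturality F G φ := by
    change _ = (_ ≫ _) ≫ HomologicalComplex.homologyMap _ 0
    rw [Category.assoc, HomologicalComplex.homologyπ_naturality, ← Category.assoc, ← Category.assoc]
    refine congrArg (fun m => m ≫ ((nerveCxFunctor f).obj G).homologyπ 0) ?_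
    rw [← cancel_mono (((nerveCxFunctor f).obj G).iCycles 0), Category.assoc, Category.assoc,
      HomologicalComplex.cyclesMap_i, HomologicalComplex.liftCycles_i,
      HomologicalComplex.liftCycles_i_assoc]
    ext x
    exact (Category.assoc (aug f) (x : (freeSh J).obj K ⟶ F) φ).symm

lemma isIso_augHZero_app [Epi f] (F : Sheaf J AddCommGrpCat.{u}) : IsIso ((augHZero f).app F) := by
  have := isIso_liftCycles_augApp f F
  have : IsIso (((nerveCxFunctor f).obj F).homologyπ 0) :=
    ((nerveCxFunctor f).obj F).isoHomologyπ₀.isIso_hom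
  exact IsIso.comp_isIso' ‹_› ‹_›

/-- For injective coefficients the augmentation is surjective. -/
lemma surjective_augHZero_app (Q : Sheaf J AddCommGrpCat.{u}) [Injective Q] :
    Function.Surjective ((augHZero f).app Q) := by
  have hπ : Function.Surjective (((nerveCxFunctor f).obj Q).homologyπ 0) :=
    ((nerveCxFunctor f).obj Q).isoHomologyπ₀.addCommGroupIsoToAddEquiv.surjective
  refine hπ.comp (fun z => ?_)
  let y : (freeCx f).X 0 ⟶ Q := ((nerveCxFunctor f).obj Q).iCycles 0 z
  have hy : (freeCx f).d 1 0 ≫ y = 0 := by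
    refine (cechNerveCx_d f Q 0 _).symm.trans ?_
    exact ConcreteCategory.congr_hom (((nerveCxFunctor f).obj Q).iCycles_d 0 1) z
  refine ⟨(exact_zero f).descToInjective y hy,
    (AddCommGrpCat.mono_iff_injective (((nerveCxFunctor f).obj Q).iCycles 0)).1 inferInstance ?_⟩
  refine (ConcreteCategory.congr_hom (((nerveCxFunctor f).obj Q).liftCycles_i (augApp f Q) 1
    (by simp) (augApp_d f Q)) _).trans ?_
  exact (exact_zero f).comp_descToInjective y hy

/-- Naturality of the augmentation in the morphism. -/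
lemma augHZero_naturality (α : Arrow.mk g ⟶ Arrow.mk f)
    (F : Sheaf J AddCommGrpCat.{u}) (x : (freeSh J).obj K ⟶ F) :
    HomologicalComplex.homologyMap ((nerveCxMap f α).app F) 0
        ((augHZero f).app F x) =
      (augHZero g).app F ((freeSh J).map α.right ≫ x) := by
  have h : ((nerveCxFunctor f).obj F).liftCycles (augApp f F) 1 (by simp) (augApp_d f F) ≫
      HomologicalComplex.cyclesMap ((nerveCxMap f α).app F) 0 =
      AddCommGrpCat.ofHom (AddMonoidHom.mk' (fun x : (freeSh J).obj K ⟶ F =>
        (freeSh J).map α.right ≫ x) fun _ _ => Preadditive.comp_add _ _ _ _ _ _) ≫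
      ((nerveCxFunctor g).obj F).liftCycles (augApp g F) 1 (by simp) (augApp_d g F) := by
    rw [← cancel_mono (((nerveCxFunctor g).obj F).iCycles 0)]
    erw [Category.assoc, Category.assoc, HomologicalComplex.cyclesMap_i,
      HomologicalComplex.liftCycles_i, HomologicalComplex.liftCycles_i_assoc]
    ext x
    change (freeSh J).map ((Arrow.mapCechNerve α).app (op ⦋0⦌)) ≫ aug f ≫ x =
      aug g ≫ (freeSh J).map α.right ≫ x
    rw [← Category.assoc, ← Category.assoc]
    refine congrArg (fun m => m ≫ x) ?_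
    refine (((freeSh J).map_comp _ _).symm.trans ?_).trans ((freeSh J).map_comp _ _)
    exact congrArg (freeSh J).map (WidePullback.lift_base _ _ _ _)
  refine (ConcreteCategory.congr_hom (HomologicalComplex.homologyπ_naturality
    ((nerveCxMap f α).app F) 0) (((nerveCxFunctor f).obj F).liftCycles (augApp f F) 1 (by simp)
      (augApp_d f F) x)).trans ?_
  exact congrArg (((nerveCxFunctor g).obj F).homologyπ 0) (ConcreteCategory.congr_hom h x)

end Groth.Agent.SiteCoh
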