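import Groth.Agent.SiteCoh.SpaceDescent
import Groth.Agent.SiteCoh.NerveArrow

/-!
# Cech nerves of morphisms of represented sheaves in the site of a family of spaces
-/

set_option autoImplicit false

universe u

open CategoryTheory CategoryTheory.Limits Opposite TopologicalSpace AlgebraicTopology
open scoped Simplicial

namespace Groth.Agent.SiteCoh.Fam

variable {S : TopCat.{u}} {ι : Type u} {Y : ι → TopCat.{u}} {a : ∀ i, Y i ⟶ S}
variable {o o' P : Obj a} {g : o' ⟶ o} {n : ℕ} {h : P ⟶ o} {π : Fin (n + 1) → (P ⟶ o')}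

lemma repMap_comp {x y z : Obj a} (u : x ⟶ y) (v : y ⟶ z) :
    repMap (u ≫ v) = repMap u ≫ repMap v := by
  ext V w
  exact (Category.assoc (show V.unop ⟶ x from w) u v).symm

/-- `P` is an `(n+1)`-fold fibre power of `g`. -/
structure IsPow (g : o' ⟶ o) (h : P ⟶ o) (π : Fin (n + 1) → (P ⟶ o')) : Prop where
  w : ∀ k, π k ≫ g = h
  ext : ∀ {V : Obj a} (l l' : V ⟶ P), (∀ k, l ≫ π k = l' ≫ π k) → l = l'
  lift : ∀ {V : Obj a} (c : Fin (n + 1) → (V ⟶ o')), (∀ k, c k ≫ g = c 0 ≫ g) →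
    ∃ l : V ⟶ P, ∀ k, l ≫ π k = c k

/-- The comparison with the Cech nerve. -/
noncomputable def toNerveOf (hP : IsPow g h π) :
    rep P ⟶ (Arrow.mk (repMap g)).cechNerve.obj (op ⦋n⦌) :=
  WidePullback.lift (repMap h) (fun k => repMap (π k))
    fun k => (repMap_comp _ _).symm.trans (congrArg repMap (hP.w k))

lemma toNerveOf_π (hP : IsPow g h π) (k : Fin (n + 1)) :
    toNerveOf hP ≫ WidePullback.π (fun _ : Fin (n + 1) => repMap g) k = repMap (π k) :=
  WidePullback.lift_π _ _ _ _ _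

lemma toNerveOf_base (hP : IsPow g h π) :
    toNerveOf hP ≫ WidePullback.base (fun _ : Fin (n + 1) => repMap g) = repMap h :=
  WidePullback.lift_base _ _ _ _

lemma proj_toNerveOf (hP : IsPow g h π) (V : (Obj a)ᵒᵖ) (x : (rep P).obj.obj V)
    (k : Fin (n + 1)) :
    Nerve.proj (repMap g) V k ((toNerveOf hP).hom.app V x) = x ≫ π k :=
  ConcreteCategory.congr_hom
    (NatTrans.congr_app (congrArg InducedCategory.Hom.hom (toNerveOf_π hP k)) V) x

lemma isIso_toNerveOf (hP : IsPow g h π) : IsIso (toNerveOf hP) := by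
  have : ∀ V, IsIso (((sheafToPresheaf _ _).map (toNerveOf hP)).app V) := fun V => by
    refine (isIso_iff_bijective _).2 ⟨fun x y e => hP.ext x y fun k => ?_, fun y => ?_⟩
    · exact (proj_toNerveOf hP V x k).symm.trans
        ((congrArg (Nerve.proj (repMap g) V k) e).trans (proj_toNerveOf hP V y k))
    · obtain ⟨l, hl⟩ := hP.lift (fun k => Nerve.proj (repMap g) V k y) fun k =>
        (Nerve.app_proj (repMap g) V k y).trans (Nerve.app_proj (repMap g) V 0 y).symm
      exact ⟨l, Nerve.ext' _ _ fun k => (proj_toNerveOf hP V l k).trans (hl k)⟩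
  have : IsIso ((sheafToPresheaf _ _).map (toNerveOf hP)) := NatIso.isIso_of_isIso_app _
  exact isIso_of_reflects_iso (toNerveOf hP) (sheafToPresheaf _ _)

/-- The terms of the Cech complex are sections on the fibre powers. -/
noncomputable def powDegIso (hP : IsPow g h π) :
    SpecSeq.degComp (nerveCxFunctor (repMap g)) n ≅ sectionsAt (topology a) P :=
  nerveCxDegIso (repMap g) n ≪≫
    homFromCongr ((Nerve.freeSh _).mapIso (@asIso _ _ _ _ _ (isIso_toNerveOf hP)).symm) ≪≫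
    homFromRepIso P

lemma powDegIso_apply (hP : IsPow g h π) (F : Sheaf (topology a) AddCommGrpCat.{u})
    (x : (Nerve.freeCx (repMap g)).X n ⟶ F) :
    (powDegIso hP).hom.app F x = homEquiv P F ((Nerve.freeSh _).map (toNerveOf hP) ≫ x) := by
  change homEquiv P F ((Nerve.freeSh _).map (toNerveOf hP) ≫ x ≫ 𝟙 F) = _
  exact congrArg (fun m => homEquiv P F ((Nerve.freeSh _).map (toNerveOf hP) ≫ m)) (Category.comp_id x)

variable {o₂ o₂' P₂ : Obj a} {g₂ : o₂' ⟶ o₂} {h₂ : P₂ ⟶ o₂} {π₂ : Fin (n + 1) → (P₂ ⟶ o₂')}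

/-- The morphism of arrows of represented sheaves. -/
noncomputable def sqMor (g : o' ⟶ o) (g₂ : o₂' ⟶ o₂) (u' : o₂' ⟶ o') (u : o₂ ⟶ o)
    (e : u' ≫ g = g₂ ≫ u) : Arrow.mk (repMap g₂) ⟶ Arrow.mk (repMap g) :=
  Arrow.homMk (repMap u') (repMap u)
    ((repMap_comp _ _).symm.trans ((congrArg repMap e).trans (repMap_comp _ _)))

lemma toNerveOf_sqMor (hP : IsPow g h π) (hP₂ : IsPow g₂ h₂ π₂) (u' : o₂' ⟶ o') (u : o₂ ⟶ o)
    (e : u' ≫ g = g₂ ≫ u) (v : P₂ ⟶ P) (hv : ∀ k, v ≫ π k = π₂ k ≫ u') :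
    toNerveOf hP₂ ≫ (Arrow.mapCechNerve (sqMor g g₂ u' u e)).app (op ⦋n⦌) =
      repMap v ≫ toNerveOf hP := by
  have hvh : v ≫ h = h₂ ≫ u := by
    rw [← hP.w 0, ← Category.assoc, hv 0, Category.assoc, e, ← Category.assoc, hP₂.w 0]
  refine WidePullback.hom_ext _ _ _ (fun k => ?_) ?_
  · refine (Category.assoc _ _ _).trans ?_
    refine (congrArg (fun m => toNerveOf hP₂ ≫ m) (WidePullback.lift_π _ _ _ _ _)).trans ?_
    refine (Category.assoc _ _ _).symm.trans ?_
    refine (congrArg (fun m => m ≫ repMap u') (toNerveOf_π hP₂ k)).trans ?_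
    refine (repMap_comp _ _).symm.trans ((congrArg repMap (hv k)).symm.trans ?_)
    refine (repMap_comp _ _).trans ?_
    exact ((congrArg (fun m => repMap v ≫ m) (toNerveOf_π hP k)).symm.trans (Category.assoc _ _ _).symm)
  · refine (Category.assoc _ _ _).trans ?_
    refine (congrArg (fun m => toNerveOf hP₂ ≫ m) (WidePullback.lift_base _ _ _ _)).trans ?_
    refine (Category.assoc _ _ _).symm.trans ?_
    refine (congrArg (fun m => m ≫ repMap u) (toNerveOf_base hP₂)).trans ?_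
    refine (repMap_comp _ _).symm.trans ((congrArg repMap hvh).symm.trans ?_)
    refine (repMap_comp _ _).trans ?_
    exact ((congrArg (fun m => repMap v ≫ m) (toNerveOf_base hP)).symm.trans (Category.assoc _ _ _).symm)

/-- The maps of Cech complexes are restrictions. -/
lemma powDegIso_naturality (hP : IsPow g h π) (hP₂ : IsPow g₂ h₂ π₂) (u' : o₂' ⟶ o') (u : o₂ ⟶ o)
    (e : u' ≫ g = g₂ ≫ u) (v : P₂ ⟶ P) (hv : ∀ k, v ≫ π k = π₂ k ≫ u')
    (F : Sheaf (topology a) AddCommGrpCat.{u}) (x : (Nerve.freeCx (repMap g)).X n ⟶ F) :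
    (powDegIso hP₂).hom.app F
        (((nerveCxMap (repMap g) (sqMor g g₂ u' u e)).app F).f n x) =
      F.obj.map v.op ((powDegIso hP).hom.app F x) := by
  refine (powDegIso_apply hP₂ F _).trans ?_
  refine Eq.trans ?_ (congrArg (F.obj.map v.op) (powDegIso_apply hP F x)).symm
  refine Eq.trans ?_ (homEquiv_precomp v _)
  refine congrArg (homEquiv P₂ F) ?_
  refine Eq.trans (Category.assoc _ _ _).symm (Eq.trans ?_ (Category.assoc _ _ _))
  refine congrArg (fun m => m ≫ x) ?_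
  refine ((Nerve.freeSh _).map_comp _ _).symm.trans ?_
  refine (congrArg (fun m => (Nerve.freeSh _).map m) (toNerveOf_sqMor hP hP₂ u' u e v hv)).trans ?_
  exact (Nerve.freeSh _).map_comp _ _

end Groth.Agent.SiteCoh.Fam
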