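import Groth.Agent.SiteCoh.Germs
import Groth.Agent.SiteCoh.SheafTools
import Groth.Agent.S3093

/-!
# Gluing near a compact relatively Hausdorff subset, soft sheaves
-/

set_option autoImplicit false

universe u

open CategoryTheory CategoryTheory.Limits Opposite TopologicalSpace

namespace Groth.Agent.SiteCoh.Compact

open Pull

variable {X : TopCat.{u}}

/-- Distinct points of `A` have disjoint open neighbourhoods in `X`. -/
def Sep (A : Set X) : Prop :=
  ∀ x ∈ A, ∀ y ∈ A, x ≠ y →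
    ∃ U V : Set X, IsOpen U ∧ IsOpen V ∧ x ∈ U ∧ y ∈ V ∧ Disjoint U V

lemma Sep.mono {A B : Set X} (h : Sep A) (hBA : B ⊆ A) : Sep B :=
  fun x hx y hy => h x (hBA hx) y (hBA hy)

lemma Sep.t2Space {A : Set X} (h : Sep A) : T2Space A := ⟨fun x y hxy => by
  obtain ⟨U, V, hU, hV, hxU, hyV, hUV⟩ := h x x.2 y y.2 fun e => hxy (Subtype.ext e)
  exact ⟨_, _, hU.preimage continuous_subtype_val, hV.preimage continuous_subtype_val,
    hxU, hyV, hUV.preimage _⟩⟩

variable {A : Set X}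

lemma isClosed_preimage (hsep : Sep A) {K : Set X} (hK : IsCompact K) (hKA : K ⊆ A) :
    IsClosed (Subtype.val ⁻¹' K : Set A) := by
  have := hsep.t2Space
  refine IsCompact.isClosed ?_
  rw [Topology.IsEmbedding.subtypeVal.isCompact_iff, Subtype.image_preimage_coe,
    Set.inter_eq_right.2 hKA]
  exact hK

lemma isCompact_inter (hsep : Sep A) (hA : IsCompact A) {K L : Set X} (hK : IsCompact K)
    (hKA : K ⊆ A) (hL : IsCompact L) (hLA : L ⊆ A) : IsCompact (K ∩ L) := by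
  have := isCompact_iff_compactSpace.1 hA
  have h := ((isClosed_preimage hsep hK hKA).inter (isClosed_preimage hsep hL hLA)).isCompact.image
    continuous_subtype_val
  rwa [← Set.preimage_inter, Subtype.image_preimage_coe,
    Set.inter_eq_right.2 (Set.inter_subset_left.trans hKA)] at h

/-- Every point has a compact neighbourhood in `A` inside a given open. -/
lemma exists_compact_nhd (hsep : Sep A) (hA : IsCompact A) {a : X} (ha : a ∈ A) {O : Set X}
    (hO : IsOpen O) (haO : a ∈ O) :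
    ∃ N K : Set X, IsCompact K ∧ N ∈ nhdsWithin a A ∧ N ⊆ K ∧ K ⊆ A ∧ K ⊆ O := by
  have := hsep.t2Space
  have := isCompact_iff_compactSpace.1 hA
  obtain ⟨C, hCn, hCO, hC⟩ := local_compact_nhds (x := (⟨a, ha⟩ : A))
    ((hO.preimage continuous_subtype_val).mem_nhds haO)
  refine ⟨Subtype.val '' C, Subtype.val '' C, hC.image continuous_subtype_val, ?_, subset_rfl, ?_, ?_⟩
  · exact map_nhds_subtype_val (⟨a, ha⟩ : A) ▸ Filter.image_mem_map hCn
  · rintro _ ⟨x, -, rfl⟩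
    exact x.2
  · rintro _ ⟨x, hx, rfl⟩
    exact hCO hx

variable {F : CohTop.Ab X}

/-- Sections with equal germs on a set agree on an open neighbourhood of it. -/
lemma exists_open_of_germ_eq {O O' : Opens X} (t : F.obj.obj (op O)) (t' : F.obj.obj (op O'))
    {K : Set X} (hK : K ⊆ O) (hK' : K ⊆ O')
    (h : ∀ z (hz : z ∈ K), germ F (hK hz) t = germ F (hK' hz) t') :
    ∃ (W : Opens X) (hW : W ≤ O) (hW' : W ≤ O'), K ⊆ W ∧
      F.obj.map (homOfLE hW).op t = F.obj.map (homOfLE hW').op t' := by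
  let S : Set X := {z | ∃ (W : Opens X) (hW : W ≤ O) (hW' : W ≤ O'), z ∈ W ∧
    F.obj.map (homOfLE hW).op t = F.obj.map (homOfLE hW').op t'}
  have hS : IsOpen S := isOpen_iff_forall_mem_open.2 fun z ⟨W, hW, hW', hz, e⟩ =>
    ⟨W, fun y hy => ⟨W, hW, hW', hy, e⟩, W.2, hz⟩
  refine ⟨⟨S, hS⟩, fun z ⟨W, hW, _, hz, _⟩ => hW hz, fun z ⟨W, _, hW', hz, _⟩ => hW' hz,
    fun z hz => ?_, ?_⟩
  · obtain ⟨W, hzW, i, j, e⟩ := TopCat.Presheaf.germ_eq F.obj z (hK hz) (hK' hz) t t' (h z hz)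
    exact ⟨W, i.le, j.le, hzW, e⟩
  · refine TopCat.Presheaf.section_ext F _ _ _ fun z hz => ?_
    obtain ⟨W, hW, hW', hzW, e⟩ := hz
    have e' := congrArg (TopCat.Presheaf.germ F.obj W z hzW) e
    simp only [TopCat.Presheaf.germ_res_apply] at e'
    exact (TopCat.Presheaf.germ_res_apply F.obj (homOfLE _) z _ t).trans
      (e'.trans (TopCat.Presheaf.germ_res_apply F.obj (homOfLE _) z _ t').symm)

/-- Gluing near a compact relatively Hausdorff subset: local sections with good germs, any two of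
which may be adjusted to agree on a compact overlap, give a section with good germs near the
whole subset. -/
theorem exists_section_near (hA : IsCompact A) (hsep : Sep A)
    (good : ∀ x, stk F x → Prop)
    (hloc : ∀ a ∈ A, ∃ (O : Opens X) (_ : a ∈ O) (t : F.obj.obj (op O)),
      ∀ z (hz : z ∈ O), z ∈ A → good z (germ F hz t))
    (hpatch : ∀ (B₁ B₂ : Set X), IsCompact B₁ → IsCompact B₂ → B₁ ⊆ A → B₂ ⊆ A →
      ∀ (O₁ O₂ : Opens X) (t₁ : F.obj.obj (op O₁)) (t₂ : F.obj.obj (op O₂))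
        (h₁ : B₁ ⊆ O₁) (h₂ : B₂ ⊆ O₂),
        (∀ z (hz : z ∈ B₁), good z (germ F (h₁ hz) t₁)) →
        (∀ z (hz : z ∈ B₂), good z (germ F (h₂ hz) t₂)) →
        ∃ (O : Opens X) (t : F.obj.obj (op O)) (h : B₂ ⊆ O),
          (∀ z (hz : z ∈ B₂), good z (germ F (h hz) t)) ∧
          ∀ z (hz₁ : z ∈ B₁) (hz₂ : z ∈ B₂), germ F (h₁ hz₁) t₁ = germ F (h hz₂) t) :
    ∃ (O : Opens X) (t : F.obj.obj (op O)) (h : A ⊆ O), ∀ z (hz : z ∈ A), good z (germ F (h hz) t) := by
  let P : Set X → Prop := fun S => ∃ K, IsCompact K ∧ S ⊆ K ∧ K ⊆ A ∧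
    ∃ (O : Opens X) (t : F.obj.obj (op O)) (h : K ⊆ O), ∀ z (hz : z ∈ K), good z (germ F (h hz) t)
  have hP : P A := by
    refine hA.induction_on (p := P) ⟨∅, isCompact_empty, subset_rfl, Set.empty_subset _, ⊥, 0,
      Set.empty_subset _, fun z hz => absurd hz (Set.notMem_empty z)⟩
      (fun S T hST ⟨K, hK, hTK, h⟩ => ⟨K, hK, hST.trans hTK, h⟩) ?_ ?_
    · rintro S T ⟨K₁, hK₁, hS, hK₁A, O₁, t₁, h₁, g₁⟩ ⟨K₂, hK₂, hT, hK₂A, O₂, t₂, h₂, g₂⟩
      obtain ⟨O₃, t₃, h₃, g₃, e⟩ := hpatch K₁ K₂ hK₁ hK₂ hK₁A hK₂A O₁ O₂ t₁ t₂ h₁ h₂ g₁ g₂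
      obtain ⟨W, hW₁, hW₃, hKW, eW⟩ := exists_open_of_germ_eq t₁ t₃
        (K := K₁ ∩ K₂) (Set.inter_subset_left.trans h₁) (Set.inter_subset_right.trans h₃)
        (fun z hz => e z hz.1 hz.2)
      obtain ⟨U, V, hU, hV, hKU, hKV, hUV⟩ := Groth.Agent.S3093.result hA hsep hK₁A hK₂A
        (isClosed_preimage hsep hK₁ hK₁A) (isClosed_preimage hsep hK₂ hK₂A) W.2 hKW
      let U' : Opens X := ⟨U, hU⟩ ⊓ O₁
      let V' : Opens X := ⟨V, hV⟩ ⊓ O₃
      have hc : F.obj.map (homOfLE (inf_le_left : U' ⊓ V' ≤ U')).op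
            (F.obj.map (homOfLE (inf_le_right : U' ≤ O₁)).op t₁) =
          F.obj.map (homOfLE (inf_le_right : U' ⊓ V' ≤ V')).op
            (F.obj.map (homOfLE (inf_le_right : V' ≤ O₃)).op t₃) := by
        have hle : U' ⊓ V' ≤ W := fun z hz => hUV ⟨hz.1.1, hz.2.1⟩
        have h' := congrArg (F.obj.map (homOfLE hle).op) eW
        simp only [← ConcreteCategory.comp_apply, ← Functor.map_comp, ← op_comp] at h' ⊢
        exact h'
      let Us : Bool → Opens X := fun b => if b then U' else V'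
      let sf : ∀ b : Bool, F.obj.obj (op (Us b)) := fun b => match b with
        | true => F.obj.map (homOfLE (inf_le_right : U' ≤ O₁)).op t₁
        | false => F.obj.map (homOfLE (inf_le_right : V' ≤ O₃)).op t₃
      obtain ⟨s, hs, -⟩ := TopCat.Sheaf.existsUnique_gluing' F
        (fun b : ULift.{u} Bool => Us b.down) (U' ⊔ V')
        (fun b => homOfLE (by cases b.down <;> simp [Us]))
        (sup_le (le_iSup_of_le ⟨true⟩ le_rfl) (le_iSup_of_le ⟨false⟩ le_rfl))
        (fun b => sf b.down) (by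
          rintro ⟨_ | _⟩ ⟨_ | _⟩
          · rfl
          · have h' := congrArg (F.obj.map (homOfLE (inf_comm V' U').le).op) hc
            change F.obj.map _ (F.obj.map _ t₃) = F.obj.map _ (F.obj.map _ t₁)
            simp only [← ConcreteCategory.comp_apply, ← Functor.map_comp, ← op_comp] at h' ⊢
            exact (h'.symm)
          · exact hc
          · rfl)
      refine ⟨K₁ ∪ K₂, hK₁.union hK₂, Set.union_subset_union hS hT, Set.union_subset hK₁A hK₂A,
        U' ⊔ V', s, ?_, ?_⟩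
      · rintro z (hz | hz)
        · exact Or.inl ⟨hKU hz, h₁ hz⟩
        · exact Or.inr ⟨hKV hz, h₃ hz⟩
      · rintro z (hz | hz)
        · have e := congrArg (TopCat.Presheaf.germ F.obj U' z ⟨hKU hz, h₁ hz⟩) (hs ⟨true⟩)
          exact (congrArg (good z) ((TopCat.Presheaf.germ_res_apply F.obj _ z _ s).symm.trans
            (e.trans (TopCat.Presheaf.germ_res_apply F.obj (homOfLE _) z _ t₁)))).mpr (g₁ z hz)
        · have e := congrArg (TopCat.Presheaf.germ F.obj V' z ⟨hKV hz, h₃ hz⟩) (hs ⟨false⟩)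
          exact (congrArg (good z) ((TopCat.Presheaf.germ_res_apply F.obj _ z _ s).symm.trans
            (e.trans (TopCat.Presheaf.germ_res_apply F.obj (homOfLE _) z _ t₃)))).mpr (g₃ z hz)
    · intro a ha
      obtain ⟨O, haO, t, ht⟩ := hloc a ha
      obtain ⟨N, K, hK, hN, hNK, hKA, hKO⟩ := exists_compact_nhd hsep hA ha O.2 haO
      exact ⟨N, hN, K, hK, hNK, hKA, O, t, hKO, fun z hz => ht z (hKO hz) (hKA hz)⟩
  obtain ⟨K, -, hAK, hKA, O, t, h, g⟩ := hP
  exact ⟨O, t, hAK.trans h, fun z hz => g z (hAK hz)⟩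

/-- A continuous family of germs on a compact relatively Hausdorff subset is given by a section
near it. -/
theorem exists_section_of_germs (hA : IsCompact A) (hsep : Sep A) (σ : ∀ z ∈ A, stk F z)
    (hσ : ∀ a ∈ A, ∃ (O : Opens X) (_ : a ∈ O) (t : F.obj.obj (op O)),
      ∀ z (hz : z ∈ O) (hzA : z ∈ A), germ F hz t = σ z hzA) :
    ∃ (O : Opens X) (t : F.obj.obj (op O)) (h : A ⊆ O),
      ∀ z (hz : z ∈ A), germ F (h hz) t = σ z hz := by
  obtain ⟨O, t, h, g⟩ := exists_section_near hA hsep (fun z c => ∀ hz : z ∈ A, c = σ z hz)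
    (fun a ha => by
      obtain ⟨O, haO, t, ht⟩ := hσ a ha
      exact ⟨O, haO, t, fun z hz _ hzA => ht z hz hzA⟩)
    (fun B₁ B₂ _ _ hB₁ _ O₁ O₂ t₁ t₂ h₁ h₂ g₁ g₂ =>
      ⟨O₂, t₂, h₂, g₂, fun z hz₁ hz₂ =>
        (g₁ z hz₁ (hB₁ hz₁)).trans (g₂ z hz₂ (hB₁ hz₁)).symm⟩)
  exact ⟨O, t, h, fun z hz => g z hz hz⟩

/-- Soft sheaves: sections near a closed subset extend to global sections, as germs. -/
def Soft (G : CohTop.Ab X) : Prop :=
  ∀ (K : Set X), IsClosed K → ∀ (O : Opens X) (hKO : K ⊆ O) (t : G.obj.obj (op O)),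
    ∃ d : G.obj.obj (op (⊤ : Opens X)),
      ∀ z (hz : z ∈ K), germ G (U := ⊤) trivial d = germ G (hKO hz) t

lemma soft_of_isFlasque (G : CohTop.Ab X) [TopCat.Sheaf.IsFlasque G] : Soft G := by
  intro K _ O hKO t
  obtain ⟨d, rfl⟩ := (AddCommGrpCat.epi_iff_surjective _).1
    ((inferInstance : TopCat.Sheaf.IsFlasque G).epi (homOfLE (le_top : O ≤ ⊤)).op) t
  exact ⟨d, fun z hz => (TopCat.Presheaf.germ_res_apply G.obj (homOfLE _) z (hKO hz) d).symm⟩

/-- Surjectivity on global sections for soft kernels, near closed subsets. -/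
lemma exists_lift_near [T2Space X] [CompactSpace X] {S : ShortComplex (CohTop.Ab X)}
    (hS : S.ShortExact) (h₁ : Soft S.X₁) {K : Set X} (hK : IsClosed K) {O : Opens X} (hKO : K ⊆ O)
    (σ : S.X₃.obj.obj (op O)) :
    ∃ (W : Opens X) (t : S.X₂.obj.obj (op W)) (h : K ⊆ W),
      ∀ z (hz : z ∈ K), germ S.X₃ (h hz) (S.g.hom.app (op W) t) = germ S.X₃ (hKO hz) σ := by
  have hsep : Sep K := fun x _ y _ hxy => t2_separation hxy
  let good : ∀ z, stk S.X₂ z → Prop := fun z c => ∀ hz : z ∈ O,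
    (TopCat.Presheaf.stalkFunctor AddCommGrpCat.{u} z).map S.g.hom c = germ S.X₃ hz σ
  have hg : ∀ {W : Opens X} {z : X} (hz : z ∈ W) (t : S.X₂.obj.obj (op W)),
      (TopCat.Presheaf.stalkFunctor AddCommGrpCat.{u} z).map S.g.hom (germ S.X₂ hz t) =
        germ S.X₃ hz (S.g.hom.app (op W) t) := fun hz t =>
    TopCat.Presheaf.stalkFunctor_map_germ_apply _ _ hz _ t
  obtain ⟨W, t, h, g⟩ := exists_section_near (F := S.X₂) hK.isCompact hsep good
    (fun a ha => by
      have := hS.epi_g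
      obtain ⟨T, hT, hT'⟩ := exists_local_lift S.g σ
      obtain ⟨W, i, hW, haW⟩ := hT a (hKO ha)
      obtain ⟨y, hy⟩ := hT' i hW
      refine ⟨W, haW, y, fun z hz _ hzO => ?_⟩
      rw [hg, hy]
      exact TopCat.Presheaf.germ_res_apply S.X₃.obj i z hz σ)
    (fun B₁ B₂ hB₁ hB₂ hB₁K hB₂K O₁ O₂ t₁ t₂ h₁' h₂' g₁ g₂ => by
      let V := O₁ ⊓ O₂
      let e := S.X₂.obj.map (homOfLE (inf_le_left : V ≤ O₁)).op t₁ -
        S.X₂.obj.map (homOfLE (inf_le_right : V ≤ O₂)).op t₂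
      have he : ∀ z (hz : z ∈ B₁ ∩ B₂),
          germ S.X₃ (U := V) ⟨h₁' hz.1, h₂' hz.2⟩ (S.g.hom.app (op V) e) = 0 := fun z hz => by
        have hzV : z ∈ V := ⟨h₁' hz.1, h₂' hz.2⟩
        refine (hg hzV e).symm.trans ?_
        have e0 : germ S.X₂ hzV e = germ S.X₂ (h₁' hz.1) t₁ - germ S.X₂ (h₂' hz.2) t₂ := by
          simp only [germ, e]
          erw [map_sub, TopCat.Presheaf.germ_res_apply, TopCat.Presheaf.germ_res_apply]
        refine (congrArg _ e0).trans ((map_sub _ _ _).trans (sub_eq_zero.2 ?_))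
        exact (g₁ z hz.1 (hKO (hB₁K hz.1))).trans (g₂ z hz.2 (hKO (hB₁K hz.1))).symm
      obtain ⟨V', hV', hV'', hBV', hzero⟩ := exists_open_of_germ_eq (S.g.hom.app (op V) e) 0
        (K := B₁ ∩ B₂) (fun z hz => ⟨h₁' hz.1, h₂' hz.2⟩) (O' := V)
        (fun z hz => ⟨h₁' hz.1, h₂' hz.2⟩) (fun z hz => (he z hz).trans (map_zero _).symm)
      rw [map_zero, ← NatTrans.naturality_apply] at hzero
      obtain ⟨x, hx⟩ := sections_exact hS V' _ hzero
      obtain ⟨d, hd⟩ := h₁ (B₁ ∩ B₂) (hB₁.isClosed.inter hB₂.isClosed) V' hBV' x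
      let d' := S.X₁.obj.map (homOfLE (le_top : O₂ ≤ ⊤)).op d
      refine ⟨O₂, t₂ + S.f.hom.app (op O₂) d', h₂', fun z hz hzO => ?_, fun z hz₁ hz₂ => ?_⟩
      · rw [hg, map_add, sections_comp_eq_zero, add_zero, ← hg]
        exact g₂ z hz hzO
      · have hz' : z ∈ V' := hBV' ⟨hz₁, hz₂⟩
        have h' := congrArg ((TopCat.Presheaf.stalkFunctor AddCommGrpCat.{u} z).map S.f.hom)
          (hd z ⟨hz₁, hz₂⟩)
        simp only [germ, TopCat.Presheaf.stalkFunctor_map_germ_apply, hx] at h'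
        simp only [e, map_sub, TopCat.Presheaf.germ_res_apply] at h'
        simp only [germ, map_add, d', NatTrans.naturality_apply, TopCat.Presheaf.germ_res_apply] at h' ⊢
        exact eq_add_of_sub_eq' h'.symm)
  refine ⟨W, t, h, fun z hz => ?_⟩
  rw [← hg]
  exact g z hz (hKO hz)

/-- Global sections surject when the kernel is soft. -/
lemma surjective_top_of_soft [T2Space X] [CompactSpace X] {S : ShortComplex (CohTop.Ab X)}
    (hS : S.ShortExact) (h₁ : Soft S.X₁) : Function.Surjective (S.g.hom.app (op (⊤ : Opens X))) := by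
  intro σ
  obtain ⟨W, t, h, e⟩ := exists_lift_near hS h₁ isClosed_univ
    (O := ⊤) (fun _ _ => trivial) σ
  refine ⟨S.X₂.obj.map (homOfLE (fun z _ => h (Set.mem_univ z) : (⊤ : Opens X) ≤ W)).op t, ?_⟩
  refine TopCat.Presheaf.section_ext S.X₃ ⊤ _ _ fun z hz => ?_
  rw [NatTrans.naturality_apply]
  exact (TopCat.Presheaf.germ_res_apply S.X₃.obj (homOfLE _) z hz _).trans (e z (Set.mem_univ z))

/-- Quotients of soft sheaves by soft sheaves are soft. -/
lemma soft_X₃ [T2Space X] [CompactSpace X] {S : ShortComplex (CohTop.Ab X)} (hS : S.ShortExact)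
    (h₁ : Soft S.X₁) (h₂ : Soft S.X₂) : Soft S.X₃ := by
  intro K hK O hKO σ
  obtain ⟨W, t, h, e⟩ := exists_lift_near hS h₁ hK hKO σ
  obtain ⟨d, hd⟩ := h₂ K hK W h t
  refine ⟨S.g.hom.app (op ⊤) d, fun z hz => ?_⟩
  refine (TopCat.Presheaf.stalkFunctor_map_germ_apply ⊤ z trivial S.g.hom d).symm.trans ?_
  refine (congrArg _ (hd z hz)).trans ?_
  exact (TopCat.Presheaf.stalkFunctor_map_germ_apply W z (h hz) S.g.hom t).trans (e z hz)

/-- Soft sheaves on a compact Hausdorff space are acyclic. -/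
theorem subsingleton_HU_top_of_soft [T2Space X] [CompactSpace X] {G : CohTop.Ab X} (hG : Soft G)
    (n : ℕ) : Subsingleton (CohTop.HU G (n + 1) ⊤) :=
  subsingleton_HU_of_class (J := Opens.grothendieckTopology X) Soft (fun U => U = ⊤)
    (fun G' hG' =>
      ⟨soft_X₃ (injEmbed_shortExact G') hG'
        (@soft_of_isFlasque _ _ (isFlasque_of_injective (Injective.under G'))),
        fun _ hU => hU ▸ surjective_top_of_soft (injEmbed_shortExact G') hG'⟩)
    (F := G) hG (U := (⊤ : Opens X)) rfl n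

end Groth.Agent.SiteCoh.Compact
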