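import Groth.Agent.SiteCoh.Space
import Groth.Agent.SiteCoh.FreePullback
import Groth.Agent.SpecSeq.HomSS
import Mathlib.Topology.IsLocalHomeomorph
import Mathlib.Topology.Sheaves.LocalPredicate
import Mathlib.Topology.Sheaves.Functors

/-!
# Inverse image along a local homeomorphism

For a local homeomorphism `a : Y → S` and an open `W` of `Y` let `secSheaf a W` be the sheaf of
sets on `S` of continuous sections of `a` with values in `W`.  Then the sections over `W` of the
inverse image of an abelian sheaf `F` are the morphisms from the free abelian sheaf on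
`secSheaf a W` to `F`.  In particular the inverse images of injective sheaves are flasque.
-/

set_option autoImplicit false

universe u

open CategoryTheory CategoryTheory.Limits Opposite TopologicalSpace

namespace Groth.Agent.SiteCoh.LH

variable {Y S : TopCat.{u}} {a : Y ⟶ S}

/-- The naive inverse image presheaf along an open map. -/
noncomputable abbrev imagePre (ha : IsLocalHomeomorph a) :
    CohTop.Ab S ⥤ ((Opens Y)ᵒᵖ ⥤ AddCommGrpCat.{u}) :=
  sheafToPresheaf _ _ ⋙ (Functor.whiskeringLeft _ _ AddCommGrpCat.{u}).obj ha.isOpenMap.functor.op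

/-- The inverse image along a local homeomorphism. -/
noncomputable abbrev aStar (ha : IsLocalHomeomorph a) : CohTop.Ab S ⥤ CohTop.Ab Y :=
  imagePre ha ⋙ presheafToSheaf (Opens.grothendieckTopology Y) AddCommGrpCat.{u}

/-- It is the inverse image. -/
noncomputable def pullIso (ha : IsLocalHomeomorph a) : CohTop.pull a ≅ aStar ha :=
  TopCat.Sheaf.pullbackIso AddCommGrpCat.{u} a ≪≫
    Functor.isoWhiskerLeft _ (Functor.isoWhiskerRight ha.isOpenMap.pullbackIso _)

variable (ha : IsLocalHomeomorph a)

/-- The unit. -/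
noncomputable abbrev η (F : CohTop.Ab S) : (imagePre ha).obj F ⟶ ((aStar ha).obj F).obj :=
  toSheafify (Opens.grothendieckTopology Y) ((imagePre ha).obj F)

/-- The image presheaf is separated. -/
lemma η_injective (F : CohTop.Ab S) (V : Opens Y) :
    Function.Injective ((η ha F).app (op V)) := by
  intro s t h
  have hT := Presheaf.equalizerSieve_mem (Opens.grothendieckTopology Y) (η ha F) s t h
  refine TopCat.Sheaf.eq_of_locally_eq' F
    (fun i : {W : Opens Y // ∃ j : W ⟶ V, (Presheaf.equalizerSieve s t).arrows j} =>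
      ha.isOpenMap.functor.obj i.1)
    (ha.isOpenMap.functor.obj V) (fun i => ha.isOpenMap.functor.map i.2.choose) ?_ s t
    (fun i => i.2.choose_spec)
  rintro x ⟨y, hy, rfl⟩
  obtain ⟨W, j, hj, hyW⟩ := hT y hy
  exact Opens.mem_iSup.2 ⟨⟨W, j, hj⟩, y, hyW, rfl⟩

/-- The image presheaf satisfies gluing on the opens on which the map is injective. -/
lemma η_bijective (F : CohTop.Ab S) {V : Opens Y} (hV : Set.InjOn a (V : Set Y)) :
    Function.Bijective ((η ha F).app (op V)) := by
  refine ⟨η_injective ha F V, fun s => ?_⟩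
  have hT := Presheaf.imageSieve_mem (Opens.grothendieckTopology Y) (η ha F) s
  let ι := {W : Opens Y // ∃ j : W ⟶ V, (Presheaf.imageSieve (η ha F) s).arrows j}
  let U : ι → Opens S := fun i => ha.isOpenMap.functor.obj i.1
  let sf : ∀ i : ι, F.obj.obj (op (U i)) := fun i => i.2.choose_spec.choose
  have hsf : ∀ i : ι, (η ha F).app (op i.1) (sf i) = ((aStar ha).obj F).obj.map i.2.choose.op s :=
    fun i => i.2.choose_spec.choose_spec
  have hc : TopCat.Presheaf.IsCompatible F.obj U sf := fun i j => by
    have hle : U i ⊓ U j ≤ ha.isOpenMap.functor.obj (i.1 ⊓ j.1) := by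
      rintro x ⟨⟨y, hy, rfl⟩, ⟨z, hz, hzy⟩⟩
      obtain rfl : z = y := hV (j.2.choose.le hz) (i.2.choose.le hy) hzy
      exact ⟨z, ⟨hy, hz⟩, rfl⟩
    have key : ∀ (k : ι) (g : i.1 ⊓ j.1 ⟶ k.1),
        (η ha F).app (op (i.1 ⊓ j.1)) (F.obj.map (ha.isOpenMap.functor.map g).op (sf k)) =
          ((aStar ha).obj F).obj.map (homOfLE (g.le.trans k.2.choose.le)).op s := fun k g => by
      refine (NatTrans.naturality_apply (η ha F) g.op (sf k)).trans ?_
      rw [hsf, ← ConcreteCategory.comp_apply, ← Functor.map_comp]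
      rfl
    have h := congrArg (F.obj.map (homOfLE hle).op)
      (η_injective ha F _ ((key i (Opens.infLELeft _ _)).trans (key j (Opens.infLERight _ _)).symm))
    simp only [← ConcreteCategory.comp_apply, ← Functor.map_comp, ← op_comp] at h
    exact h
  obtain ⟨t, ht, -⟩ := TopCat.Sheaf.existsUnique_gluing' F U (ha.isOpenMap.functor.obj V)
    (fun i => ha.isOpenMap.functor.map i.2.choose) (by
      rintro x ⟨y, hy, rfl⟩
      obtain ⟨W, j, hj, hyW⟩ := hT y hy
      exact Opens.mem_iSup.2 ⟨⟨W, j, hj⟩, y, hyW, rfl⟩) sf hc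
  refine ⟨t, TopCat.Sheaf.eq_of_locally_eq' ((aStar ha).obj F) (fun i : ι => i.1) V
    (fun i => i.2.choose) (fun y hy => by
      obtain ⟨W, j, hj, hyW⟩ := hT y hy
      exact Opens.mem_iSup.2 ⟨⟨W, j, hj⟩, hyW⟩) _ _ fun i => ?_⟩
  exact (NatTrans.naturality_apply (η ha F) i.2.choose.op t).symm.trans
    ((congrArg _ (ht i)).trans (hsf i))

/-- The predicate of being a continuous section with values in `W`. -/
def secPred (a : Y ⟶ S) (W : Opens Y) : TopCat.LocalPredicate fun _ : S => (Y : Type u) where
  pred {U} f := Continuous f ∧ ∀ x : U, a (f x) = x.1 ∧ f x ∈ W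
  res i f h := ⟨h.1.comp (Opens.isOpenEmbedding_of_le i.le).continuous, fun x => h.2 (i x)⟩
  locality {U} f w := ⟨(TopCat.continuousLocal S Y).locality f fun x => by
      obtain ⟨V, hx, i, h⟩ := w x
      exact ⟨V, hx, i, h.1⟩, fun x => by
      obtain ⟨V, hx, i, h⟩ := w x
      exact h.2 ⟨x.1, hx⟩⟩

/-- The sheaf of sections of `a` with values in `W`. -/
noncomputable def secSheaf (a : Y ⟶ S) (W : Opens Y) :
    Sheaf (Opens.grothendieckTopology S) (Type u) :=
  TopCat.subsheafToTypes (secPred a W)

variable {W : Opens Y} {U : Opens S}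

/-- The underlying function of a section. -/
def sval (s : (secSheaf a W).obj.obj (op U)) : U → Y := s.1

lemma sval_map {U' : Opens S} (i : U' ⟶ U) (s : (secSheaf a W).obj.obj (op U)) (x : U') :
    sval ((secSheaf a W).obj.map i.op s) x = sval s ⟨x.1, i.le x.2⟩ := rfl

lemma continuous_sval (s : (secSheaf a W).obj.obj (op U)) : Continuous (sval s) := s.2.1

lemma app_sval (s : (secSheaf a W).obj.obj (op U)) (x : U) : a (sval s x) = x.1 := (s.2.2 x).1

lemma sval_mem (s : (secSheaf a W).obj.obj (op U)) (x : U) : sval s x ∈ W := (s.2.2 x).2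

lemma sval_ext {s t : (secSheaf a W).obj.obj (op U)} (h : ∀ x, sval s x = sval t x) : s = t :=
  Subtype.ext (funext h)

/-- The image of a section. -/
def img (ha : IsLocalHomeomorph a) (s : (secSheaf a W).obj.obj (op U)) : Opens Y :=
  ⟨Set.range (sval s), by
    refine (IsLocalHomeomorph.isOpenEmbedding_of_comp ha ?_ (continuous_sval s)).isOpen_range
    rw [show a ∘ sval s = Subtype.val from funext (app_sval s)]
    exact U.isOpenEmbedding'⟩

lemma img_le (s : (secSheaf a W).obj.obj (op U)) : img ha s ≤ W := by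
  rintro _ ⟨x, rfl⟩
  exact sval_mem s x

lemma injOn_img (s : (secSheaf a W).obj.obj (op U)) : Set.InjOn a (img ha s : Set Y) := by
  rintro _ ⟨x, rfl⟩ _ ⟨y, rfl⟩ h
  rw [app_sval, app_sval] at h
  rw [Subtype.ext h]

lemma functor_obj_img (s : (secSheaf a W).obj.obj (op U)) :
    ha.isOpenMap.functor.obj (img ha s) = U := by
  ext x
  constructor
  · rintro ⟨_, ⟨z, rfl⟩, rfl⟩
    rw [app_sval]
    exact z.2
  · exact fun hx => ⟨_, ⟨⟨x, hx⟩, rfl⟩, app_sval s _⟩

/-- A section of `F` over the base, read on the image of the section. -/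
noncomputable def lift (F : CohTop.Ab S) (s : (secSheaf a W).obj.obj (op U)) :
    F.obj.obj (op U) →+ ((aStar ha).obj F).obj.obj (op (img ha s)) :=
  (F.obj.map (eqToHom (functor_obj_img ha s)).op ≫ (η ha F).app (op (img ha s))).hom

lemma lift_bijective (F : CohTop.Ab S) (s : (secSheaf a W).obj.obj (op U)) :
    Function.Bijective (lift ha F s) :=
  (η_bijective ha F (injOn_img ha s)).comp
    (ConcreteCategory.bijective_of_isIso (F.obj.map (eqToHom (functor_obj_img ha s)).op))

lemma lift_naturality {F G : CohTop.Ab S} (φ : F ⟶ G) (s : (secSheaf a W).obj.obj (op U))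
    (t : F.obj.obj (op U)) :
    ((aStar ha).map φ).hom.app (op (img ha s)) (lift ha F s t) = lift ha G s (φ.hom.app _ t) := by
  have h := ConcreteCategory.congr_hom (NatTrans.congr_app
    (toSheafify_naturality (Opens.grothendieckTopology Y) ((imagePre ha).map φ)) (op (img ha s)))
    (F.obj.map (eqToHom (functor_obj_img ha s)).op t)
  refine h.symm.trans ?_
  exact congrArg ((η ha G).app (op (img ha s))) (NatTrans.naturality_apply φ.hom _ t)

/-- `lift` and restrictions, whenever the images are comparable. -/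
lemma lift_res (F : CohTop.Ab S) {U' : Opens S} (i : U' ⟶ U) {W' : Opens Y}
    (s : (secSheaf a W).obj.obj (op U)) (s' : (secSheaf a W').obj.obj (op U'))
    (h : img ha s' ≤ img ha s) (t : F.obj.obj (op U)) :
    ((aStar ha).obj F).obj.map (homOfLE h).op (lift ha F s t) =
      lift ha F s' (F.obj.map i.op t) := by
  refine (NatTrans.naturality_apply (η ha F) (homOfLE h).op _).symm.trans ?_
  refine congrArg ((η ha F).app (op (img ha s'))) ?_
  change (F.obj.map _) (F.obj.map _ t) = F.obj.map _ (F.obj.map _ t)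
  simp only [← ConcreteCategory.comp_apply, ← Functor.map_comp]
  rfl

lemma img_res_le {U' : Opens S} (i : U' ⟶ U) (s : (secSheaf a W).obj.obj (op U)) :
    img ha ((secSheaf a W).obj.map i.op s) ≤ img ha s := by
  rintro _ ⟨x, rfl⟩
  exact ⟨⟨x.1, i.le x.2⟩, (sval_map i s x).symm⟩

/-- The value at a section of a section of the inverse image. -/
noncomputable def secVal (F : CohTop.Ab S) (σ : ((aStar ha).obj F).obj.obj (op W))
    (s : (secSheaf a W).obj.obj (op U)) : F.obj.obj (op U) :=
  (Equiv.ofBijective _ (lift_bijective ha F s)).symm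
    (((aStar ha).obj F).obj.map (homOfLE (img_le ha s)).op σ)

lemma lift_secVal (F : CohTop.Ab S) (σ : ((aStar ha).obj F).obj.obj (op W))
    (s : (secSheaf a W).obj.obj (op U)) :
    lift ha F s (secVal ha F σ s) = ((aStar ha).obj F).obj.map (homOfLE (img_le ha s)).op σ :=
  (Equiv.ofBijective _ (lift_bijective ha F s)).apply_symm_apply _

lemma secVal_eq {F : CohTop.Ab S} {σ : ((aStar ha).obj F).obj.obj (op W)}
    {s : (secSheaf a W).obj.obj (op U)} {t : F.obj.obj (op U)}
    (h : lift ha F s t = ((aStar ha).obj F).obj.map (homOfLE (img_le ha s)).op σ) :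
    secVal ha F σ s = t :=
  (lift_bijective ha F s).1 ((lift_secVal ha F σ s).trans h.symm)

/-- `secVal` as a morphism of sheaves of sets. -/
noncomputable def secHom (F : CohTop.Ab S) (σ : ((aStar ha).obj F).obj.obj (op W)) :
    secSheaf a W ⟶ (sheafCompose _ (forget AddCommGrpCat.{u})).obj F :=
  ⟨{ app := fun U => TypeCat.ofHom fun s => secVal ha F σ s
     naturality := fun U U' i => by
      ext s
      refine secVal_eq ha ?_
      change lift ha F _ (F.obj.map i.unop.op (secVal ha F σ s)) = _
      refine (lift_res ha F i.unop s ((secSheaf a W).obj.map i.unop.op s)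
        (img_res_le ha i.unop s) _).symm.trans ?_
      rw [lift_secVal, ← ConcreteCategory.comp_apply, ← Functor.map_comp]
      rfl }⟩

variable (W)

lemma exists_sec_through (y : Y) (hy : y ∈ W) :
    ∃ (U : Opens S) (s : (secSheaf a W).obj.obj (op U)), y ∈ img ha s := by
  obtain ⟨e, hye, he⟩ := ha y
  let U : Opens S := ⟨e.target ∩ e.symm ⁻¹' (W : Set Y), e.symm.isOpen_inter_preimage W.2⟩
  refine ⟨U, ⟨fun x : U => e.symm x.1, ?_, fun x => ⟨?_, x.2.2⟩⟩, ?_⟩
  · exact continuousOn_iff_continuous_domRestrict.1 (e.continuousOn_invFun.mono fun _ h => h.1)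
  · exact (congrFun he _).trans (e.right_inv x.2.1)
  · exact ⟨⟨e y, e.map_source hye, by rw [Set.mem_preimage, e.left_inv hye]; exact hy⟩,
      e.left_inv hye⟩

variable {W}

lemma secHom_injective (F : CohTop.Ab S) {σ τ : ((aStar ha).obj F).obj.obj (op W)}
    (h : ∀ (U : Opens S) (s : (secSheaf a W).obj.obj (op U)),
      secVal ha F σ s = secVal ha F τ s) : σ = τ := by
  refine TopCat.Sheaf.eq_of_locally_eq' ((aStar ha).obj F)
    (fun i : Σ U : Opens S, (secSheaf a W).obj.obj (op U) => img ha i.2) W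
    (fun i => homOfLE (img_le ha i.2)) (fun y hy => ?_) σ τ fun i => ?_
  · obtain ⟨U, s, hs⟩ := exists_sec_through ha W y hy
    exact Opens.mem_iSup.2 ⟨⟨U, s⟩, hs⟩
  · rw [← lift_secVal, h, lift_secVal]

/-- Every morphism out of the sheaf of sections comes from a section. -/
lemma exists_secVal_eq (F : CohTop.Ab S)
    (k : secSheaf a W ⟶ (sheafCompose _ (forget AddCommGrpCat.{u})).obj F) :
    ∃ σ : ((aStar ha).obj F).obj.obj (op W), ∀ (U : Opens S) (s : (secSheaf a W).obj.obj (op U)),
      secVal ha F σ s = k.hom.app (op U) s := by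
  let ι := Σ U : Opens S, (secSheaf a W).obj.obj (op U)
  let sf : ∀ i : ι, ((aStar ha).obj F).obj.obj (op (img ha i.2)) :=
    fun i => lift ha F i.2 (k.hom.app (op i.1) i.2)
  have hc : TopCat.Presheaf.IsCompatible ((aStar ha).obj F).obj (fun i : ι => img ha i.2) sf := by
    intro i j
    let Z := img ha i.2 ⊓ img ha j.2
    let U'' := ha.isOpenMap.functor.obj Z
    have hi : U'' ≤ i.1 := by
      rintro _ ⟨_, ⟨⟨x, rfl⟩, _⟩, rfl⟩
      rw [app_sval]
      exact x.2
    have hj : U'' ≤ j.1 := by
      rintro _ ⟨_, ⟨_, ⟨x, rfl⟩⟩, rfl⟩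
      rw [app_sval]
      exact x.2
    let s'' := (secSheaf a W).obj.map (homOfLE hi).op i.2
    have hij : s'' = (secSheaf a W).obj.map (homOfLE hj).op j.2 := by
      refine sval_ext fun x => ?_
      obtain ⟨z, ⟨⟨p, hp⟩, ⟨q, hq⟩⟩, hz⟩ := x.2
      have hp' : p = ⟨x.1, hi x.2⟩ := Subtype.ext (by rw [← app_sval i.2 p, hp, hz])
      have hq' : q = ⟨x.1, hj x.2⟩ := Subtype.ext (by rw [← app_sval j.2 q, hq, hz])
      rw [sval_map, sval_map, ← hp', ← hq', hp, hq]
    have hZ : Z ≤ img ha s'' := by
      rintro z ⟨⟨p, hp⟩, hzj⟩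
      have h1 : a z = p.1 := by rw [← hp, app_sval]
      refine ⟨⟨a z, z, ⟨⟨p, hp⟩, hzj⟩, rfl⟩, ?_⟩
      rw [sval_map]
      exact (congrArg (sval i.2) (Subtype.ext h1)).trans hp
    have key : ∀ (l : ι) (g : U'' ⟶ l.1) (g' : Z ⟶ img ha l.2),
        s'' = (secSheaf a W).obj.map g.op l.2 →
        ((aStar ha).obj F).obj.map g'.op (sf l) =
          ((aStar ha).obj F).obj.map (homOfLE hZ).op (lift ha F s'' (k.hom.app (op U'') s'')) := by
      intro l g g' hl
      have hle : img ha s'' ≤ img ha l.2 := hl ▸ img_res_le ha g l.2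
      have hk : k.hom.app (op U'') s'' = F.obj.map g.op (k.hom.app (op l.1) l.2) :=
        hl ▸ NatTrans.naturality_apply k.hom g.op l.2
      refine Eq.trans ?_ (congrArg (fun m => ((aStar ha).obj F).obj.map (homOfLE hZ).op m)
        ((lift_res ha F g l.2 s'' hle (k.hom.app (op l.1) l.2)).trans
          (congrArg (lift ha F s'') hk.symm)))
      rw [← ConcreteCategory.comp_apply, ← Functor.map_comp]
      rfl
    exact (key i (homOfLE hi) (Opens.infLELeft _ _) rfl).trans
      (key j (homOfLE hj) (Opens.infLERight _ _) hij).symm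
  obtain ⟨σ, hσ, -⟩ := TopCat.Sheaf.existsUnique_gluing' ((aStar ha).obj F)
    (fun i : ι => img ha i.2) W (fun i => homOfLE (img_le ha i.2)) (fun y hy => by
      obtain ⟨U, s, hs⟩ := exists_sec_through ha W y hy
      exact Opens.mem_iSup.2 ⟨⟨U, s⟩, hs⟩) sf hc
  exact ⟨σ, fun U s => secVal_eq ha (hσ ⟨U, s⟩).symm⟩

/-- The value at a section of a morphism into an abelian sheaf, with its group structure. -/
noncomputable abbrev val (F : CohTop.Ab S) {K : Sheaf (Opens.grothendieckTopology S) (Type u)}
    (k : K ⟶ (sheafCompose _ (forget AddCommGrpCat.{u})).obj F) (U : (Opens S)ᵒᵖ)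
    (s : K.obj.obj U) : F.obj.obj U :=
  k.hom.app U s

lemma val_ext (F : CohTop.Ab S) {K : Sheaf (Opens.grothendieckTopology S) (Type u)}
    {k k' : K ⟶ (sheafCompose _ (forget AddCommGrpCat.{u})).obj F}
    (h : ∀ U s, val F k U s = val F k' U s) : k = k' := by
  ext U s
  exact h U s

lemma val_homEquiv_add (F : CohTop.Ab S) {K : Sheaf (Opens.grothendieckTopology S) (Type u)}
    (φ ψ : (Sheaf.composeAndSheafify _ AddCommGrpCat.free.{u}).obj K ⟶ F) (U : (Opens S)ᵒᵖ)
    (s : K.obj.obj U) :
    val F ((freeShAdj _).homEquiv K F (φ + ψ)) U s =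
      val F ((freeShAdj _).homEquiv K F φ) U s + val F ((freeShAdj _).homEquiv K F ψ) U s := by
  rw [(freeShAdj _).homEquiv_unit, (freeShAdj _).homEquiv_unit, (freeShAdj _).homEquiv_unit]
  rfl

variable (W)

/-- The morphism out of the free sheaf given by a section of the inverse image. -/
noncomputable def secFree (F : CohTop.Ab S) (σ : ((aStar ha).obj F).obj.obj (op W)) :
    (Sheaf.composeAndSheafify _ AddCommGrpCat.free.{u}).obj (secSheaf a W) ⟶ F :=
  ((freeShAdj _).homEquiv (secSheaf a W) F).symm (secHom ha F σ)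

lemma homEquiv_secFree (F : CohTop.Ab S) (σ : ((aStar ha).obj F).obj.obj (op W)) :
    (freeShAdj _).homEquiv (secSheaf a W) F (secFree ha W F σ) = secHom ha F σ :=
  Equiv.apply_symm_apply _ _

lemma val_secHom_add (F : CohTop.Ab S) (σ τ : ((aStar ha).obj F).obj.obj (op W))
    (U : (Opens S)ᵒᵖ) (s : (secSheaf a W).obj.obj U) :
    val F (secHom ha F (σ + τ)) U s = val F (secHom ha F σ) U s + val F (secHom ha F τ) U s := by
  refine secVal_eq ha ?_
  change lift ha F s (secVal ha F σ s + secVal ha F τ s) = _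
  rw [map_add, lift_secVal, lift_secVal, map_add]

lemma secFree_add (F : CohTop.Ab S) (σ τ : ((aStar ha).obj F).obj.obj (op W)) :
    secFree ha W F (σ + τ) = secFree ha W F σ + secFree ha W F τ := by
  refine ((freeShAdj _).homEquiv (secSheaf a W) F).injective ?_
  refine val_ext F fun U s => ?_
  rw [val_homEquiv_add, homEquiv_secFree, homEquiv_secFree, homEquiv_secFree]
  exact val_secHom_add ha W F σ τ U s

lemma secFree_injective (F : CohTop.Ab S) : Function.Injective (secFree ha W F) := fun σ τ h => by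
  have h' : secHom ha F σ = secHom ha F τ := by
    rw [← homEquiv_secFree, ← homEquiv_secFree, h]
  exact secHom_injective ha F fun U s =>
    congrArg (fun k => val F k (op U) s) h'

lemma secFree_surjective (F : CohTop.Ab S) : Function.Surjective (secFree ha W F) := fun φ => by
  obtain ⟨σ, hσ⟩ := exists_secVal_eq ha F ((freeShAdj _).homEquiv (secSheaf a W) F φ)
  refine ⟨σ, ((freeShAdj _).homEquiv (secSheaf a W) F).injective ?_⟩
  rw [homEquiv_secFree]
  exact val_ext F fun U s => hσ U.unop s

/-- Sections of the inverse image over `W` are morphisms out of the free sheaf on `secSheaf a W`. -/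
noncomputable def secEquiv (F : CohTop.Ab S) :
    ((aStar ha).obj F).obj.obj (op W) ≃+
      ((Sheaf.composeAndSheafify _ AddCommGrpCat.free.{u}).obj (secSheaf a W) ⟶ F) :=
  AddEquiv.ofBijective (AddMonoidHom.mk' (secFree ha W F) (secFree_add ha W F))
    ⟨secFree_injective ha W F, secFree_surjective ha W F⟩

/-- Sections of the inverse image over `W`, as a functor. -/
noncomputable def secIso :
    aStar ha ⋙ sheafToPresheaf _ _ ⋙ (evaluation _ AddCommGrpCat.{u}).obj (op W) ≅
      SpecSeq.homFrom ((Sheaf.composeAndSheafify _ AddCommGrpCat.free.{u}).obj (secSheaf a W)) :=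
  NatIso.ofComponents (fun F => (secEquiv ha W F).toAddCommGrpIso) (fun {F G} φ => by
    ext σ
    change ((freeShAdj _).homEquiv (secSheaf a W) G).symm (secHom ha G (((aStar ha).map φ).hom.app (op W) σ)) =
      ((freeShAdj _).homEquiv _ _).symm (secHom ha F σ) ≫ φ
    rw [← (freeShAdj _).homEquiv_naturality_right_symm]
    refine congrArg _ ?_
    ext U s
    refine secVal_eq ha ?_
    change lift ha G s (φ.hom.app U (secVal ha F σ s)) = _
    rw [← lift_naturality, lift_secVal]
    exact NatTrans.naturality_apply ((aStar ha).map φ).hom _ σ)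

/-- Enlarging the target of sections. -/
noncomputable def secIncl {W' : Opens Y} (h : W' ≤ W) : secSheaf a W' ⟶ secSheaf a W :=
  ⟨{ app := fun _ => TypeCat.ofHom fun s =>
      ⟨s.1, s.2.1, fun x => ⟨(s.2.2 x).1, h (s.2.2 x).2⟩⟩ }⟩

/-- The inverse image of an injective sheaf is flasque. -/
lemma isFlasque_aStar (I : CohTop.Ab S) [Injective I] :
    TopCat.Sheaf.IsFlasque ((aStar ha).obj I) where
  epi {V V'} i := by
    rw [AddCommGrpCat.epi_iff_surjective]
    intro σ'
    let j := secIncl (a := a) V.unop i.unop.le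
    have : Mono j := by
      refine (sheafToPresheaf _ _).mono_of_mono_map ?_
      have : ∀ U, Mono (((sheafToPresheaf _ _).map j).app U) := fun U =>
        (mono_iff_injective _).2 fun s t hst => sval_ext fun x =>
          congrFun (congrArg Subtype.val hst) x
      exact NatTrans.mono_of_mono_app _
    have : Mono ((Sheaf.composeAndSheafify _ AddCommGrpCat.free.{u}).map j) := by
      dsimp [Sheaf.composeAndSheafify]
      infer_instance
    obtain ⟨σ, hσ⟩ := (secEquiv ha V.unop I).surjective
      (Injective.factorThru (secEquiv ha V'.unop I σ')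
        ((Sheaf.composeAndSheafify _ AddCommGrpCat.free.{u}).map j))
    refine ⟨σ, (secEquiv ha V'.unop I).injective ?_⟩
    refine Eq.trans ?_ ((congrArg (fun m => (Sheaf.composeAndSheafify _
      AddCommGrpCat.free.{u}).map j ≫ m) hσ).trans (Injective.comp_factorThru _ _))
    change ((freeShAdj _).homEquiv _ _).symm (secHom ha I (((aStar ha).obj I).obj.map i σ)) =
      (Sheaf.composeAndSheafify _ AddCommGrpCat.free.{u}).map j ≫
        ((freeShAdj _).homEquiv _ _).symm (secHom ha I σ)
    rw [← (freeShAdj _).homEquiv_naturality_left_symm]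
    refine congrArg _ ?_
    ext U s
    refine secVal_eq ha ?_
    refine (congrArg _ rfl).trans ((lift_secVal ha I σ (j.hom.app U s)).trans ?_)
    rw [← ConcreteCategory.comp_apply, ← Functor.map_comp]
    rfl

end Groth.Agent.SiteCoh.LH
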