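import Groth.Agent.SiteCoh.ProperFamily
import Groth.Agent.SiteCoh.FamilyRestr
import Groth.Agent.SpecSeq.CycMap

/-!
# The Cech complex of a proper map as a complex of sheaves on the base
-/

set_option autoImplicit false

universe u

open CategoryTheory CategoryTheory.Limits Opposite TopologicalSpace
open scoped Simplicial

namespace Groth.Agent.SiteCoh.PFam

open Groth.Agent.SiteCoh.Fam Groth.Agent.SiteCoh.LH

variable {X S : TopCat.{u}} (f : X ⟶ S)

/-- The category of sheaves on the family. -/
noncomputable abbrev BigSh : Type (u + 1) := Sheaf (J (pY f) (pa f)) AddCommGrpCat.{u}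

/-- The structure morphism over an open, of represented sheaves. -/
noncomputable abbrev srcArr (U : Opens S) :
    rep (memObj f (some none) U) ⟶ rep (memObj f none U) :=
  repMap (srcHom f U)

/-- Restriction of arrows. -/
noncomputable def resMor {V U : Opens S} (i : V ⟶ U) :
    Arrow.mk (srcArr f V) ⟶ Arrow.mk (srcArr f U) :=
  sqMor (srcHom f U) (srcHom f V) (memRes f _ i) (memRes f _ i) (hom_ext fun _ => rfl)

/-- From a fibre to the part over an open. -/
noncomputable def fibMor {s : S} {U : Opens S} (hs : s ∈ U) :
    Arrow.mk (repMap (srcFib f s)) ⟶ Arrow.mk (srcArr f U) :=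
  sqMor (srcHom f U) (srcFib f s) (fibToMem f _ hs) (fibToMem f _ hs) (hom_ext fun _ => rfl)

lemma repMap_id {o : Site (pY f) (pa f)} : repMap (𝟙 o) = 𝟙 (rep o) := by
  ext V w
  exact Category.comp_id (show V.unop ⟶ o from w)

lemma resMor_id (U : Opens S) : resMor f (𝟙 U) = 𝟙 (Arrow.mk (srcArr f U)) := by
  refine Arrow.hom_ext _ _ ?_ ?_
  · exact (congrArg repMap (hom_ext fun _ => rfl : memRes f (some none) (𝟙 U) = 𝟙 _)).trans (repMap_id f)
  · exact (congrArg repMap (hom_ext fun _ => rfl : memRes f none (𝟙 U) = 𝟙 _)).trans (repMap_id f)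

lemma resMor_comp {W V U : Opens S} (j : W ⟶ V) (i : V ⟶ U) :
    resMor f (j ≫ i) = resMor f j ≫ resMor f i := by
  refine Arrow.hom_ext _ _ ?_ ?_
  · exact (congrArg repMap (hom_ext fun _ => rfl :
      memRes f (some none) (j ≫ i) = memRes f _ j ≫ memRes f _ i)).trans (repMap_comp _ _)
  · exact (congrArg repMap (hom_ext fun _ => rfl :
      memRes f none (j ≫ i) = memRes f _ j ≫ memRes f _ i)).trans (repMap_comp _ _)

lemma fibMor_res {s : S} {V U : Opens S} (hs : s ∈ V) (i : V ⟶ U) :
    fibMor f hs ≫ resMor f i = fibMor f (i.le hs) := by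
  refine Arrow.hom_ext _ _ ?_ ?_
  · exact (repMap_comp _ _).symm.trans (congrArg repMap (hom_ext fun _ => rfl :
      fibToMem f (some none) hs ≫ memRes f _ i = fibToMem f _ (i.le hs)))
  · exact (repMap_comp _ _).symm.trans (congrArg repMap (hom_ext fun _ => rfl :
      fibToMem f none hs ≫ memRes f _ i = fibToMem f _ (i.le hs)))

/-- The Cech complexes over the opens of the base. -/
noncomputable def preT (G : BigSh f) : (Opens S)ᵒᵖ ⥤ CochainComplex AddCommGrpCat.{u} ℕ where
  obj U := (nerveCxFunctor (srcArr f U.unop)).obj G
  map {U V} i := (nerveCxMap (srcArr f U.unop) (resMor f i.unop)).app G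
  map_id U := by
    rw [show (𝟙 U : U ⟶ U).unop = 𝟙 U.unop from rfl, resMor_id]
    exact NatTrans.congr_app (nerveCxMap_id _) G
  map_comp {U V W} i j := by
    rw [show (i ≫ j).unop = j.unop ≫ i.unop from rfl, resMor_comp]
    exact NatTrans.congr_app (nerveCxMap_comp _ _ _) G

/-- The terms. -/
noncomputable abbrev preX (G : BigSh f) (p : ℕ) : (Opens S)ᵒᵖ ⥤ AddCommGrpCat.{u} :=
  preT f G ⋙ HomologicalComplex.eval _ _ p

/-- Direct images from a member of the family. -/
noncomputable abbrev pushMem (k : Option (Option ℕ)) : BigSh f ⥤ CohTop.Ab S :=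
  restr (withBaseMap (pY f) (pa f)) (mem k) ⋙ CohTop.push (ta f k)

/-- The terms are direct images from the fibre powers. -/
noncomputable def preXIso (G : BigSh f) (p : ℕ) :
    preX f G p ≅ ((pushMem f (some (some p))).obj G).obj :=
  NatIso.ofComponents (fun U => (powDegIso (isPow_mem f U.unop p)).app G) fun {U V} i => by
    refine AddCommGrpCat.hom_ext (AddMonoidHom.ext fun
      (x : (Nerve.freeCx (srcArr f U.unop)).X p ⟶ G) => ?_)
    exact powDegIso_naturality (isPow_mem f U.unop p) (isPow_mem f V.unop p) _ _ _
      (memRes f (some (some p)) i.unop) (fun k => hom_ext fun _ => rfl) G x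

lemma isSheaf_preX (G : BigSh f) (p : ℕ) :
    Presheaf.IsSheaf (Opens.grothendieckTopology S) (preX f G p) :=
  (Presheaf.isSheaf_of_iso_iff (preXIso f G p)).2 ((pushMem f (some (some p))).obj G).property

/-- The Cech complex of sheaves. -/
noncomputable def cxSheaf : BigSh f ⥤ CochainComplex (CohTop.Ab S) ℕ where
  obj G :=
    { X := fun p => ⟨preX f G p, isSheaf_preX f G p⟩
      d := fun p q =>
        ⟨{ app := fun U => ((preT f G).obj U).d p q
           naturality := fun _ _ i => (((preT f G).map i).comm p q) }⟩
      shape := fun p q h => by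
        apply InducedCategory.hom_ext
        ext U : 2
        exact ((preT f G).obj U).shape p q h
      d_comp_d' := fun p q r _ _ => by
        apply InducedCategory.hom_ext
        ext U : 2
        exact ((preT f G).obj U).d_comp_d p q r }
  map {G G'} φ :=
    { f := fun p =>
        ⟨{ app := fun U => ((nerveCxFunctor (srcArr f U.unop)).map φ).f p
           naturality := fun U V i => by
            exact congrArg (fun m => HomologicalComplex.Hom.f m p)
              ((nerveCxMap (srcArr f U.unop) (resMor f i.unop)).naturality φ).symm }⟩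
      comm' := fun p q _ => by
        apply InducedCategory.hom_ext
        ext U : 2
        exact ((nerveCxFunctor (srcArr f U.unop)).map φ).comm p q }
  map_id G := by
    ext p : 1
    apply InducedCategory.hom_ext
    ext U : 2
    exact congrArg (fun m => HomologicalComplex.Hom.f m p)
      ((nerveCxFunctor (srcArr f U.unop)).map_id G)
  map_comp φ ψ := by
    ext p : 1
    apply InducedCategory.hom_ext
    ext U : 2
    exact congrArg (fun m => HomologicalComplex.Hom.f m p)
      ((nerveCxFunctor (srcArr f U.unop)).map_comp φ ψ)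

instance cxSheaf_additive : (cxSheaf f).Additive where
  map_add {G G' φ ψ} := by
    ext p : 1
    apply InducedCategory.hom_ext
    ext U : 2
    exact congrArg (fun m => HomologicalComplex.Hom.f m p)
      ((nerveCxFunctor (srcArr f U.unop)).map_add)

/-- The terms, as sheaves. -/
noncomputable def cxSheafDegIso (p : ℕ) :
    SpecSeq.degComp (cxSheaf f) p ≅ pushMem f (some (some p)) :=
  NatIso.ofComponents (fun G => (fullyFaithfulSheafToPresheaf _ _).preimageIso (preXIso f G p))
    fun {G G'} φ => by
      apply InducedCategory.hom_ext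
      ext U : 2
      exact (powDegIso (isPow_mem f U.unop p)).hom.naturality φ

/-- The Cech complex over an open. -/
noncomputable def cxSheafSectionsIso (U : Opens S) :
    cxSheaf f ⋙ (sectionsAt (Opens.grothendieckTopology S) U).mapHomologicalComplex _ ≅
      nerveCxFunctor (srcArr f U) :=
  NatIso.ofComponents
    (fun G => HomologicalComplex.Hom.isoOfComponents (fun p => Iso.refl _) fun p q _ =>
      (Category.id_comp _).trans (Category.comp_id _).symm)
    fun {G G'} φ => by
      ext p : 1
      exact (Category.comp_id _).trans (Category.id_comp _).symm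

end Groth.Agent.SiteCoh.PFam
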