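import Groth.Agent.SiteCoh.ProperCxSheaf

/-!
# The stalks of the Cech complex of a proper map and the augmentation
-/

set_option autoImplicit false

universe u

open CategoryTheory CategoryTheory.Limits Opposite TopologicalSpace
open scoped Simplicial

namespace Groth.Agent.SiteCoh.PFam

open Groth.Agent.SiteCoh.Fam Groth.Agent.SiteCoh.LH Groth.Agent.SiteCoh.Compact
open Groth.Agent.SiteCoh.Nerve (freeSh freeCx aug)

variable {X S : TopCat.{u}} (f : X ⟶ S)

/-- The stalks of the Cech complex. -/
noncomputable abbrev cxStalk (s : S) : BigSh f ⥤ CochainComplex AddCommGrpCat.{u} ℕ :=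
  cxSheaf f ⋙ (stalkSh s).mapHomologicalComplex _

/-- The restriction to a fibre of the terms of the Cech complex. -/
noncomputable def tauCocone (s : S) (G : BigSh f) (p : ℕ) :
    Cocone ((OpenNhds.inclusion s).op ⋙ preX f G p) where
  pt := ((nerveCxFunctor (repMap (srcFib f s))).obj G).X p
  ι :=
    { app := fun U => ((nerveCxMap (srcArr f U.unop.1) (fibMor f U.unop.2)).app G).f p
      naturality := fun U V i => by
        refine Eq.trans ?_ (Category.comp_id _).symm
        refine (congrArg (fun m => HomologicalComplex.Hom.f (NatTrans.app m G) p)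
          (nerveCxMap_comp _ (fibMor f V.unop.2) (resMor f ((OpenNhds.inclusion s).map i.unop)))).symm.trans ?_
        rw [fibMor_res]
        rfl }

/-- The restriction to a fibre, one degree. -/
noncomputable def tauF (s : S) (G : BigSh f) (p : ℕ) :
    TopCat.Presheaf.stalk (preX f G p) s ⟶ ((nerveCxFunctor (repMap (srcFib f s))).obj G).X p :=
  colimit.desc _ (tauCocone f s G p)

lemma tauF_germ (s : S) (G : BigSh f) (p : ℕ) {U : Opens S} (hs : s ∈ U)
    (x : (freeCx (srcArr f U)).X p ⟶ G) :
    tauF f s G p (TopCat.Presheaf.germ (preX f G p) U s hs x) =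
      ((nerveCxMap (srcArr f U) (fibMor f hs)).app G).f p x :=
  ConcreteCategory.congr_hom (colimit.ι_desc (tauCocone f s G p) (op (⟨U, hs⟩ : OpenNhds s))) x

/-- The restriction to a fibre of the Cech complex. -/
noncomputable def tau (s : S) : cxStalk f s ⟶ nerveCxFunctor (repMap (srcFib f s)) where
  app G :=
    { f := fun p => tauF f s G p
      comm' := fun p q _ => by
        refine TopCat.Presheaf.stalk_hom_ext _ fun U hU => ?_
        refine AddCommGrpCat.hom_ext (AddMonoidHom.ext fun (x : (freeCx (srcArr f U)).X p ⟶ G) => ?_)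
        change ((nerveCxFunctor (repMap (srcFib f s))).obj G).d p q
            (tauF f s G p (TopCat.Presheaf.germ (preX f G p) U s hU x)) =
          tauF f s G q ((TopCat.Presheaf.stalkFunctor AddCommGrpCat.{u} s).map
            (((cxSheaf f).obj G).d p q).hom (TopCat.Presheaf.germ (preX f G p) U s hU x))
        refine (congrArg _ (tauF_germ f s G p hU x)).trans ?_
        refine Eq.trans ?_ (congrArg (tauF f s G q)
          (TopCat.Presheaf.stalkFunctor_map_germ_apply (F := preX f G p) (G := preX f G q) U s hU _ x)).symm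
        refine Eq.trans ?_ (tauF_germ f s G q hU _).symm
        exact ConcreteCategory.congr_hom
          (((nerveCxMap (srcArr f U) (fibMor f hU)).app G).comm p q) x }
  naturality G G' φ := by
    ext p : 1
    refine TopCat.Presheaf.stalk_hom_ext _ fun U hU => ?_
    refine AddCommGrpCat.hom_ext (AddMonoidHom.ext fun (x : (freeCx (srcArr f U)).X p ⟶ G) => ?_)
    change tauF f s G' p ((TopCat.Presheaf.stalkFunctor AddCommGrpCat.{u} s).map
        (((cxSheaf f).map φ).f p).hom (TopCat.Presheaf.germ (preX f G p) U s hU x)) =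
      ((nerveCxFunctor (repMap (srcFib f s))).map φ).f p
        (tauF f s G p (TopCat.Presheaf.germ (preX f G p) U s hU x))
    refine (congrArg (tauF f s G' p)
      (TopCat.Presheaf.stalkFunctor_map_germ_apply (F := preX f G p) (G := preX f G' p) U s hU _ x)).trans ?_
    refine (tauF_germ f s G' p hU _).trans ?_
    refine Eq.trans ?_ (congrArg _ (tauF_germ f s G p hU x)).symm
    exact ConcreteCategory.congr_hom (congrArg (fun m => HomologicalComplex.Hom.f m p)
      ((nerveCxMap (srcArr f U) (fibMor f hU)).naturality φ)) x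

/-- Restriction of sections to a fibre. -/
noncomputable def rho (s : S) (k : Option (Option ℕ)) :
    pushMem f k ⋙ stalkSh s ⟶ sectionsAt (J (pY f) (pa f)) (fibObj f s k) where
  app G := stalkToFibre (ta f k) s ((restr (withBaseMap (pY f) (pa f)) (mem k)).obj G) ≫
    ((restrTrans (a := withBaseMap (pY f) (pa f)) (i := fib s k) (j := mem k) (inc f s k) rfl).app G).hom.app (op ⊤)
  naturality G G' φ := by
    let R := restr (withBaseMap (pY f) (pa f)) (mem k)
    let θ := restrTrans (a := withBaseMap (pY f) (pa f)) (i := fib s k) (j := mem k) (inc f s k) rfl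
    have h₁ : (CohTop.push (ta f k) ⋙ stalkSh s).map (R.map φ) ≫ stalkToFibre (ta f k) s (R.obj G') =
        stalkToFibre (ta f k) s (R.obj G) ≫ ((CohTop.pull (inc f s k)).map (R.map φ)).hom.app (op ⊤) := by
      refine TopCat.Presheaf.stalk_hom_ext _ fun U hU => ?_
      ext t
      change stalkToFibre (ta f k) s (R.obj G') ((TopCat.Presheaf.stalkFunctor AddCommGrpCat.{u} s).map
          ((CohTop.push (ta f k)).map (R.map φ)).hom
            (TopCat.Presheaf.germ ((CohTop.push (ta f k)).obj (R.obj G)).obj U s hU t)) =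
        ((CohTop.pull (inc f s k)).map (R.map φ)).hom.app (op ⊤)
          (stalkToFibre (ta f k) s (R.obj G) (TopCat.Presheaf.germ ((CohTop.push (ta f k)).obj (R.obj G)).obj U s hU t))
      rw [TopCat.Presheaf.stalkFunctor_map_germ_apply, stalkToFibre_germ, stalkToFibre_germ,
        restrTop_naturality]
      rfl
    have h₂ := NatTrans.congr_app (congrArg InducedCategory.Hom.hom (θ.naturality φ)) (op ⊤)
    change (CohTop.push (ta f k) ⋙ stalkSh s).map (R.map φ) ≫ stalkToFibre (ta f k) s (R.obj G') ≫ _ =
      (stalkToFibre (ta f k) s (R.obj G) ≫ _) ≫ _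
    refine (Category.assoc _ _ _).symm.trans ((congrArg (fun m => m ≫ (θ.app G').hom.app (op ⊤)) h₁).trans ?_)
    refine (Category.assoc _ _ _).trans (Eq.trans ?_ (Category.assoc _ _ _).symm)
    exact congrArg (fun m => stalkToFibre (ta f k) s (R.obj G) ≫ m) h₂

lemma rho_germ (s : S) (k : Option (Option ℕ)) (G : BigSh f) {U : Opens S} (hs : s ∈ U)
    (t : G.obj.obj (op (memObj f k U))) :
    (rho f s k).app G (TopCat.Presheaf.germ ((pushMem f k).obj G).obj U s hs t) =
      G.obj.map (fibToMem f k hs).op t := by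
  let R := (restr (withBaseMap (pY f) (pa f)) (mem k)).obj G
  let θ := (restrTrans (a := withBaseMap (pY f) (pa f)) (i := fib s k) (j := mem k) (inc f s k) rfl).app G
  let O := (Opens.map (ta f k)).obj U
  change θ.hom.app (op ⊤) (stalkToFibre (ta f k) s R
    (TopCat.Presheaf.germ ((CohTop.push (ta f k)).obj R).obj U s hs t)) = _
  refine (congrArg (θ.hom.app (op ⊤)) (stalkToFibre_germ (ta f k) s R hs t)).trans ?_
  refine (NatTrans.naturality_apply θ.hom _ _).trans ?_
  refine (congrArg (((restr (withBaseMap (pY f) (pa f)) (fib s k)).obj G).obj.map _)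
    (ConcreteCategory.congr_hom (NatTrans.congr_app (congrArg InducedCategory.Hom.hom
      (unit_transpose (inc f s k) (restrHom (a := withBaseMap (pY f) (pa f)) (i := fib s k) (j := mem k)
        (inc f s k) rfl G))) (op O)) t)).trans ?_
  change G.obj.map _ (G.obj.map _ t) = _
  rw [← ConcreteCategory.comp_apply, ← Functor.map_comp]
  exact congrArg (fun q => G.obj.map (Quiver.Hom.op q) t)
    (hom_ext fun _ => rfl : _ = fibToMem f k hs)

/-- The degree `p` part of the restriction to a fibre. -/
lemma tau_f_eq (s : S) (G : BigSh f) (p : ℕ) :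
    ((tau f s).app G).f p ≫ (powDegIso (isPow_fib f s p)).hom.app G =
      (stalkSh s).map ((cxSheafDegIso f p).hom.app G) ≫ (rho f s (some (some p))).app G := by
  refine TopCat.Presheaf.stalk_hom_ext _ fun U hU => ?_
  refine AddCommGrpCat.hom_ext (AddMonoidHom.ext fun (x : (freeCx (srcArr f U)).X p ⟶ G) => ?_)
  change (powDegIso (isPow_fib f s p)).hom.app G (tauF f s G p (TopCat.Presheaf.germ (preX f G p) U s hU x)) =
    (rho f s (some (some p))).app G ((TopCat.Presheaf.stalkFunctor AddCommGrpCat.{u} s).map
      ((cxSheafDegIso f p).hom.app G).hom (TopCat.Presheaf.germ (preX f G p) U s hU x))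
  refine (congrArg _ (tauF_germ f s G p hU x)).trans ?_
  refine Eq.trans ?_ (congrArg ((rho f s (some (some p))).app G)
    (TopCat.Presheaf.stalkFunctor_map_germ_apply (F := preX f G p)
      (G := ((pushMem f (some (some p))).obj G).obj) U s hU _ x)).symm
  refine Eq.trans ?_ (rho_germ f s _ G hU _).symm
  exact powDegIso_naturality (isPow_mem f U p) (isPow_fib f s p) _ _ _
    (fibToMem f (some (some p)) hU) (fun k => hom_ext fun _ => rfl) G x

/-- Restriction along a map of spaces. -/
noncomputable def memNat {k l : Option (Option ℕ)} (p : tY f k ⟶ tY f l)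
    (h : p ≫ ta f l = ta f k) : pushMem f l ⟶ pushMem f k where
  app G :=
    ⟨{ app := fun U => G.obj.map (memHom f p h U.unop).op
       naturality := fun U V i => by
        change G.obj.map _ ≫ G.obj.map _ = G.obj.map _ ≫ G.obj.map _
        rw [← Functor.map_comp, ← Functor.map_comp]
        rfl }⟩
  naturality G G' φ := by
    apply InducedCategory.hom_ext
    ext U : 2
    exact (φ.hom.naturality _).symm

lemma powDegIso_augApp {ι : Type u} {Y : ι → TopCat.{u}} {a : ∀ i, Y i ⟶ S} {o o' P : Obj a}
    {g : o' ⟶ o} {h : P ⟶ o} {π : Fin 1 → (P ⟶ o')} (hP : IsPow g h π)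
    (F : Sheaf (topology a) AddCommGrpCat.{u}) (x : (freeSh (topology a)).obj (rep o) ⟶ F) :
    (powDegIso hP).hom.app F (augApp (repMap g) F x) = F.obj.map h.op (homEquiv o F x) := by
  refine (powDegIso_apply hP F _).trans ?_
  refine Eq.trans ?_ (homEquiv_precomp h _)
  refine congrArg (homEquiv P F) ?_
  change (freeSh _).map (toNerveOf hP) ≫ aug (repMap g) ≫ x = _
  rw [← Category.assoc]
  refine congrArg (fun m => m ≫ x) ?_
  refine ((freeSh _).map_comp _ _).symm.trans ?_
  exact congrArg (fun m => (freeSh _).map m) (toNerveOf_base hP)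

/-- The augmentation in degree zero. -/
noncomputable def augSheaf : pushMem f none ⟶ SpecSeq.degComp (cxSheaf f) 0 :=
  memNat f (k := some (some 0)) (l := none) (powBase f 0) (Category.comp_id _) ≫
    (cxSheafDegIso f 0).inv

lemma cxSheafDegIso_inv_app (p : ℕ) (G : BigSh f) (U : Opens S) :
    ((cxSheafDegIso f p).inv.app G).hom.app (op U) = (powDegIso (isPow_mem f U p)).inv.app G := rfl

lemma augSheaf_app (G : BigSh f) (U : Opens S) :
    ((augSheaf f).app G).hom.app (op U) =
      G.obj.map (memHom f (k := some (some 0)) (l := none) (powBase f 0) (Category.comp_id _) U).op ≫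
        (powDegIso (isPow_mem f U 0)).inv.app G := rfl

lemma augSheaf_apply (G : BigSh f) (U : Opens S) (x : (freeSh _).obj (rep (memObj f none U)) ⟶ G) :
    ((augSheaf f).app G).hom.app (op U) (homEquiv (memObj f none U) G x) = augApp (srcArr f U) G x := by
  have h := powDegIso_augApp (isPow_mem f U 0) G x
  refine (ConcreteCategory.congr_hom (augSheaf_app f G U) _).trans ?_
  refine (congrArg ((powDegIso (isPow_mem f U 0)).inv.app G) h.symm).trans ?_
  exact ConcreteCategory.congr_hom ((powDegIso (isPow_mem f U 0)).hom_inv_id_app G) (augApp (srcArr f U) G x)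

lemma d_augApp_apply {C : Type u} [SmallCategory C] {J : GrothendieckTopology C}
    {K' K : Sheaf J (Type u)} (g : K' ⟶ K) (F : Sheaf J AddCommGrpCat.{u})
    (x : (freeSh J).obj K ⟶ F) :
    ((nerveCxFunctor g).obj F).d 0 1 (augApp g F x) = 0 := by
  refine (cechNerveCx_d g F 0 _).trans ?_
  refine (Category.assoc _ _ _).symm.trans ?_
  exact (congrArg (fun m => m ≫ x) (Nerve.d_aug g)).trans zero_comp

lemma augSheaf_d (G : BigSh f) : (augSheaf f).app G ≫ ((cxSheaf f).obj G).d 0 1 = 0 := by
  refine InducedCategory.hom_ext (NatTrans.ext (funext fun U => ?_))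
  have h1 : ((augSheaf f).app G).hom.app U ≫ ((nerveCxFunctor (srcArr f U.unop)).obj G).d 0 1 = 0 := by
    refine AddCommGrpCat.hom_ext (AddMonoidHom.ext fun t => ?_)
    obtain ⟨x, rfl⟩ := (homEquiv (memObj f none U.unop) G).surjective t
    rw [AddCommGrpCat.hom_zero, AddMonoidHom.zero_apply, AddCommGrpCat.hom_comp, AddMonoidHom.comp_apply]
    refine (congrArg (((nerveCxFunctor (srcArr f U.unop)).obj G).d 0 1) (augSheaf_apply f G U.unop x)).trans ?_
    exact d_augApp_apply (srcArr f U.unop) G x
  exact h1

/-- The augmentation to the cocycles. -/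
noncomputable def augCyc : pushMem f none ⟶ SpecSeq.cycComp (cxSheaf f) 0 :=
  SpecSeq.toCyc (cxSheaf f) (augSheaf f) (augSheaf_d f)

lemma augCyc_iCycles (G : BigSh f) :
    (augCyc f).app G ≫ ((cxSheaf f).obj G).iCycles 0 = (augSheaf f).app G :=
  SpecSeq.toCyc_iCycles (cxSheaf f) (augSheaf f) (augSheaf_d f) G

/-- For injective coefficients the augmentation is surjective on sections. -/
lemma surjective_augCyc (Q : BigSh f) [Injective Q] (U : Opens S) :
    Function.Surjective (((augCyc f).app Q).hom.app (op U)) := by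
  intro z
  let C := (cxSheaf f).obj Q
  let y : (freeCx (srcArr f U)).X 0 ⟶ Q := (C.iCycles 0).hom.app (op U) z
  have hy : (freeCx (srcArr f U)).d 1 0 ≫ y = 0 := by
    refine (cechNerveCx_d (srcArr f U) Q 0 y).symm.trans ?_
    exact ConcreteCategory.congr_hom
      (NatTrans.congr_app (congrArg InducedCategory.Hom.hom (C.iCycles_d 0 1)) (op U)) z
  refine ⟨homEquiv (memObj f none U) Q ((Nerve.exact_zero (srcArr f U)).descToInjective y hy), ?_⟩
  have hm : Function.Injective ((C.iCycles 0).hom.app (op U)) := by
    have h₁ : Mono ((sectionsAt (Opens.grothendieckTopology S) U).map (C.iCycles 0)) := inferInstance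
    exact (AddCommGrpCat.mono_iff_injective _).1 h₁
  refine hm ?_
  refine (ConcreteCategory.congr_hom
    (NatTrans.congr_app (congrArg InducedCategory.Hom.hom (augCyc_iCycles f Q)) (op U)) _).trans ?_
  refine (augSheaf_apply f Q U _).trans ?_
  exact (Nerve.exact_zero (srcArr f U)).comp_descToInjective y hy

/-- The augmentation as a natural transformation. -/
noncomputable def augNat {C : Type u} [SmallCategory C] {J : GrothendieckTopology C}
    {K' K : Sheaf J (Type u)} (g : K' ⟶ K) :
    SpecSeq.homFrom ((freeSh J).obj K) ⟶ SpecSeq.degComp (nerveCxFunctor g) 0 where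
  app F := augApp g F
  naturality F G φ := by
    ext x
    exact (Category.assoc (aug g) (x : (freeSh J).obj K ⟶ F) φ).symm

lemma augNat_d {C : Type u} [SmallCategory C] {J : GrothendieckTopology C}
    {K' K : Sheaf J (Type u)} (g : K' ⟶ K) {P : Sheaf J AddCommGrpCat.{u} ⥤ AddCommGrpCat.{u}}
    (e : P ⟶ SpecSeq.homFrom ((freeSh J).obj K)) (F : Sheaf J AddCommGrpCat.{u}) :
    (e ≫ augNat g).app F ≫ ((nerveCxFunctor g).obj F).d 0 1 = 0 :=
  (Category.assoc _ _ _).trans ((congrArg (fun m => e.app F ≫ m) (augApp_d g F)).trans comp_zero)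

lemma isIso_toCyc_augNat {C : Type u} [SmallCategory C] {J : GrothendieckTopology C}
    {K' K : Sheaf J (Type u)} (g : K' ⟶ K) [Epi g]
    {P : Sheaf J AddCommGrpCat.{u} ⥤ AddCommGrpCat.{u}}
    (e : P ≅ SpecSeq.homFrom ((freeSh J).obj K)) (F : Sheaf J AddCommGrpCat.{u}) :
    IsIso ((SpecSeq.toCyc (nerveCxFunctor g) (e.hom ≫ augNat g) (augNat_d g e.hom)).app F) := by
  have := isIso_liftCycles_augApp g F
  have h : (SpecSeq.toCyc (nerveCxFunctor g) (e.hom ≫ augNat g) (augNat_d g e.hom)).app F =
      e.hom.app F ≫ ((nerveCxFunctor g).obj F).liftCycles (augApp g F) 1 (by simp) (augApp_d g F) := by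
    refine (cancel_mono (((nerveCxFunctor g).obj F).iCycles 0)).1 ?_
    refine (SpecSeq.toCyc_iCycles _ _ _ F).trans (Eq.trans ?_ (Category.assoc _ _ _).symm)
    exact congrArg (fun m => e.hom.app F ≫ m)
      (HomologicalComplex.liftCycles_i ((nerveCxFunctor g).obj F) (augApp g F) 1 (by simp) (augApp_d g F)).symm
  rw [h]
  exact IsIso.comp_isIso' (e.app F).isIso_hom this

/-- The augmentation over a fibre. -/
noncomputable def augFib (s : S) :
    sectionsAt (J (pY f) (pa f)) (fibObj f s none) ⟶
      SpecSeq.cycComp (nerveCxFunctor (repMap (srcFib f s))) 0 :=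
  SpecSeq.toCyc _ ((homFromRepIso (fibObj f s none)).symm.hom ≫ augNat (repMap (srcFib f s)))
    (augNat_d _ _)

lemma isIso_augFib (hsurj : Function.Surjective f) (s : S) (G : BigSh f) :
    IsIso ((augFib f s).app G) := by
  have := epi_srcFib (f := f) hsurj s
  exact isIso_toCyc_augNat (repMap (srcFib f s)) (homFromRepIso (fibObj f s none)).symm G

lemma augSheaf_tau (s : S) (G : BigSh f) :
    (stalkSh s).map ((augSheaf f).app G) ≫ ((tau f s).app G).f 0 =
      (rho f s none).app G ≫
        ((homFromRepIso (fibObj f s none)).symm.hom ≫ augNat (repMap (srcFib f s))).app G := by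
  refine TopCat.Presheaf.stalk_hom_ext _ fun U hU => ?_
  refine AddCommGrpCat.hom_ext (AddMonoidHom.ext fun t => ?_)
  obtain ⟨x, rfl⟩ := (homEquiv (memObj f none U) G).surjective t
  change tauF f s G 0 ((TopCat.Presheaf.stalkFunctor AddCommGrpCat.{u} s).map ((augSheaf f).app G).hom
      (TopCat.Presheaf.germ ((pushMem f none).obj G).obj U s hU (homEquiv (memObj f none U) G x))) =
    augApp (repMap (srcFib f s)) G ((homFromRepIso (fibObj f s none)).inv.app G
      ((rho f s none).app G (TopCat.Presheaf.germ ((pushMem f none).obj G).obj U s hU (homEquiv (memObj f none U) G x))))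
  refine (congrArg (tauF f s G 0) (TopCat.Presheaf.stalkFunctor_map_germ_apply
    (F := ((pushMem f none).obj G).obj) (G := preX f G 0) U s hU _ _)).trans ?_
  refine (congrArg (fun y => tauF f s G 0 (TopCat.Presheaf.germ (preX f G 0) U s hU y))
    (augSheaf_apply f G U x)).trans ?_
  refine (tauF_germ f s G 0 hU _).trans ?_
  refine Eq.trans ?_ (congrArg (fun y => augApp (repMap (srcFib f s)) G
    ((homFromRepIso (fibObj f s none)).inv.app G y)) (rho_germ f s none G hU _)).symm
  have hx : (homFromRepIso (fibObj f s none)).inv.app G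
      (G.obj.map (fibToMem f none hU).op (homEquiv (memObj f none U) G x)) =
        (freeSh _).map (repMap (fibToMem f none hU)) ≫ x := by
    refine (homEquiv (fibObj f s none) G).symm_apply_eq.2 ?_
    exact (homEquiv_precomp (fibToMem f none hU) x).symm
  refine Eq.trans ?_ (congrArg (augApp (repMap (srcFib f s)) G) hx).symm
  change freeNerveMap (srcArr f U) (fibMor f hU) 0 ≫ aug (srcArr f U) ≫ x =
    aug (repMap (srcFib f s)) ≫ (freeSh _).map (repMap (fibToMem f none hU)) ≫ x
  rw [← Category.assoc, ← Category.assoc]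
  refine congrArg (fun m => m ≫ x) ?_
  refine (((freeSh _).map_comp _ _).symm.trans ?_).trans ((freeSh _).map_comp _ _)
  exact congrArg (fun m => (freeSh _).map m) (WidePullback.lift_base _ _ _ _)

/-- The augmentation is compatible with the restriction to the fibres. -/
lemma augCyc_stalk (s : S) (G : BigSh f) :
    (stalkSh s).map ((augCyc f).app G) ≫ (SpecSeq.cycLift (cxSheaf f) (stalkSh s) 0).app G ≫
        (SpecSeq.cycMap (tau f s) 0).app G =
      (rho f s none).app G ≫ (augFib f s).app G :=
  SpecSeq.toCyc_cycMap (cxSheaf f) (stalkSh s) (augSheaf f) (augSheaf_d f) (tau f s) _ _ G _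
    (augSheaf_tau f s G)

end Groth.Agent.SiteCoh.PFam
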