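import Groth.Agent.SiteCoh.ProperBaseChange
import Groth.Agent.SiteCoh.FamilyNerve

/-!
# The family of fibre powers of a proper map and of their fibres
-/

set_option autoImplicit false

universe u

open CategoryTheory CategoryTheory.Limits Opposite TopologicalSpace
open scoped Simplicial

namespace Groth.Agent.SiteCoh.PFam

open Fam LH

variable {X S : TopCat.{u}} (f : X ⟶ S)

/-- Proper with points of a fibre having disjoint neighbourhoods. -/
structure IsProperSep {A B : TopCat.{u}} (g : A ⟶ B) : Prop where
  proper : IsProperMap g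
  sep : ∀ x x' : A, g x = g x' → x ≠ x' →
    ∃ U V : Set A, IsOpen U ∧ IsOpen V ∧ x ∈ U ∧ x' ∈ V ∧ Disjoint U V

lemma isInducing_powProj (n : ℕ) :
    Topology.IsInducing fun x : (widePullback S (fun _ : Fin (n + 1) => X) (fun _ => f) : TopCat.{u}) =>
      fun i => WidePullback.π (fun _ : Fin (n + 1) => f) i x := by
  refine ⟨le_antisymm ?_ ?_⟩
  · exact continuous_iff_le_induced.1
      (continuous_pi fun i => (WidePullback.π (fun _ : Fin (n + 1) => f) i).hom.continuous)
  · refine le_trans ?_ (TopCat.limit_topology _).ge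
    refine le_iInf fun j => ?_
    have h : ∀ i : Fin (n + 1), TopologicalSpace.induced
        (fun x : (widePullback S (fun _ : Fin (n + 1) => X) (fun _ => f) : TopCat.{u}) =>
          fun i => WidePullback.π (fun _ : Fin (n + 1) => f) i x) Pi.topologicalSpace ≤
        TopologicalSpace.induced (WidePullback.π (fun _ : Fin (n + 1) => f) i) X.str := fun i => by
      refine le_trans (induced_mono (iInf_le _ i)) (le_of_eq ?_)
      exact induced_compose
    rcases j with _ | i
    · refine le_trans (h 0) (le_trans (induced_mono f.hom.continuous.le_induced) (le_of_eq ?_))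
      refine induced_compose.trans (congrArg (fun m => TopologicalSpace.induced m S.str) ?_)
      exact funext fun x => app_pow f n 0 x
    · exact h i

variable {f}

lemma isProperSep_powBase (hf : IsProperSep f) (n : ℕ) : IsProperSep (powBase f n) := by
  refine ⟨isProperMap_iff_ultrafilter.2 ⟨(powBase f n).hom.continuous, fun 𝒰 s h => ?_⟩,
    fun x x' he hne => ?_⟩
  · have hi : ∀ i, ∃ x, f x = s ∧
        (Ultrafilter.map (WidePullback.π (fun _ : Fin (n + 1) => f) i) 𝒰 : Filter X) ≤ nhds x := fun i =>
      hf.proper.ultrafilter_le_nhds_of_tendsto (by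
        rw [Ultrafilter.coe_map, Filter.tendsto_map'_iff]
        exact h.congr fun x => (app_pow f n i x).symm)
    choose xs hxs hlim using hi
    let P : TopCat.{u} := TopCat.of PUnit.{u + 1}
    let l : P ⟶ widePullback S (fun _ : Fin (n + 1) => X) (fun _ => f) :=
      WidePullback.lift (TopCat.ofHom ⟨fun _ => s, continuous_const⟩)
        (fun i => TopCat.ofHom ⟨fun _ => xs i, continuous_const⟩) fun i => by ext; exact hxs i
    refine ⟨l PUnit.unit, ?_, ?_⟩
    · exact ConcreteCategory.congr_hom
        (WidePullback.lift_base (fun _ : Fin (n + 1) => f) (TopCat.ofHom ⟨fun _ : P => s, continuous_const⟩) _ _) PUnit.unit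
    · rw [(isInducing_powProj f n).nhds_eq_comap, ← Filter.map_le_iff_le_comap]
      refine tendsto_pi_nhds.2 fun i => ?_
      have e : WidePullback.π (fun _ : Fin (n + 1) => f) i (l PUnit.unit) = xs i :=
        ConcreteCategory.congr_hom (WidePullback.lift_π (fun _ : Fin (n + 1) => f)
          (TopCat.ofHom ⟨fun _ : P => s, continuous_const⟩) _ _ i) PUnit.unit
      rw [e]
      exact hlim i
  · obtain ⟨i, hi⟩ : ∃ i, WidePullback.π (fun _ : Fin (n + 1) => f) i x ≠
        WidePullback.π (fun _ : Fin (n + 1) => f) i x' := by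
      by_contra h
      exact hne (pow_ext fun i => not_not.1 fun hi => h ⟨i, hi⟩)
    obtain ⟨U, V, hU, hV, hx, hx', hUV⟩ := hf.sep _ _
      ((app_pow f n i x).trans (he.trans (app_pow f n i x').symm)) hi
    exact ⟨_, _, hU.preimage (WidePullback.π (fun _ : Fin (n + 1) => f) i).hom.continuous,
      hV.preimage (WidePullback.π (fun _ : Fin (n + 1) => f) i).hom.continuous, hx, hx',
      hUV.preimage _⟩

lemma isProperSep_id : IsProperSep (𝟙 S) :=
  ⟨isProperMap_id, fun _ _ he hne => absurd he hne⟩

variable (f)

/-- The spaces of the descent situation. -/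
@[reducible]
noncomputable def tY (k : Option (Option ℕ)) : TopCat.{u} :=
  match k with
  | none => S
  | some none => X
  | some (some n) => widePullback S (fun _ : Fin (n + 1) => X) (fun _ => f)

/-- Their maps to the base. -/
@[reducible]
noncomputable def ta (k : Option (Option ℕ)) : tY f k ⟶ S :=
  match k with
  | none => 𝟙 S
  | some none => f
  | some (some n) => powBase f n

variable {f} in
lemma isProperSep_ta (hf : IsProperSep f) (k : Option (Option ℕ)) : IsProperSep (ta f k) :=
  match k with
  | none => isProperSep_id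
  | some none => hf
  | some (some n) => isProperSep_powBase hf n

/-- The indices: the spaces and their fibres. -/
abbrev PIdx (S : TopCat.{u}) : Type u := ULift.{u} (Option (Option ℕ)) ⊕ (S × Option (Option ℕ))

/-- The spaces of the family. -/
@[reducible]
noncomputable def pY (i : PIdx S) : TopCat.{u} :=
  match i with
  | Sum.inl k => tY f k.down
  | Sum.inr p => TopCat.of (ta f p.2 ⁻¹' {p.1})

/-- The inclusion of a fibre. -/
noncomputable abbrev inc (s : S) (k : Option (Option ℕ)) :
    TopCat.of (ta f k ⁻¹' {s}) ⟶ tY f k :=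
  Compact.fibIncl (ta f k) s

/-- The maps of the family. -/
@[reducible]
noncomputable def pa (i : PIdx S) : pY f i ⟶ S :=
  match i with
  | Sum.inl k => ta f k.down
  | Sum.inr p => inc f p.1 p.2 ≫ ta f p.2

/-- The index of a space. -/
abbrev mem (k : Option (Option ℕ)) : Option (PIdx S) := some (Sum.inl ⟨k⟩)

/-- The index of a fibre. -/
abbrev fib (s : S) (k : Option (Option ℕ)) : Option (PIdx S) := some (Sum.inr (s, k))

/-- The part of a space over an open of the base. -/
noncomputable abbrev memObj (k : Option (Option ℕ)) (U : Opens S) : Site (pY f) (pa f) :=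
  ⟨mem k, (Opens.map (ta f k)).obj U⟩

/-- A fibre. -/
noncomputable abbrev fibObj (s : S) (k : Option (Option ℕ)) : Site (pY f) (pa f) :=
  top (withBaseMap (pY f) (pa f)) (fib s k)

variable {k l : Option (Option ℕ)}

lemma app_mem_fib {s : S} (z : TopCat.of (ta f k ⁻¹' {s})) : ta f k z.1 = s := z.2

lemma app_hom_mem {p : tY f k ⟶ tY f l} (h : p ≫ ta f l = ta f k) {U : Opens S} {x : tY f k}
    (hx : ta f k x ∈ U) : ta f l (p x) ∈ U := by
  rw [show ta f l (p x) = ta f k x from ConcreteCategory.congr_hom h x]
  exact hx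

lemma fib_mem' {s : S} {U : Opens S} (hs : s ∈ U) (z : TopCat.of (ta f k ⁻¹' {s})) :
    ta f k z.1 ∈ U := by
  rw [app_mem_fib f z]
  exact hs

/-- Morphisms of spaces over an open. -/
noncomputable def memHom (p : tY f k ⟶ tY f l) (h : p ≫ ta f l = ta f k) (U : Opens S) :
    memObj f k U ⟶ memObj f l U :=
  ⟨⟨fun x => ⟨p x.1, app_hom_mem f h x.2⟩,
      Continuous.subtype_mk (p.hom.continuous.comp continuous_subtype_val) _⟩,
    fun x => ConcreteCategory.congr_hom h x.1⟩

/-- Restriction to a smaller open. -/
noncomputable def memRes (k : Option (Option ℕ)) {V U : Opens S} (i : V ⟶ U) :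
    memObj f k V ⟶ memObj f k U :=
  (inObj (withBaseMap (pY f) (pa f)) (mem k)).map ((Opens.map (ta f k)).map i)

/-- Morphisms of fibres. -/
noncomputable def fibHom (s : S) (p : tY f k ⟶ tY f l) (h : p ≫ ta f l = ta f k) :
    fibObj f s k ⟶ fibObj f s l :=
  ⟨⟨fun x => ⟨⟨p x.1.1,
      (ConcreteCategory.congr_hom h x.1.1).trans x.1.2⟩, trivial⟩,
    Continuous.subtype_mk (Continuous.subtype_mk (p.hom.continuous.comp
      (continuous_subtype_val.comp continuous_subtype_val)) _) _⟩,
    fun x => ConcreteCategory.congr_hom h x.1.1⟩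

/-- A fibre in the part of the space over an open. -/
noncomputable def fibToMem (k : Option (Option ℕ)) {s : S} {U : Opens S} (hs : s ∈ U) :
    fibObj f s k ⟶ memObj f k U :=
  ⟨⟨fun x => ⟨x.1.1, fib_mem' f hs x.1⟩, Continuous.subtype_mk (continuous_subtype_val.comp continuous_subtype_val) _⟩,
    fun _ => rfl⟩

/-- The structure morphism over an open. -/
noncomputable abbrev srcHom (U : Opens S) : memObj f (some none) U ⟶ memObj f none U :=
  memHom f (k := some none) (l := none) f (Category.comp_id f) U

/-- The structure morphism of a fibre. -/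
noncomputable abbrev srcFib (s : S) : fibObj f s (some none) ⟶ fibObj f s none :=
  fibHom f (k := some none) (l := none) s f (Category.comp_id f)

/-- The projections over an open. -/
noncomputable abbrev projMem (U : Opens S) (n : ℕ) (i : Fin (n + 1)) :
    memObj f (some (some n)) U ⟶ memObj f (some none) U :=
  memHom f (k := some (some n)) (l := some none) (WidePullback.π (fun _ : Fin (n + 1) => f) i)
    (WidePullback.π_arrow (fun _ : Fin (n + 1) => f) i) U

/-- The projections of fibres. -/
noncomputable abbrev projFib (s : S) (n : ℕ) (i : Fin (n + 1)) :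
    fibObj f s (some (some n)) ⟶ fibObj f s (some none) :=
  fibHom f (k := some (some n)) (l := some none) s (WidePullback.π (fun _ : Fin (n + 1) => f) i)
    (WidePullback.π_arrow (fun _ : Fin (n + 1) => f) i)

/-- The point of a fibre power attached to a tuple. -/
noncomputable def liftPow {o : Site (pY f) (pa f)} {n : ℕ} (c : Fin (n + 1) → C(o.opn, X))
    (hc : ∀ i x, f (c i x) = withBaseMap (pY f) (pa f) o.idx x.1) :
    TopCat.of o.opn ⟶ tY f (some (some n)) :=
  WidePullback.lift (TopCat.ofHom ⟨fun x => withBaseMap (pY f) (pa f) o.idx x.1,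
      (withBaseMap (pY f) (pa f) o.idx).hom.continuous.comp continuous_subtype_val⟩)
    (fun i => TopCat.ofHom (c i)) fun i => by ext x; exact hc i x

lemma liftPow_base {o : Site (pY f) (pa f)} {n : ℕ} (c : Fin (n + 1) → C(o.opn, X))
    (hc : ∀ i x, f (c i x) = withBaseMap (pY f) (pa f) o.idx x.1) (x : o.opn) :
    ta f (some (some n)) (liftPow f c hc x) = withBaseMap (pY f) (pa f) o.idx x.1 :=
  ConcreteCategory.congr_hom (WidePullback.lift_base (fun _ : Fin (n + 1) => f)
    (TopCat.ofHom ⟨fun x : o.opn => withBaseMap (pY f) (pa f) o.idx x.1,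
      (withBaseMap (pY f) (pa f) o.idx).hom.continuous.comp continuous_subtype_val⟩)
    (fun i => TopCat.ofHom (c i)) fun i => by ext x; exact hc i x) x

lemma liftPow_π {o : Site (pY f) (pa f)} {n : ℕ} (c : Fin (n + 1) → C(o.opn, X))
    (hc : ∀ i x, f (c i x) = withBaseMap (pY f) (pa f) o.idx x.1) (i : Fin (n + 1)) (x : o.opn) :
    WidePullback.π (fun _ : Fin (n + 1) => f) i (liftPow f c hc x) = c i x :=
  ConcreteCategory.congr_hom (WidePullback.lift_π (fun _ : Fin (n + 1) => f)
    (TopCat.ofHom ⟨fun x : o.opn => withBaseMap (pY f) (pa f) o.idx x.1,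
      (withBaseMap (pY f) (pa f) o.idx).hom.continuous.comp continuous_subtype_val⟩)
    (fun i => TopCat.ofHom (c i)) (fun i => by ext x; exact hc i x) i) x

lemma isPow_mem (U : Opens S) (n : ℕ) :
    IsPow (srcHom f U) (memHom f (k := some (some n)) (l := none) (powBase f n) (Category.comp_id _) U)
      (projMem f U n) where
  w i := hom_ext fun x => Subtype.ext (app_pow f n i x.1)
  ext l l' e := hom_ext fun x => Subtype.ext (pow_ext fun i =>
    congrArg (fun m : _ ⟶ memObj f (some none) U => (m.1 x).1) (e i))
  lift {V} c _ := by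
    have hx : ∀ x : V.opn, withBaseMap (pY f) (pa f) V.idx x.1 ∈ U := fun x =>
      (show f ((c 0).1 x).1 = _ from (c 0).2 x) ▸ ((c 0).1 x).2
    let d : Fin (n + 1) → C(V.opn, X) := fun i =>
      ⟨fun x => ((c i).1 x).1, continuous_subtype_val.comp (c i).1.continuous⟩
    have hd : ∀ i x, f (d i x) = withBaseMap (pY f) (pa f) V.idx x.1 := fun i x => (c i).2 x
    have hmem : ∀ x, ta f (some (some n)) (liftPow f d hd x) ∈ U := fun x => by
      rw [liftPow_base]
      exact hx x
    let l : V ⟶ memObj f (some (some n)) U :=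
      ⟨⟨fun x => ⟨liftPow f d hd x, hmem x⟩,
        Continuous.subtype_mk (liftPow f d hd).hom.continuous hmem⟩, fun x => liftPow_base f d hd x⟩
    exact ⟨l, fun i => hom_ext fun x => Subtype.ext (liftPow_π f d hd i x)⟩

lemma isPow_fib (s : S) (n : ℕ) :
    IsPow (srcFib f s) (fibHom f (k := some (some n)) (l := none) s (powBase f n) (Category.comp_id _))
      (projFib f s n) where
  w i := hom_ext fun x => Subtype.ext (Subtype.ext (app_pow f n i x.1.1))
  ext l l' e := hom_ext fun x => Subtype.ext (Subtype.ext (pow_ext fun i =>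
    congrArg (fun m : _ ⟶ fibObj f s (some none) => (m.1 x).1.1) (e i)))
  lift {V} c _ := by
    let d : Fin (n + 1) → C(V.opn, X) := fun i =>
      ⟨fun x => ((c i).1 x).1.1, continuous_subtype_val.comp (continuous_subtype_val.comp (c i).1.continuous)⟩
    have hd : ∀ i x, f (d i x) = withBaseMap (pY f) (pa f) V.idx x.1 := fun i x => (c i).2 x
    have hmem : ∀ x, ta f (some (some n)) (liftPow f d hd x) = s := fun x =>
      ((liftPow_base f d hd x).trans (hd 0 x).symm).trans ((c 0).1 x).1.2
    let l : V ⟶ fibObj f s (some (some n)) :=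
      ⟨⟨fun x => ⟨⟨liftPow f d hd x, hmem x⟩, trivial⟩,
        Continuous.subtype_mk (Continuous.subtype_mk (liftPow f d hd).hom.continuous hmem) _⟩,
        fun x => liftPow_base f d hd x⟩
    exact ⟨l, fun i => hom_ext fun x => Subtype.ext (Subtype.ext (liftPow_π f d hd i x))⟩

variable {f} in
lemma epi_srcFib (hsurj : Function.Surjective f) (s : S) : Epi (repMap (srcFib f s)) := by
  obtain ⟨x, hx⟩ := hsurj s
  let σ : fibObj f s none ⟶ fibObj f s (some none) :=
    ⟨⟨fun _ => ⟨⟨x, hx⟩, trivial⟩, continuous_const⟩, fun z => hx.trans z.1.2.symm⟩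
  have h : repMap σ ≫ repMap (srcFib f s) = 𝟙 _ := by
    rw [← repMap_comp, show σ ≫ srcFib f s = 𝟙 _ from hom_ext fun z =>
      Subtype.ext (Subtype.ext (hx.trans z.1.2.symm))]
    ext V w
    exact Category.comp_id (show V.unop ⟶ fibObj f s none from w)
  have : IsSplitEpi (repMap (srcFib f s)) := IsSplitEpi.mk' ⟨repMap σ, h⟩
  infer_instance

end Groth.Agent.SiteCoh.PFam
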