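import Groth.Agent.SiteCoh.Space
import Groth.Agent.SiteCoh.Leray
import Mathlib.CategoryTheory.Sites.CoverLifting
import Mathlib.CategoryTheory.Sites.CoverPreserving
import Mathlib.Topology.ContinuousMap.Basic

/-!
# The site of the open subspaces of a family of spaces over a base

Let `a i : Y i → S` be a family of continuous maps.  The objects of the site `Obj a` are the open
subspaces of the `Y i`, the morphisms are the continuous maps over `S` and the coverings are the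
open coverings.  The restriction to the site of opens of a `Y i` is exact and sends injective
sheaves to flasque sheaves.
-/

set_option autoImplicit false

universe u

open CategoryTheory CategoryTheory.Limits Opposite TopologicalSpace

namespace Groth.Agent.SiteCoh.Fam

variable {S : TopCat.{u}} {ι : Type u} {Y : ι → TopCat.{u}}

/-- An open subspace of a member of the family. -/
@[ext]
structure Obj (a : ∀ i, Y i ⟶ S) : Type u where
  /-- the index -/
  idx : ι
  /-- the open subset -/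
  opn : Opens (Y idx)

variable {a : ∀ i, Y i ⟶ S}

instance : Category.{u} (Obj a) where
  Hom o o' := {g : C(o.opn, o'.opn) // ∀ x, a o'.idx (g x).1 = a o.idx x.1}
  id o := ⟨ContinuousMap.id _, fun _ => rfl⟩
  comp f g := ⟨g.1.comp f.1, fun x => (g.2 (f.1 x)).trans (f.2 x)⟩

@[ext]
lemma hom_ext {o o' : Obj a} {f g : o ⟶ o'} (h : ∀ x, f.1 x = g.1 x) : f = g :=
  Subtype.ext (ContinuousMap.ext h)

lemma comp_apply {o o' o'' : Obj a} (f : o ⟶ o') (g : o' ⟶ o'') (x : o.opn) :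
    (f ≫ g).1 x = g.1 (f.1 x) := rfl

/-- The inclusion of a smaller open. -/
def incl {i : ι} {V W : Opens (Y i)} (h : V ≤ W) : (⟨i, V⟩ : Obj a) ⟶ ⟨i, W⟩ :=
  ⟨⟨Set.inclusion h, continuous_inclusion h⟩, fun _ => rfl⟩

variable (a) in
/-- The topology of open coverings. -/
def topology : GrothendieckTopology (Obj a) where
  sieves o := {R | ∀ w : o.opn, ∃ (V : Opens (Y o.idx)) (h : V ≤ o.opn), w.1 ∈ V ∧
    R.arrows (incl h : (⟨o.idx, V⟩ : Obj a) ⟶ o)}
  top_mem' o w := ⟨o.opn, le_rfl, w.2, trivial⟩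
  pullback_stable' o o' R f hR w := by
    obtain ⟨V, h, hw, hV⟩ := hR (f.1 w)
    obtain ⟨U, hU, hUV⟩ : ∃ U : Set (Y o'.idx), IsOpen U ∧
        Subtype.val ⁻¹' U = (fun x : o'.opn => (f.1 x).1) ⁻¹' (V : Set (Y o.idx)) :=
      isOpen_induced_iff.1 (V.2.preimage (continuous_subtype_val.comp f.1.continuous))
    let V' : Opens (Y o'.idx) := ⟨U, hU⟩ ⊓ o'.opn
    refine ⟨V', inf_le_right, ⟨(Set.ext_iff.1 hUV w).2 hw, w.2⟩, ?_⟩
    let g : (⟨o'.idx, V'⟩ : Obj a) ⟶ ⟨o.idx, V⟩ :=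
      ⟨⟨fun x => ⟨(f.1 ⟨x.1, x.2.2⟩).1, (Set.ext_iff.1 hUV ⟨x.1, x.2.2⟩).1 x.2.1⟩,
        Continuous.subtype_mk (continuous_subtype_val.comp
          (f.1.continuous.comp (continuous_inclusion inf_le_right))) _⟩,
        fun x => f.2 ⟨x.1, x.2.2⟩⟩
    change R.arrows (incl inf_le_right ≫ f)
    have heq : (incl inf_le_right : (⟨o'.idx, V'⟩ : Obj a) ⟶ o') ≫ f = g ≫ incl h := rfl
    rw [heq]
    exact R.downward_closed hV g
  transitive' o R hR R' h' w := by
    obtain ⟨V, h, hw, hV⟩ := hR w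
    obtain ⟨V', hle, hw', hV'⟩ := h' hV ⟨w.1, hw⟩
    exact ⟨V', hle.trans h, hw', hV'⟩

lemma mem_topology {o : Obj a} {R : Sieve o} :
    R ∈ topology a o ↔ ∀ w : o.opn, ∃ (V : Opens (Y o.idx)) (h : V ≤ o.opn), w.1 ∈ V ∧
      R.arrows (incl h : (⟨o.idx, V⟩ : Obj a) ⟶ o) :=
  Iff.rfl

variable (a) in
/-- The opens of a member of the family. -/
def inObj (i : ι) : Opens (Y i) ⥤ Obj a where
  obj V := ⟨i, V⟩
  map h := incl h.le

variable (i : ι)

instance isCocontinuous_inObj :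
    (inObj a i).IsCocontinuous (Opens.grothendieckTopology (Y i)) (topology a) where
  cover_lift {U R} hR x hx := by
    obtain ⟨V, h, hw, hV⟩ := hR ⟨x, hx⟩
    exact ⟨V, homOfLE h, hV, hw⟩

instance isContinuous_inObj :
    (inObj a i).IsContinuous (Opens.grothendieckTopology (Y i)) (topology a) := by
  refine Functor.isContinuous_of_coverPreserving ⟨?_⟩ ⟨fun {U} R hR w => ?_⟩
  · intro F Z T x hx Y₁ Y₂ X f₁ f₂ g₁ g₂ hg₁ hg₂ heq
    have hval : ∀ z, (f₁.1 z).1 = (f₂.1 z).1 := fun z =>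
      congrArg (fun m : X ⟶ (inObj a i).obj Z => (m.1 z).1) heq
    let f : X ⟶ (inObj a i).obj (Y₁ ⊓ Y₂) :=
      ⟨⟨fun z => ⟨(f₁.1 z).1, (f₁.1 z).2, by rw [hval]; exact (f₂.1 z).2⟩,
        Continuous.subtype_mk (continuous_subtype_val.comp f₁.1.continuous) _⟩, f₁.2⟩
    have h₁ : f ≫ (inObj a i).map (Opens.infLELeft Y₁ Y₂) = f₁ := rfl
    have h₂ : f ≫ (inObj a i).map (Opens.infLERight Y₁ Y₂) = f₂ :=
      hom_ext fun z => Subtype.ext (hval z)
    rw [← h₁, ← h₂, op_comp, op_comp, Functor.map_comp, Functor.map_comp]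
    exact congrArg (F.obj.map f.op) (hx (Opens.infLELeft _ _) (Opens.infLERight _ _) hg₁ hg₂ rfl)
  · obtain ⟨V, g, hV, hw⟩ := hR w.1 w.2
    exact ⟨V, g.le, hw, V, g, 𝟙 _, hV, rfl⟩

/-- Restriction to a member of the family. -/
noncomputable abbrev restr (a : ∀ i, Y i ⟶ S) (i : ι) :
    Sheaf (topology a) AddCommGrpCat.{u} ⥤ CohTop.Ab (Y i) :=
  CohSite.push (topology a) (Opens.grothendieckTopology (Y i)) (inObj a i)

instance restr_preservesFiniteColimits : PreservesFiniteColimits (restr a i) :=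
  have : (restr a i).IsLeftAdjoint :=
    ((inObj a i).sheafAdjunctionCocontinuous AddCommGrpCat.{u}
      (Opens.grothendieckTopology (Y i)) (topology a)).isLeftAdjoint
  ⟨fun _ _ _ => inferInstance⟩

instance mono_inObj_map {V W : Opens (Y i)} (h : V ⟶ W) : Mono ((inObj a i).map h) :=
  ⟨fun _ _ e => hom_ext fun x => Subtype.ext
    (congrArg (fun m : _ ⟶ (inObj a i).obj W => (m.1 x).1) e)⟩

/-- The restriction of an injective sheaf is flasque. -/
lemma isFlasque_restr (I : Sheaf (topology a) AddCommGrpCat.{u}) [Injective I] :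
    TopCat.Sheaf.IsFlasque ((restr a i).obj I) where
  epi {V W} j := by
    rw [AddCommGrpCat.epi_iff_surjective]
    exact surjective_map_of_injective I ((inObj a i).map j.unop)

/-- Representable presheaves are sheaves. -/
lemma isSheaf_yoneda (o : Obj a) : Presheaf.IsSheaf (topology a) (yoneda.obj o) := by
  rw [isSheaf_iff_isSheaf_of_type]
  intro o' R hR x hx
  choose V hV hw hR' using fun w => mem_topology.1 hR w
  let pc : ∀ w : o'.opn, (⟨o'.idx, V w⟩ : Obj a) ⟶ o := fun w => x (incl (hV w)) (hR' w)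
  have hagree : ∀ (w : o'.opn) (y : o'.opn) (hy : y.1 ∈ V w),
      (pc w).1 ⟨y.1, hy⟩ = (pc y).1 ⟨y.1, hw y⟩ := fun w y hy => by
    let g₁ : (⟨o'.idx, V w ⊓ V y⟩ : Obj a) ⟶ ⟨o'.idx, V w⟩ := incl inf_le_left
    let g₂ : (⟨o'.idx, V w ⊓ V y⟩ : Obj a) ⟶ ⟨o'.idx, V y⟩ := incl inf_le_right
    have h : g₁ ≫ pc w = g₂ ≫ pc y := hx g₁ g₂ (hR' w) (hR' y) rfl
    exact congrArg (fun m : (⟨o'.idx, V w ⊓ V y⟩ : Obj a) ⟶ o => m.1 ⟨y.1, hy, hw y⟩) h
  let t : o' ⟶ o := ⟨⟨fun y => (pc y).1 ⟨y.1, hw y⟩, continuous_iff_continuousAt.2 fun w => by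
    have hopen : IsOpen {y : o'.opn | y.1 ∈ V w} := (V w).2.preimage continuous_subtype_val
    refine ContinuousOn.continuousAt ?_ (hopen.mem_nhds (hw w))
    rw [continuousOn_iff_continuous_domRestrict]
    refine Continuous.congr ((pc w).1.continuous.comp
      (Continuous.subtype_mk (continuous_subtype_val.comp continuous_subtype_val) fun y => y.2))
      fun y => ?_
    exact hagree w y.1 y.2⟩, fun y => (pc y).2 ⟨y.1, hw y⟩⟩
  refine ⟨t, fun o'' g hg => ?_, fun t' ht' => hom_ext fun y => ?_⟩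
  · refine hom_ext fun z => ?_
    let w := g.1 z
    let W : Opens (Y o''.idx) := ⟨{q | ∃ hq : q ∈ o''.opn, (g.1 ⟨q, hq⟩).1 ∈ V w}, by
      obtain ⟨U, hU, hUV⟩ := isOpen_induced_iff.1
        ((V w).2.preimage (continuous_subtype_val.comp g.1.continuous))
      convert hU.inter o''.opn.2 using 1
      ext q
      constructor
      · exact fun ⟨hq, h⟩ => ⟨(Set.ext_iff.1 hUV ⟨q, hq⟩).2 h, hq⟩
      · exact fun ⟨h, hq⟩ => ⟨hq, (Set.ext_iff.1 hUV ⟨q, hq⟩).1 h⟩⟩
    have hWle : W ≤ o''.opn := fun q hq => hq.1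
    let g₁ : (⟨o''.idx, W⟩ : Obj a) ⟶ ⟨o'.idx, V w⟩ :=
      ⟨⟨fun q => ⟨(g.1 ⟨q.1, hWle q.2⟩).1, q.2.2⟩, Continuous.subtype_mk
        (continuous_subtype_val.comp (g.1.continuous.comp (continuous_inclusion hWle))) _⟩,
        fun q => g.2 ⟨q.1, hWle q.2⟩⟩
    have h : g₁ ≫ pc w = incl hWle ≫ x g hg := hx g₁ (incl hWle) (hR' w) hg rfl
    have hz : z.1 ∈ W := ⟨z.2, hw w⟩
    exact (congrArg (fun m : (⟨o''.idx, W⟩ : Obj a) ⟶ o => m.1 ⟨z.1, hz⟩) h)
  · exact congrArg (fun m : (⟨o'.idx, V y⟩ : Obj a) ⟶ o => m.1 ⟨y.1, hw y⟩) (ht' (incl (hV y)) (hR' y))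

/-- The sheaf of sets represented by an object. -/
noncomputable def rep (o : Obj a) : Sheaf (topology a) (Type u) :=
  ⟨yoneda.obj o, isSheaf_yoneda o⟩

end Groth.Agent.SiteCoh.Fam
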