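import Groth.Agent.SiteCoh.SpaceFamily
import Mathlib.Topology.Sheaves.Functors

/-!
# Inverse images inside the site of a family of spaces over a base
-/

set_option autoImplicit false

universe u

open CategoryTheory CategoryTheory.Limits Opposite TopologicalSpace

namespace Groth.Agent.SiteCoh.Fam

variable {S : TopCat.{u}} {ι : Type u} (Z : ι → TopCat.{u}) (b : ∀ i, Z i ⟶ S)

/-- The family together with the base. -/
@[reducible]
def withBase : Option ι → TopCat.{u}
  | none => S
  | some i => Z i

/-- The maps to the base. -/
@[reducible]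
def withBaseMap : ∀ i : Option ι, withBase (S := S) Z i ⟶ S
  | none => 𝟙 S
  | some i => b i

/-- The site of the family together with the base. -/
abbrev Site : Type u := Obj (withBaseMap Z b)

/-- The topology. -/
abbrev J : GrothendieckTopology (Site Z b) := topology (withBaseMap Z b)

/-- Inverse image to the site of the family. -/
noncomputable abbrev big : CohTop.Ab S ⥤ Sheaf (J Z b) AddCommGrpCat.{u} :=
  (inObj (withBaseMap Z b) none).sheafPullback AddCommGrpCat.{u} (Opens.grothendieckTopology S) (J Z b)

variable (i : Option ι)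

/-- The part of a member of the family over an open of the base, as a morphism. -/
noncomputable def over (U : Opens S) :
    (inObj (withBaseMap Z b) i).obj ((Opens.map (withBaseMap Z b i)).obj U) ⟶
      (inObj (withBaseMap Z b) none).obj U :=
  ⟨⟨fun x => ⟨withBaseMap Z b i x.1, x.2⟩,
    Continuous.subtype_mk ((withBaseMap Z b i).hom.continuous.comp continuous_subtype_val) _⟩,
    fun _ => rfl⟩

/-- The comparison object. -/
noncomputable def initialArrow (U : Opens S) :
    StructuredArrow (op ((inObj (withBaseMap Z b) none).obj U)) (inObj (withBaseMap Z b) i).op :=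
  StructuredArrow.mk (Y := op ((Opens.map (withBaseMap Z b i)).obj U)) (over Z b i U).op

/-- It is initial. -/
noncomputable def isInitialInitialArrow (U : Opens S) : IsInitial (initialArrow Z b i U) :=
  IsInitial.ofUniqueHom
    (fun j => StructuredArrow.homMk (homOfLE fun x hx => by
      let f : (inObj (withBaseMap Z b) i).obj j.right.unop ⟶ (inObj (withBaseMap Z b) none).obj U :=
        j.hom.unop
      have h : (f.1 ⟨x, hx⟩).1 = withBaseMap Z b i x := f.2 ⟨x, hx⟩
      change withBaseMap Z b i x ∈ U
      exact h ▸ (f.1 ⟨x, hx⟩).2).op (Quiver.Hom.unop_inj (hom_ext fun x => Subtype.ext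
        ((j.hom.unop.2 x).symm))))
    (fun j m => StructuredArrow.hom_ext _ _ (Quiver.Hom.unop_inj (Subsingleton.elim _ _)))

/-- Direct image to the site of the family, read on the opens of the base. -/
noncomputable abbrev ranBase : CohTop.Ab (withBase (S := S) Z i) ⥤ CohTop.Ab S :=
  (inObj (withBaseMap Z b) i).sheafPushforwardCocontinuous AddCommGrpCat.{u}
      (Opens.grothendieckTopology (withBase (S := S) Z i)) (J Z b) ⋙
    CohSite.push (J Z b) (Opens.grothendieckTopology S) (inObj (withBaseMap Z b) none)

/-- The comparison map. -/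
noncomputable def ranApp (G : CohTop.Ab (withBase (S := S) Z i)) (U : Opens S) :
    ((ranBase Z b i).obj G).obj.obj (op U) ⟶
      G.obj.obj (op ((Opens.map (withBaseMap Z b i)).obj U)) :=
  ((inObj (withBaseMap Z b) i).op.ran.obj G.obj).map (over Z b i U).op ≫
    ((inObj (withBaseMap Z b) i).op.ranCounit.app G.obj).app _

lemma isIso_ranApp (G : CohTop.Ab (withBase (S := S) Z i)) (U : Opens S) :
    IsIso (ranApp Z b i G U) :=
  IsLimit.isIso_π_app_of_isInitial
    (Functor.isPointwiseRightKanExtensionRanCounit (inObj (withBaseMap Z b) i).op G.obj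
      (op ((inObj (withBaseMap Z b) none).obj U)))
    (initialArrow Z b i U) (isInitialInitialArrow Z b i U)

lemma ranApp_naturality (G : CohTop.Ab (withBase (S := S) Z i)) {U U' : Opens S} (h : U' ⟶ U) :
    ((ranBase Z b i).obj G).obj.map h.op ≫ ranApp Z b i G U' =
      ranApp Z b i G U ≫ G.obj.map ((Opens.map (withBaseMap Z b i)).map h).op := by
  have h1 : over Z b i U' ≫ (inObj (withBaseMap Z b) none).map h =
      (inObj (withBaseMap Z b) i).map ((Opens.map (withBaseMap Z b i)).map h) ≫ over Z b i U := rfl
  let P := (inObj (withBaseMap Z b) i).op.ran.obj G.obj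
  let c := (inObj (withBaseMap Z b) i).op.ranCounit.app G.obj
  change P.map ((inObj (withBaseMap Z b) none).map h).op ≫ P.map (over Z b i U').op ≫ c.app _ =
    (P.map (over Z b i U).op ≫ c.app _) ≫ G.obj.map _
  refine Eq.trans ?_ ((congrArg (fun m => P.map (over Z b i U).op ≫ m)
    (c.naturality ((Opens.map (withBaseMap Z b i)).map h).op)).trans (Category.assoc _ _ _).symm)
  refine (Category.assoc _ _ _).symm.trans (Eq.trans ?_ (Category.assoc _ _ _))
  refine congrArg (fun m => m ≫ c.app _) ?_
  exact (P.map_comp _ _).symm.trans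
    ((congrArg (fun m => P.map (Quiver.Hom.op m)) h1).trans (P.map_comp _ _))

/-- Direct image from a member of the family. -/
noncomputable def ranBaseIso : ranBase Z b i ≅ CohTop.push (withBaseMap Z b i) :=
  NatIso.ofComponents
    (fun G => (fullyFaithfulSheafToPresheaf _ _).preimageIso
      (NatIso.ofComponents (fun U => @asIso _ _ _ _ (ranApp Z b i G U.unop) (isIso_ranApp Z b i G U.unop))
        (fun {U U'} h => ranApp_naturality Z b i G h.unop)))
    (fun {G G'} φ => by
      refine (fullyFaithfulSheafToPresheaf _ _).map_injective ?_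
      ext U : 2
      let Q : ((Opens (withBase (S := S) Z i))ᵒᵖ ⥤ AddCommGrpCat.{u}) ⥤ _ := (inObj (withBaseMap Z b) i).op.ran
      let c := (inObj (withBaseMap Z b) i).op.ranCounit (H := AddCommGrpCat.{u})
      change (Q.map φ.hom).app _ ≫ (Q.obj G'.obj).map (over Z b i U.unop).op ≫ (c.app G'.obj).app _ =
        ((Q.obj G.obj).map (over Z b i U.unop).op ≫ (c.app G.obj).app _) ≫ φ.hom.app _
      rw [← Category.assoc, ← NatTrans.naturality, Category.assoc, Category.assoc]
      exact congrArg (fun m => _ ≫ m) (NatTrans.congr_app (c.naturality φ.hom) _))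

/-- Restricting the inverse image gives the inverse image along the member of the family. -/
noncomputable def bigRestrIso :
    big Z b ⋙ restr (withBaseMap Z b) i ≅ CohTop.pull (withBaseMap Z b i) :=
  Adjunction.leftAdjointUniq
    ((((inObj (withBaseMap Z b) none).sheafAdjunctionContinuous AddCommGrpCat.{u}
        (Opens.grothendieckTopology S) (J Z b)).comp
      ((inObj (withBaseMap Z b) i).sheafAdjunctionCocontinuous AddCommGrpCat.{u}
        (Opens.grothendieckTopology (withBase (S := S) Z i)) (J Z b))).ofNatIsoRight (ranBaseIso Z b i))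
    (TopCat.Sheaf.pullbackPushforwardAdjunction AddCommGrpCat.{u} (withBaseMap Z b i))

end Groth.Agent.SiteCoh.Fam
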